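import Cfsg.Agent.Chev.TwistMult.Radical
import Cfsg.Agent.Overgroup.Twisted.Main
import Cfsg.Agent.Chev.Twist.TwoGen

/-!
Decidable certificates for separating torus elements and decompositions of fixed root groups.
-/

set_option autoImplicit false
set_option linter.unusedSectionVars false

namespace Cfsg.Agent.Chev.TwMult

open Cfsg.Lie Cfsg.Agent.Chev Cfsg.Agent.Overgroup.Twisted
open scoped MatrixGroups commutatorElement

universe u v

variable {D : ChevalleyDatum}

/-- The pairing of a list of exponents with a root. -/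
def pairW (D : ChevalleyDatum) (n : List ℤ) (r : ℕ) : ℤ :=
  ∑ i : Fin D.rank, n.getD (i : ℕ) 0 * D.cartan i r

/-- An exponent list invariant under the symmetry. -/
def invChk (π : Equiv.Perm (Fin D.rank)) (n : List ℤ) : Bool :=
  (List.finRange D.rank).all fun i => n.getD (π i : ℕ) 0 == n.getD (i : ℕ) 0

/-- A separation certificate. -/
def sepChk (π : Equiv.Perm (Fin D.rank)) (ρ : Equiv.Perm (Fin D.nroots))
    (cands : List (List ℤ)) (r s : Fin D.nroots) : Bool :=
  cands.any fun n => pairW D n r == 1 && pairW D n s == 0 &&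
    (invChk π n || (decide (ρ r = r) && decide (ρ s = s)))

/-- The orbit groups of two roots commute. -/
def commY (ρ : Equiv.Perm (Fin D.nroots)) (k : ℕ) (r s : Fin D.nroots) : Bool :=
  (List.range k).all fun i => (List.range k).all fun j =>
    commutesChk D (ρ^[j] s : Fin D.nroots) (ρ^[i] r : Fin D.nroots)

variable {F : Type u} [Field F] (T : Twist D F)

theorem commute_Y {r s : Fin D.nroots} (hr : olen T.ρ T.k r ≤ T.k) (hs : olen T.ρ T.k s ≤ T.k)
    (h : commY T.ρ T.k r s = true) (t t' : F) : Commute (Y T r t) (Y T s t') := by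
  simp only [commY, List.all_eq_true, List.mem_range] at h
  refine Commute.list_prod_left _ _ fun x hx => Commute.list_prod_right _ _ fun y hy => ?_
  obtain ⟨i, hi, rfl⟩ := List.mem_map.1 hx
  obtain ⟨j, hj, rfl⟩ := List.mem_map.1 hy
  exact commute_of_chk T.hF (Fin.is_lt _) (Fin.is_lt _)
    (h i ((List.mem_range.1 hi).trans_le hr) j ((List.mem_range.1 hj).trans_le hs)) _ _

/-- Torus parameters given by powers of a scalar. -/
noncomputable def powC (u : Fˣ) (n : List ℤ) : Fin D.rank → Fˣ := fun i => u ^ n.getD (i : ℕ) 0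

theorem chiU_powC (u : Fˣ) (n : List ℤ) (r : ℕ) :
    chiU (powC (D := D) u n) r = u ^ pairW D n r := by
  rw [chiU, pairW]
  simp only [powC, ← zpow_mul]
  exact (map_sum (zpowersHom Fˣ u |>.toAdditiveRight) _ _).symm

theorem powC_mem {u : Fˣ} (hu : T.φ (u : F) = u) {n : List ℤ} (hn : invChk T.π n = true) :
    powC u n ∈ T.cfix := by
  rw [T.mem_cfix]
  funext i
  simp only [invChk, List.all_eq_true, beq_iff_eq] at hn
  show Units.map T.φ.toMonoidHom (u ^ n.getD (T.π.symm i : ℕ) 0) = u ^ n.getD (i : ℕ) 0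
  rw [map_zpow, show Units.map T.φ.toMonoidHom u = u from Units.ext hu,
    ← hn (T.π.symm i) (List.mem_finRange _), Equiv.apply_symm_apply]

theorem chi_powC (u : Fˣ) {n : List ℤ} {r : Fin D.nroots} {e : ℤ} (h : pairW D n r = e) :
    chi (powC (D := D) u n) r = ((u ^ e : Fˣ) : F) := by
  rw [chi, chiU_powC, h]

/-- Torus parameters given by powers of a scalar and their conjugates. -/
noncomputable def normC (v : Fˣ) (n : List ℤ) : Fin D.rank → Fˣ :=
  powC v n * T.σt (powC v n)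

theorem normC_mem (hπ : ∀ i, T.π (T.π i) = i) (hφ : ∀ t, T.φ (T.φ t) = t) (v : Fˣ) (n : List ℤ) :
    normC T v n ∈ T.cfix := by
  rw [T.mem_cfix, normC, map_mul, mul_comm]
  congr 1
  funext i
  show Units.map T.φ.toMonoidHom (Units.map T.φ.toMonoidHom
    (powC v n (T.π.symm (T.π.symm i)))) = powC v n i
  have : T.π.symm (T.π.symm i) = i := by
    rw [Equiv.symm_apply_eq, Equiv.symm_apply_eq]; exact (hπ i).symm
  rw [this]
  exact Units.ext (hφ _)

theorem chi_normC (v : Fˣ) {n : List ℤ} {r : Fin D.nroots} (hr : T.ρ r = r) {e : ℤ}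
    (h : pairW D n r = e) :
    chi (normC T v n) r = (((v * Units.map T.φ.toMonoidHom v) ^ e : Fˣ) : F) := by
  have h1 : chiU (normC T v n) (r : ℕ) =
      chiU (powC (D := D) v n) (r : ℕ) * chiU (T.σt (powC v n)) (r : ℕ) := by
    simp only [chiU, normC, Pi.mul_apply, mul_zpow]
    rw [Finset.prod_mul_distrib]
  have h2 : chiU (T.σt (powC v n)) (T.ρ r : ℕ) =
      Units.map T.φ.toMonoidHom (chiU (powC (D := D) v n) (r : ℕ)) := by
    rw [show T.σt (powC v n) =
      fun i => (fun j => Units.map T.φ.toMonoidHom (powC v n j)) (T.π.symm i) from rfl,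
      T.chiU_perm (fun j => Units.map T.φ.toMonoidHom (powC v n j)), chiU, chiU, map_prod]
    exact Finset.prod_congr rfl fun i _ => (map_zpow _ _ _).symm
  rw [hr] at h2
  rw [chi, h1, h2, chiU_powC, h, map_zpow, ← mul_zpow]

theorem sep_of_chk (hπ : ∀ i, T.π (T.π i) = i) (hφ : ∀ t, T.φ (T.φ t) = t) {v : Fˣ}
    (hv : (v : F) * T.φ v ≠ 1) {cands : List (List ℤ)} {r s : Fin D.nroots}
    (h : sepChk T.π T.ρ cands r s = true) : Sep T r s := by
  simp only [sepChk, List.any_eq_true, Bool.and_eq_true, beq_iff_eq, Bool.or_eq_true,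
    decide_eq_true_eq] at h
  obtain ⟨n, -, ⟨hr, hs⟩, h⟩ := h
  set u : Fˣ := v * Units.map T.φ.toMonoidHom v with hu
  have hu1 : (u : F) ≠ 1 := hv
  rcases h with hn | ⟨fr, fs⟩
  · refine ⟨powC u n, powC_mem T (u := u) ?_ hn, ?_, ?_⟩
    · show T.φ ((v : F) * T.φ v) = v * T.φ v
      rw [map_mul, hφ, mul_comm]
    · rw [chi_powC u hr, zpow_one]; exact hu1
    · rw [chi_powC u hs, zpow_zero, Units.val_one]
  · refine ⟨normC T v n, normC_mem T hπ hφ v n, ?_, ?_⟩
    · rw [chi_normC T v fr hr, zpow_one]; exact hu1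
    · rw [chi_normC T v fs hs, zpow_zero, Units.val_one]

/-- A root element as a commutator. -/
theorem xG_eq_br {r s u : ℕ} {c : ℤ} (hr : r < D.nroots) (hs : s < D.nroots) (hsr : s ≠ r)
    (hsn : s ≠ D.neg r) (hc : c = 1 ∨ c = -1) (hct : D.commTerms r s = [(u, c, 1, 1)]) (t : F) :
    xG T.hF u t = ⁅xG T.hF s (-1 : F), xG T.hF r ((c : F) * t)⁆ := by
  set e : F := (c : F) with he
  have hee : e * e = 1 := by rcases hc with a | a <;> simp [he, a]
  have h := xG_comm T.hF hr hs hsr hsn (-(e * t)) (1 : F)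
  have hw : wordG T.hF (D.commWord F r s (-(e * t)) 1) = xG T.hF u t := by
    rw [ChevalleyDatum.commWord, hct]
    simp only [List.map_cons, List.map_nil, wordG, List.prod_cons, List.prod_nil, mul_one, pow_one,
      neg_neg]
    rw [← he, ← mul_assoc, hee, one_mul]
  rw [hw] at h
  rw [show (-1 : F) = -(1 : F) from rfl, ← xG_inv, show e * t = -(-(e * t)) by ring, ← xG_inv,
    commutatorElement_def, inv_inv, inv_inv,
    show (xG T.hF s (1 : F))⁻¹ * (xG T.hF r (-(e * t)))⁻¹ * xG T.hF s (1 : F) *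
        xG T.hF r (-(e * t)) =
      (xG T.hF s (1 : F))⁻¹ * (xG T.hF r (-(e * t)))⁻¹ *
        (xG T.hF s (1 : F) * xG T.hF r (-(e * t))) by group, h]
  group

theorem commutator_pair {G : Type*} [Group G] {a b c d : G} (hab : Commute a b) (hcd : Commute c d)
    (had : Commute a d) (hbc : Commute b c) : ⁅a * b, c * d⁆ = ⁅a, c⁆ * ⁅b, d⁆ := by
  have ha : Commute a ⁅b, d⁆ := by
    rw [commutatorElement_def]
    exact ((hab.mul_right had).mul_right hab.inv_right).mul_right had.inv_right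
  have hc : Commute c ⁅b, d⁆ := by
    rw [commutatorElement_def]
    exact ((hbc.symm.mul_right hcd).mul_right hbc.symm.inv_right).mul_right hcd.inv_right
  have hd : Commute d a⁻¹ := had.symm.inv_right
  calc ⁅a * b, c * d⁆ = a * (b * c) * d * b⁻¹ * (a⁻¹ * d⁻¹) * c⁻¹ := by
        simp only [commutatorElement_def]; group
    _ = a * c * (b * d * b⁻¹) * (d⁻¹ * a⁻¹) * c⁻¹ := by
        rw [hbc.eq, (had.inv_left.inv_right).eq]; group
    _ = a * (c * ⁅b, d⁆) * a⁻¹ * c⁻¹ := by simp only [commutatorElement_def]; group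
    _ = a * ⁅b, d⁆ * (c * a⁻¹ * c⁻¹) := by rw [hc.eq]; group
    _ = ⁅b, d⁆ * ⁅a, c⁆ := by rw [ha.eq]; simp only [commutatorElement_def]; group
    _ = ⁅a, c⁆ * ⁅b, d⁆ := by
        rw [commutatorElement_def a c]
        exact (((ha.mul_left hc).mul_left ha.inv_left).mul_left hc.inv_left).symm.eq

/-- A certificate writing an orbit group as commutators. -/
def decChk (ρ : Equiv.Perm (Fin D.nroots)) (k : ℕ) (r a b : Fin D.nroots) : Bool :=
  decide (half D ≤ (r : ℕ)) && decide (half D ≤ (a : ℕ)) && decide (half D ≤ (b : ℕ)) &&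
  decide (olen ρ k a = olen ρ k r) && decide (olen ρ k b = olen ρ k r) &&
  decide ((b : ℕ) ≠ a) && decide ((b : ℕ) ≠ D.neg a) &&
  (match D.commTerms a b with
    | [(u, c, 1, 1)] => decide (u = (r : ℕ)) && (decide (c = 1) || decide (c = -1))
    | _ => false) &&
  (decide (ρ r = r) || (commutesChk D (ρ a : Fin D.nroots) b &&
    commutesChk D (ρ b : Fin D.nroots) a)) &&
  commY ρ k r a && commY ρ k r b

theorem Y_eq_pair (hk : T.k = 2) {r : Fin D.nroots} (hr : T.ρ r ≠ r) (t : F) :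
    Y T r t = xG T.hF r t * T.σ (xG T.hF r t) := by
  rw [Y, show olen T.ρ T.k r = 2 by rw [olen, if_neg hr, hk]]
  simp only [List.range_succ, List.range_zero, List.nil_append, List.map_cons, List.cons_append,
    List.map_nil, List.prod_cons, List.prod_nil, mul_one]
  rw [← σ_iterate_x T 0, ← σ_iterate_x T 1]
  rfl

variable {mu : List (List ℤ)} (R : RootFacts D mu T.ρ T.ε T.k) {Γ : Type v} [Group Γ]
  {σ : Γ →* ↥T.G1} (E : CExt σ)
include R E

theorem comY_self_of_chk (hk : T.k = 2) {r a b : Fin D.nroots}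
    (h : decChk T.ρ T.k r a b = true) : ComY σ r r := by
  rcases hct : D.commTerms (a : ℕ) (b : ℕ) with _ | ⟨⟨u, c, e1, e2⟩, _ | ⟨x, l⟩⟩
  · simp [decChk, hct] at h
  swap
  · simp [decChk, hct] at h
  by_cases he : e1 = 1 ∧ e2 = 1
  swap
  · exfalso
    simp only [decChk, hct, Bool.and_eq_true] at h
    obtain ⟨⟨⟨⟨-, hm⟩, -⟩, -⟩, -⟩ := h
    split at hm <;> simp_all
  obtain ⟨rfl, rfl⟩ := he
  simp only [decChk, hct, Bool.and_eq_true, decide_eq_true_eq, Bool.or_eq_true] at h
  obtain ⟨⟨⟨⟨⟨⟨⟨⟨⟨⟨hr, ha⟩, hb⟩, hla⟩, hlb⟩, hne⟩, hnn⟩, hu, hc⟩, hx⟩, hca⟩, hcb⟩ := h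
  subst hu
  have hy := yFacts_of_pos R ha
  have hy' := yFacts_of_pos R hb
  refine E.comY_self_of_dec hy' hy (fun t ht => ?_)
    (fun t s => commute_Y T (olen_le R r) (olen_le R b) hcb t s)
    (fun t s => commute_Y T (olen_le R r) (olen_le R a) hca t s)
  have hbr := xG_eq_br T a.2 b.2 hne hnn hc hct t
  have hop : OPar T a ((c : F) * t) := by
    unfold OPar at ht ⊢
    rw [hla, map_mul, map_intCast, ht]
  refine ⟨-1, (c : F) * t, by unfold OPar; simp, hop, ?_⟩
  by_cases hρ : T.ρ r = r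
  · have h1 : olen T.ρ T.k r = 1 := by rw [olen, if_pos hρ]
    have hfix : ∀ {x : Fin D.nroots}, olen T.ρ T.k x = 1 → T.ρ x = x := fun {x} hx => by
      by_contra hne'
      rw [olen, if_neg hne', hk] at hx
      omega
    rw [Y_of_fixed T hρ, Y_of_fixed T (hfix (hla.trans h1)), Y_of_fixed T (hfix (hlb.trans h1)),
      hbr]
  · have hmove : ∀ {x : Fin D.nroots}, olen T.ρ T.k x = olen T.ρ T.k r → T.ρ x ≠ x :=
      fun {x} hx e => by
        rw [olen, if_pos e, olen, if_neg hρ, hk] at hx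
        omega
    obtain ⟨hx1, hx2⟩ := hx.resolve_left hρ
    rw [Y_eq_pair T hk hρ, Y_eq_pair T hk (hmove hla), Y_eq_pair T hk (hmove hlb), hbr,
      map_commutatorElement]
    have hσ : ∀ (x : Fin D.nroots) (v : F), ∃ w, T.σ (xG T.hF x v) = xG T.hF (T.ρ x) w :=
      fun x v => ⟨_, σ_xG T x v⟩
    have hself : ∀ {x : Fin D.nroots}, half D ≤ (x : ℕ) → ∀ v : F,
        Commute (xG T.hF x v) (T.σ (xG T.hF x v)) := fun {x} hx v => by
      obtain ⟨w, hw⟩ := hσ x v
      rw [hw]
      exact commute_orbit T R hx 0 1 _ _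
    refine commutator_pair (hself hb _) (hself ha _) ?_ ?_
    · obtain ⟨w, hw⟩ := hσ a ((c : F) * t)
      rw [hw]
      exact commute_of_chk T.hF (Fin.is_lt _) b.2 hx1 _ _
    · obtain ⟨w, hw⟩ := hσ b (-1)
      rw [hw]
      exact (commute_of_chk T.hF (Fin.is_lt _) a.2 hx2 _ _).symm

theorem comY_self_word {r r' : Fin D.nroots} (ws : List (Fin T.m))
    (hw : foldW D T.π T.base T.len ws r = (r' : ℕ))
    (hl : olen T.ρ T.k r' = olen T.ρ T.k r) (h : ComY σ r r) : ComY σ r' r' := by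
  obtain ⟨e, he, hc⟩ := T.nWord_conj_x (T.flat ws) r (F := F)
  refine E.comY_self_conj R (T.N1_le_G1 (T.nW_mem_N1 ws)) hl (fun t => (hc t).trans ?_) he h
  show xG T.hF (T.pW ws r : ℕ) (e * t) = _
  rw [pW_foldW, hw]

theorem comY_of_sep' {r s : Fin D.nroots} (hr : half D ≤ (r : ℕ)) (hs : half D ≤ (s : ℕ))
    (h : Sep T r s ∨ Sep T s r) (hc : commY T.ρ T.k r s = true) : ComY σ r s := by
  have hcomm := fun t t' => commute_Y T (olen_le R r) (olen_le R s) hc t t'
  rcases h with ⟨c, hc', h1, h0⟩ | ⟨c, hc', h1, h0⟩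
  · exact E.comY_of_sep R (yFacts_of_pos R hr) hc' h1 h0 hcomm
  · exact ComY.symm (E.comY_of_sep R (yFacts_of_pos R hs) hc' h1 h0 fun t t' => (hcomm t' t).symm)

end Cfsg.Agent.Chev.TwMult
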