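import Mathlib
import Cfsg.Agent.SLMult.Cross
import Cfsg.Agent.Chev.SL2Hom

/-!
Central extensions with kernel prime to `p`: lifts of `p`-elements, of `p`-subgroups and of
representations of `SL₂` in characteristic `p`.
-/

set_option autoImplicit false

namespace Cfsg.Agent.Chev

open Matrix
open scoped MatrixGroups

universe u v w

namespace CoExt

/-- A finite central extension whose kernel has order prime to `p`. -/
structure Ok {Γ : Type v} [Group Γ] {G : Type w} [Group G] (p : ℕ) (σ : Γ →* G) : Prop where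
  surj : Function.Surjective σ
  cen : σ.ker ≤ Subgroup.center Γ
  cop : (Nat.card σ.ker).Coprime p

/-- An element of `p`-power order. -/
def PE {M : Type*} [Monoid M] (p : ℕ) (x : M) : Prop := ∃ k : ℕ, x ^ p ^ k = 1

theorem pe_one {M : Type*} [Monoid M] (p : ℕ) : PE p (1 : M) := ⟨0, one_pow _⟩

theorem PE.conj {M : Type*} [Group M] {p : ℕ} {x : M} (h : PE p x) (g : M) :
    PE p (g * x * g⁻¹) := by
  obtain ⟨k, hk⟩ := h
  exact ⟨k, by rw [conj_pow, hk, mul_one, mul_inv_cancel]⟩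

theorem PE.map {M N : Type*} [Monoid M] [Monoid N] {p : ℕ} {x : M} (h : PE p x) (f : M →* N) :
    PE p (f x) := by
  obtain ⟨k, hk⟩ := h
  exact ⟨k, by rw [← map_pow, hk, map_one]⟩

variable {Γ : Type v} [Group Γ] {G : Type w} [Group G] {p : ℕ} {σ : Γ →* G} (O : Ok p σ)
include O

theorem Ok.eq_one {z : Γ} (hz : σ z = 1) (hp : PE p z) : z = 1 := by
  obtain ⟨k, hk⟩ := hp
  have h : z ^ Nat.card σ.ker = 1 :=
    congrArg Subtype.val (pow_card_eq_one' (x := (⟨z, hz⟩ : σ.ker)))
  have := pow_gcd_eq_one.2 ⟨h, hk⟩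
  rwa [Nat.Coprime.gcd_eq_one (O.cop.pow_right k), pow_one] at this

theorem Ok.eq_of {a b : Γ} (e : σ a = σ b) (ha : PE p a) (hb : PE p b) : a = b := by
  have hz : σ (b⁻¹ * a) = 1 := by rw [map_mul, map_inv, e, inv_mul_cancel]
  have hc : Commute b (b⁻¹ * a) := Subgroup.mem_center_iff.1 (O.cen (MonoidHom.mem_ker.2 hz)) b
  obtain ⟨k, hk⟩ := ha
  obtain ⟨l, hl⟩ := hb
  refine (inv_mul_eq_one.1 (O.eq_one hz ⟨k + l, ?_⟩)).symm
  have ea : a ^ p ^ (k + l) = 1 := by rw [pow_add, pow_mul, hk, one_pow]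
  have eb : b ^ p ^ (k + l) = 1 := by rw [pow_add, mul_comm, pow_mul, hl, one_pow]
  have := hc.mul_pow (p ^ (k + l))
  rw [mul_inv_cancel_left, ea, eb, one_mul] at this
  exact this.symm

omit O in
open scoped _root_.Classical in
/-- The lift of `p`-power order. -/
noncomputable def lft (p : ℕ) (σ : Γ →* G) (g : G) : Γ :=
  if h : ∃ a, σ a = g ∧ PE p a then h.choose else 1

theorem Ok.lft_eq {g : G} {a : Γ} (ha : σ a = g) (hp : PE p a) : lft p σ g = a := by
  have h : ∃ a, σ a = g ∧ PE p a := ⟨a, ha, hp⟩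
  rw [lft, dif_pos h]
  exact O.eq_of (h.choose_spec.1.trans ha.symm) h.choose_spec.2 hp

theorem Ok.lft_one : lft p σ 1 = 1 := O.lft_eq (map_one σ) (pe_one p)

theorem Ok.exists_lift [Finite Γ] {g : G} (hg : PE p g) : ∃ a, σ a = g ∧ PE p a := by
  obtain ⟨k, hk⟩ := hg
  obtain ⟨b, rfl⟩ := O.surj g
  set n := Nat.card σ.ker
  have hn : (p ^ k).Coprime n := (O.cop.pow_right k).symm
  obtain ⟨e, he1, he0⟩ := Nat.chineseRemainder hn 1 0
  refine ⟨b ^ e, ?_, k, ?_⟩
  · rw [map_pow, pow_eq_pow_mod e hk, he1, ← pow_eq_pow_mod 1 hk, pow_one]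
  · obtain ⟨c, rfl⟩ := Nat.modEq_zero_iff_dvd.1 he0
    rw [← pow_mul, mul_comm (n * c), ← mul_assoc, mul_comm _ c, mul_comm c, pow_mul, pow_mul]
    have hz : (⟨b ^ p ^ k, by rw [MonoidHom.mem_ker, map_pow, hk]⟩ : σ.ker) ^ n = 1 :=
      pow_card_eq_one'
    have hz' : (b ^ p ^ k) ^ n = 1 := congrArg Subtype.val hz
    rw [hz', one_pow]

theorem Ok.σ_lft [Finite Γ] {g : G} (hg : PE p g) : σ (lft p σ g) = g ∧ PE p (lft p σ g) := by
  obtain ⟨a, ha, hp⟩ := O.exists_lift hg
  rw [O.lft_eq ha hp]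
  exact ⟨ha, hp⟩

theorem Ok.lft_conj [Finite Γ] (γ : Γ) {g : G} (hg : PE p g) :
    γ * lft p σ g * γ⁻¹ = lft p σ (σ γ * g * (σ γ)⁻¹) := by
  obtain ⟨h1, h2⟩ := O.σ_lft hg
  exact (O.lft_eq (by rw [map_mul, map_mul, map_inv, h1]) (h2.conj γ)).symm

theorem Ok.lft_mul [Finite Γ] [hp : Fact p.Prime] {H : Subgroup G} (hH : IsPGroup p H) {a b : G}
    (ha : a ∈ H) (hb : b ∈ H) : lft p σ (a * b) = lft p σ a * lft p σ b := by
  haveI : Finite G := Finite.of_surjective σ O.surj
  have pe : ∀ {x : G}, x ∈ H → PE p x := fun hx => by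
    obtain ⟨k, hk⟩ := hH ⟨_, hx⟩
    exact ⟨k, congrArg Subtype.val hk⟩
  set Q := H.comap σ with hQ
  obtain ⟨P⟩ := (inferInstance : Nonempty (Sylow p ↥Q))
  set f : ↥Q →* ↥H := σ.subgroupComap H with hf
  have hfs : Function.Surjective f := σ.subgroupComap_surjective_of_surjective H O.surj
  have hmap : (P : Subgroup ↥Q).map f = ⊤ := by
    rw [← Sylow.coe_mapSurjective hfs P]
    exact ((P.mapSurjective hfs).3 (hH.to_subgroup ⊤) le_top).symm
  have key : ∀ x ∈ H, ∃ y : ↥Q, y ∈ (P : Subgroup ↥Q) ∧ lft p σ x = (y : Γ) := by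
    intro x hx
    obtain ⟨y, hy, e⟩ : (⟨x, hx⟩ : ↥H) ∈ (P : Subgroup ↥Q).map f := hmap ▸ Subgroup.mem_top _
    obtain ⟨k, hk⟩ := P.2 ⟨y, hy⟩
    exact ⟨y, hy, O.lft_eq (congrArg Subtype.val e)
      ⟨k, congrArg (fun z : ↥(P : Subgroup ↥Q) => ((z : ↥Q) : Γ)) hk⟩⟩
  obtain ⟨x, hx, ex⟩ := key a ha
  obtain ⟨y, hy, ey⟩ := key b hb
  obtain ⟨h1, -⟩ := O.σ_lft (pe ha)
  obtain ⟨h2, -⟩ := O.σ_lft (pe hb)
  obtain ⟨k, hk⟩ := P.2 ⟨x * y, mul_mem hx hy⟩
  refine O.lft_eq (by rw [map_mul, h1, h2]) ⟨k, ?_⟩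
  rw [ex, ey]
  exact congrArg (fun z : ↥(P : Subgroup ↥Q) => ((z : ↥Q) : Γ)) hk

end CoExt

namespace CoExt

variable {F : Type u} [Field F] [Fintype F]

theorem sl2_closure :
    Subgroup.closure {g : SL(2, F) | g ^ ringChar F = 1} = ⊤ := by
  have hup : ∀ t : F, SL2Data.upper t ∈ Subgroup.closure {g : SL(2, F) | g ^ ringChar F = 1} := by
    intro t
    refine Subgroup.subset_closure ?_
    have h : ∀ n : ℕ, (SL2Data.upper t) ^ n = SL2Data.upper ((n : F) * t) := by
      intro n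
      induction n with
      | zero =>
        rw [pow_zero]
        ext i j; fin_cases i <;> fin_cases j <;> simp [SL2Data.upper]
      | succ n ih =>
        rw [pow_succ, ih]
        apply Subtype.ext
        change (SL2Data.upper ((n : F) * t)).1 * (SL2Data.upper t).1 = _
        ext i j
        fin_cases i <;> fin_cases j <;>
          simp [SL2Data.upper, Matrix.mul_apply, Fin.sum_univ_two] <;> ring
    show SL2Data.upper t ^ ringChar F = 1
    rw [h, CharP.cast_eq_zero, zero_mul]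
    ext i j; fin_cases i <;> fin_cases j <;> simp [SL2Data.upper]
  let low : SL(2, F) := ⟨!![1, 0; -1, 1], by simp [det_fin_two]⟩
  have hlow : low ∈ Subgroup.closure {g : SL(2, F) | g ^ ringChar F = 1} := by
    refine Subgroup.subset_closure ?_
    have h : ∀ n : ℕ, ((low : SL(2, F)) : Matrix (Fin 2) (Fin 2) F) ^ n =
        !![1, 0; -(n : F), 1] := by
      intro n
      induction n with
      | zero => ext i j; fin_cases i <;> fin_cases j <;> simp
      | succ n ih =>
        rw [pow_succ, ih]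
        ext i j
        fin_cases i <;> fin_cases j <;> simp [low, Matrix.mul_apply, Fin.sum_univ_two] <;> ring
    show low ^ ringChar F = 1
    apply Subtype.ext
    refine (Matrix.SpecialLinearGroup.coe_pow low (ringChar F)).trans ?_
    rw [h, CharP.cast_eq_zero]
    ext i j; fin_cases i <;> fin_cases j <;> simp
  have hw : SL2Data.weyl (F := F) = SL2Data.upper 1 * low * SL2Data.upper 1 := by
    apply Subtype.ext
    change _ = (SL2Data.upper (1 : F)).1 * low.1 * (SL2Data.upper (1 : F)).1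
    ext i j
    fin_cases i <;> fin_cases j <;>
      simp [SL2Data.weyl, SL2Data.upper, low, Matrix.mul_apply, Fin.sum_univ_two]
  rw [eq_top_iff]
  intro g _
  have hg : g ∈ Submonoid.closure
      (Set.range (SL2Data.upper (F := F)) ∪ {SL2Data.weyl}) := by
    rw [SL2Data.closure_generators]; exact Submonoid.mem_top _
  induction hg using Submonoid.closure_induction with
  | mem x hx =>
    rcases hx with ⟨b, rfl⟩ | rfl
    · exact hup b
    · rw [hw]; exact mul_mem (mul_mem (hup 1) hlow) (hup 1)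
  | one => exact one_mem _
  | mul x y _ _ hx hy => exact mul_mem (hx (Subgroup.mem_top _)) (hy (Subgroup.mem_top _))

/-- A stem extension of `SL(2, F)` with kernel prime to the characteristic is trivial. -/
theorem sl2_stem_trivial : ∀ (n : ℕ) {Γ : Type v} [Group Γ] [Finite Γ] (σ : Γ →* SL(2, F)),
    Nat.card Γ = n → Cfsg.IsStemExtension σ → (Nat.card σ.ker).Coprime (ringChar F) →
      σ.ker = ⊥ := by
  intro n
  induction n using Nat.strong_induction_on with
  | _ n ih =>
    intro Γ _ _ σ hn hσ hcop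
    haveI hp : Fact (ringChar F).Prime := ⟨CharP.char_is_prime F _⟩
    by_contra hne
    obtain ⟨r, hr, hrd⟩ := Nat.exists_prime_and_dvd (fun h => hne (Subgroup.card_eq_one.mp h))
    haveI := Fact.mk hr
    obtain ⟨⟨z, hzK⟩, hz⟩ := exists_prime_orderOf_dvd_card' (G := σ.ker) r hrd
    rw [Subgroup.orderOf_mk] at hz
    set N := Subgroup.zpowers z
    have hNK : N ≤ σ.ker := Subgroup.zpowers_le.mpr hzK
    haveI : N.Normal := ⟨fun x hx g => by
      rw [Subgroup.mem_center_iff.mp (hσ.2.1 (hNK hx)) g, mul_inv_cancel_right]; exact hx⟩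
    by_cases hKN : σ.ker = N
    · have hrp : r ≠ ringChar F := fun e =>
        hr.ne_one (Nat.eq_one_of_dvd_coprimes hcop hrd (e ▸ dvd_rfl))
      have h1 := SLMult.cross_notMem hrp σ hσ.1 hσ.2.1
        (by rw [hKN, Nat.card_zpowers, hz]) hzK (Subgroup.mem_sup_left (hσ.2.2 hzK))
      rw [h1, orderOf_one] at hz
      exact hr.ne_one hz.symm
    let σ' : Γ ⧸ N →* SL(2, F) := QuotientGroup.lift N σ hNK
    have hk : σ'.ker = σ.ker.map (QuotientGroup.mk' N) := QuotientGroup.ker_lift ..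
    have hs' : Cfsg.IsStemExtension σ' := by
      refine ⟨fun g => ?_, ?_, ?_⟩
      · obtain ⟨a, rfl⟩ := hσ.1 g
        exact ⟨QuotientGroup.mk a, rfl⟩
      · rw [hk]
        rintro _ ⟨x, hx, rfl⟩
        refine Subgroup.mem_center_iff.2 fun y => ?_
        obtain ⟨y, rfl⟩ := QuotientGroup.mk'_surjective N y
        rw [← map_mul, ← map_mul, Subgroup.mem_center_iff.mp (hσ.2.1 hx) y]
      · rw [hk, commutator_def, ← Subgroup.map_top_of_surjective _ (QuotientGroup.mk'_surjective N),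
          ← Subgroup.map_commutator]
        exact Subgroup.map_mono hσ.2.2
    have hlt : Nat.card (Γ ⧸ N) < n := by
      have h1 := Subgroup.card_eq_card_quotient_mul_card_subgroup N
      rw [Nat.card_zpowers, hz] at h1
      rw [← hn, h1]
      exact lt_mul_of_one_lt_right Nat.card_pos hr.one_lt
    have hb := ih _ hlt σ' rfl hs' (hcop.coprime_dvd_left (by
      rw [hk]; exact Subgroup.card_map_dvd σ.ker _))
    refine hKN (le_antisymm (fun x hx => ?_) hNK)
    have : QuotientGroup.mk' N x ∈ σ'.ker := hk ▸ ⟨x, hx, rfl⟩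
    rw [hb, Subgroup.mem_bot] at this
    exact (QuotientGroup.eq_one_iff x).1 this

/-- A map from `SL(2, F)` lifts through a central extension with kernel prime to the
characteristic. -/
theorem Ok.exists_sl2_lift {Γ : Type v} [Group Γ] [Finite Γ] {G : Type w} [Group G]
    {σ : Γ →* G} (O : Ok (ringChar F) σ) (ψ : SL(2, F) →* G) :
    ∃ Φ : SL(2, F) →* Γ, σ.comp Φ = ψ := by
  haveI hp : Fact (ringChar F).Prime := ⟨CharP.char_is_prime F _⟩
  set p := ringChar F
  let P : Subgroup (SL(2, F) × Γ) := (ψ.comp (MonoidHom.fst _ Γ)).eqLocus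
    (σ.comp (MonoidHom.snd _ Γ))
  let q : ↥P →* SL(2, F) := (MonoidHom.fst _ Γ).comp P.subtype
  set P0 : Subgroup ↥P := Subgroup.closure {x | x ^ p = 1} with hP0
  let τ : ↥P0 →* SL(2, F) := q.comp P0.subtype
  have hτs : Function.Surjective τ := by
    rw [← MonoidHom.range_eq_top, eq_top_iff, ← sl2_closure, Subgroup.closure_le]
    intro g hg
    have hpe : PE p (ψ g) := ⟨1, by rw [pow_one, ← map_pow, show g ^ p = 1 from hg, map_one]⟩
    obtain ⟨h1, h2⟩ := O.σ_lft hpe
    have hlp : lft p σ (ψ g) ^ p = 1 := by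
      refine O.eq_one ?_ ?_
      · rw [map_pow, h1, ← map_pow, show g ^ p = 1 from hg, map_one]
      · obtain ⟨k, hk⟩ := h2
        exact ⟨k, by rw [← pow_mul, mul_comm, pow_mul, hk, one_pow]⟩
    have hmem : ((g, lft p σ (ψ g)) : SL(2, F) × Γ) ∈ P := h1.symm
    refine ⟨⟨⟨_, hmem⟩, Subgroup.subset_closure ?_⟩, rfl⟩
    exact Subtype.ext (Prod.ext hg hlp)
  have hker : ∀ x ∈ τ.ker, σ ((x : ↥P) : SL(2, F) × Γ).2 = 1 := fun x hx => by
    have h : ψ ((x : ↥P) : SL(2, F) × Γ).1 = σ ((x : ↥P) : SL(2, F) × Γ).2 := (x : ↥P).2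
    exact h.symm.trans ((congrArg ψ (hx : ((x : ↥P) : SL(2, F) × Γ).1 = 1)).trans (map_one ψ))
  let em : ↥τ.ker →* ↥σ.ker :=
    { toFun := fun x => ⟨_, MonoidHom.mem_ker.2 (hker x x.2)⟩
      map_one' := rfl
      map_mul' := fun _ _ => rfl }
  have hcop : (Nat.card τ.ker).Coprime p := O.cop.coprime_dvd_left
    (Subgroup.card_dvd_of_injective em fun x y e => by
      have e2 : (((x : ↥P0) : ↥P) : SL(2, F) × Γ).2 = (((y : ↥P0) : ↥P) : SL(2, F) × Γ).2 :=
        congrArg Subtype.val e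
      refine Subtype.ext (Subtype.ext (Subtype.ext (Prod.ext ?_ e2)))
      exact (x.2 : _ = (1 : SL(2, F))).trans (y.2 : _ = (1 : SL(2, F))).symm)
  have hstem : Cfsg.IsStemExtension τ := by
    refine ⟨hτs, fun x hx => Subgroup.mem_center_iff.2 fun y => ?_, fun x hx => ?_⟩
    · refine Subtype.ext (Subtype.ext (Prod.ext ?_ ?_))
      · show ((y : ↥P) : SL(2, F) × Γ).1 * ((x : ↥P) : SL(2, F) × Γ).1 = _ * _
        rw [show ((x : ↥P) : SL(2, F) × Γ).1 = 1 from hx, mul_one, one_mul]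
      · exact Subgroup.mem_center_iff.1 (O.cen (MonoidHom.mem_ker.2 (hker x hx))) _
    · rw [commutator_def, ← commutator_def]
      refine (QuotientGroup.eq_one_iff (N := commutator ↥P0) x).1 ?_
      have hexp : ∀ y : Abelianization ↥P0, y ^ p = 1 := by
        intro y
        obtain ⟨⟨y, hy⟩, rfl⟩ := QuotientGroup.mk_surjective y
        induction hy using Subgroup.closure_induction with
        | mem w hw =>
          exact (map_pow (Abelianization.of (G := ↥P0)) _ p).symm.trans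
            ((congrArg Abelianization.of (show (⟨w, Subgroup.subset_closure hw⟩ : ↥P0) ^ p = 1 from
              Subtype.ext hw)).trans (map_one _))
        | one => exact one_pow _
        | mul a b ha hb iha ihb =>
          refine Eq.trans ?_ ((congrArg₂ (· * ·) iha ihb).trans (one_mul 1))
          exact mul_pow (Abelianization.of (⟨a, ha⟩ : ↥P0)) (Abelianization.of (⟨b, hb⟩ : ↥P0)) p
        | inv a ha iha =>
          refine Eq.trans ?_ ((congrArg (·⁻¹) iha).trans inv_one)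
          exact inv_pow (Abelianization.of (⟨a, ha⟩ : ↥P0)) p
      have hn : Abelianization.of x ^ Nat.card τ.ker = 1 :=
        (map_pow (Abelianization.of (G := ↥P0)) x _).symm.trans
          ((congrArg Abelianization.of (show x ^ Nat.card τ.ker = 1 from
            congrArg Subtype.val (pow_card_eq_one' (x := (⟨x, hx⟩ : τ.ker))))).trans (map_one _))
      have h := (pow_gcd_eq_one (a := Abelianization.of x)).2 ⟨hn, hexp _⟩
      rwa [Nat.Coprime.gcd_eq_one hcop, pow_one] at h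
  have hbot := sl2_stem_trivial _ τ rfl hstem hcop
  let eq := MulEquiv.ofBijective τ ⟨(MonoidHom.ker_eq_bot_iff τ).mp hbot, hτs⟩
  refine ⟨((MonoidHom.snd _ Γ).comp (P.subtype.comp P0.subtype)).comp eq.symm.toMonoidHom,
    MonoidHom.ext fun g => ?_⟩
  have h1 : τ (eq.symm g) = g := eq.apply_symm_apply g
  show σ (((eq.symm g : ↥P0) : ↥P) : SL(2, F) × Γ).2 = ψ g
  conv_rhs => rw [← h1]
  exact ((eq.symm g : ↥P0) : ↥P).2.symm

end CoExt

end Cfsg.Agent.Chev
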