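import Cfsg.Agent.Chev.TwistMult.D4Split

/-!
The Schur multiplier of `³D₄(q)` is trivial.
-/

set_option autoImplicit false
set_option maxRecDepth 100000
set_option maxHeartbeats 1000000

namespace Cfsg.Agent.Chev

open Cfsg.Lie Cfsg.Agent.D4Deg
open scoped MatrixGroups

universe u

namespace D4Mult

variable {K : Type u} [Field K] [Fintype K] {φ : K →+* K} {hφ : ∀ t, (φ ^ 3) t = t} {q : ℕ}

theorem not_dvd_index {p n : ℕ} [hp : Fact p.Prime] (hn : n ≠ 0) (hq : q = p ^ n)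
    (hqφ : ∀ (j : ℕ) (t : K), (φ ^ j) t = t ^ q ^ j) (hq2 : 2 ≤ q)
    (hK : Fintype.card K = q ^ 3) :
    ¬ p ∣ ((twistD4 K φ hφ).U1.subgroupOf (twistD4 K φ hφ).G1).index := by
  set T := twistD4 K φ hφ
  have h := Subgroup.card_mul_index (T.U1.subgroupOf T.G1)
  rw [Nat.card_congr (Subgroup.subgroupOfEquivOfLe T.U1_le_G1).toEquiv,
    card_U1' φ hφ hqφ hq2 hK, d4_card_G1 φ hφ hqφ hq2 hK, mul_assoc (q ^ 12), mul_assoc (q ^ 12)]
    at h
  rw [Nat.eq_of_mul_eq_mul_left (pow_pos (by omega) 12) h]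
  intro hd
  rw [← ZMod.natCast_eq_zero_iff] at hd
  have hq0 : (q : ZMod p) = 0 := by rw [hq, Nat.cast_pow, ZMod.natCast_self, zero_pow hn]
  have hge : ∀ k, 1 ≤ q ^ k := fun k => Nat.one_le_pow _ _ (by omega)
  simp [Nat.cast_sub (hge 2), Nat.cast_sub (hge 6), hq0] at hd

theorem ker_eq_bot (hqφ : ∀ (j : ℕ) (t : K), (φ ^ j) t = t ^ q ^ j) (hq2 : 2 ≤ q)
    (hK : Fintype.card K = q ^ 3) (hpp : IsPrimePow q) {Γ : Type u} [Group Γ] [Finite Γ]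
    {σ : Γ →* ↥(twistD4 K φ hφ).G1} (hσ : Cfsg.IsStemExtension σ) : σ.ker = ⊥ := by
  obtain ⟨hs, hc, hd⟩ := hσ
  obtain ⟨p, n, hp, hn, hq⟩ := hpp
  rw [← Nat.prime_iff] at hp
  haveI := Fact.mk hp
  haveI : CharP K p := charP_of_card_eq_prime_pow (f := n * 3) (by rw [hK, ← hq, pow_mul])
  have E : Ext φ hφ q σ := ⟨hs, hc, hqφ, hq2, hK⟩
  have hcop : (Nat.card σ.ker).Coprime p := by
    rw [Nat.coprime_comm, hp.coprime_iff_not_dvd]
    intro h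
    obtain ⟨⟨z, hz⟩, ho⟩ := exists_prime_orderOf_dvd_card' p h
    rw [Subgroup.orderOf_mk] at ho
    refine not_dvd_index (φ := φ) (hφ := hφ) hn.ne' hq.symm hqφ hq2 hK ?_
    have h1 := orderOf_dvd_of_pow_eq_one (E.two_part hz (hd hz))
    rwa [ho] at h1
  have hinj : ∀ c ∈ (twistD4 K φ hφ).cfix,
      (torusHom c : GL chevD4.Idx K) = 1 → c = 1 := by
    intro c hc h
    obtain ⟨h1, -⟩ := Nat.card_eq_one_iff_unique.1 (d4_card_ker φ hφ)
    have hcx : ∀ i : Fin chevD4.rank, chiU c (chevD4.simple i) = 1 := fun i =>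
      congrFun ((mem_torusHom_ker facts_chevD4 c).1 h) i
    exact congrArg (fun x => (x.1 : Fin chevD4.rank → Kˣ))
      (h1.allEq ⟨⟨c, hc⟩, hcx⟩ ⟨1, fun i => by simp [chiU]⟩)
  have C : CoTwist (twistD4 K φ hφ) p σ := ⟨⟨hs, hc, hcop⟩, inferInstance, hp⟩
  exact (Subgroup.eq_bot_iff_forall _).2 fun z hz => C.eq_one_of_commutator hinj hz (hd hz)

theorem multiplier {q : ℕ} (hq : IsPrimePow q) (hK : Fintype.card K = q ^ 3) :
    Cfsg.HasCyclicSchurMultiplier ↥(twistedD4 K q) 1 := by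
  obtain ⟨φ, hφ, hq2, hqφ, e⟩ := exists_twistD4 hq hK
  rw [← e]
  exact ProjExt.Stem.hasCyclicSchurMultiplier_one fun _ _ _ _ hσ => ker_eq_bot hqφ hq2 hK hq hσ

end D4Mult

end Cfsg.Agent.Chev
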