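import Cfsg.Agent.Chev.TwistMult.D4Rad
import Cfsg.Agent.DMult.Lift
import Cfsg.Agent.Classical.LinearBasic
import Mathlib.GroupTheory.Transfer

/-!
The positive unipotent subgroup of `³D₄(q)` lifts into every central extension.
-/

set_option autoImplicit false
set_option maxRecDepth 100000
set_option maxHeartbeats 1000000

namespace Cfsg.Agent.Chev

open Cfsg.Lie Cfsg.Agent.D4Deg
open scoped MatrixGroups commutatorElement

universe u

namespace D4Mult

open CoTwist (im)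

variable {K : Type u} [Field K] [Fintype K] (φ : K →+* K) (hφ : ∀ t, (φ ^ 3) t = t)

local notation "T" => twistD4 K φ hφ

variable {Γ : Type u} [Group Γ] [Finite Γ]

/-- A central extension. -/
structure Ext (q : ℕ) (σ : Γ →* ↥(twistD4 K φ hφ).G1) : Prop where
  surj : Function.Surjective σ
  cen : σ.ker ≤ Subgroup.center Γ
  hqφ : ∀ (j : ℕ) (t : K), (φ ^ j) t = t ^ q ^ j
  hq2 : 2 ≤ q
  hK : Fintype.card K = q ^ 3

variable {φ hφ} {q : ℕ} {σ : Γ →* ↥(twistD4 K φ hφ).G1}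

open scoped _root_.Classical in
/-- Some lift of an element. -/
noncomputable def sec (σ : Γ →* ↥(twistD4 K φ hφ).G1) (g : GL chevD4.Idx K) : Γ :=
  if h : ∃ a, im σ a = g then h.choose else 1

/-- The preimage of the radical. -/
noncomputable def radW (σ : Γ →* ↥(twistD4 K φ hφ).G1) : Subgroup Γ := (Q1 φ hφ).comap (im σ)

/-- The commutator lifting the highest root group. -/
noncomputable def gB (σ : Γ →* ↥(twistD4 K φ hφ).G1) (v : K) : Γ :=
  ⁅sec σ (X 14 (1 : K)), sec σ (X 22 v)⁆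

/-- The lift of the highest root group. -/
noncomputable def R0 (σ : Γ →* ↥(twistD4 K φ hφ).G1) : Subgroup Γ :=
  Subgroup.closure {g | ∃ v, φ v = v ∧ g = gB σ v}

theorem br_mul {G : Type u} [Group G] (a b c : G) : ⁅a, b * c⁆ = ⁅a, b⁆ * (b * ⁅a, c⁆ * b⁻¹) := by
  simp only [commutatorElement_def]; group

theorem br_conj {G : Type u} [Group G] (g a b : G) :
    g * ⁅a, b⁆ * g⁻¹ = ⁅g * a * g⁻¹, g * b * g⁻¹⁆ := by
  simp only [commutatorElement_def]; group

variable (E : Ext φ hφ q σ)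
include E

theorem Ext.im_sec {g : GL chevD4.Idx K} (hg : g ∈ (T).G1) : im σ (sec σ g) = g := by
  have h : ∃ a, im σ a = g := ⟨_, congrArg Subtype.val (E.surj ⟨g, hg⟩).choose_spec⟩
  rw [sec, dif_pos h]
  exact h.choose_spec

theorem Ext.br_congr {a a' b b' : Γ} (ha : im σ a = im σ a') (hb : im σ b = im σ b') :
    ⁅a, b⁆ = ⁅a', b'⁆ :=
  DMult.br_indep E.cen (Subtype.ext ha) (Subtype.ext hb)

/-- An element commutes with a commutator of elements it commutes with modulo the centre. -/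
theorem Ext.fixes {z a b : Γ} (ha : Commute (im σ z) (im σ a)) (hb : Commute (im σ z) (im σ b)) :
    Commute z ⁅a, b⁆ := by
  have h := br_conj z a b
  rw [E.br_congr (a := z * a * z⁻¹) (a' := a) (b := z * b * z⁻¹) (b' := b)
    (by rw [map_mul, map_mul, map_inv, ha.eq, mul_inv_cancel_right])
    (by rw [map_mul, map_mul, map_inv, hb.eq, mul_inv_cancel_right])] at h
  exact mul_inv_eq_iff_eq_mul.1 h

theorem Ext.eq_mul_center {γ δ : Γ} (h : im σ γ = im σ δ) :
    ∃ z ∈ Subgroup.center Γ, γ = δ * z :=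
  ⟨δ⁻¹ * γ, E.cen (MonoidHom.mem_ker.2 (by
    rw [map_mul, map_inv, show σ γ = σ δ from Subtype.ext h, inv_mul_cancel])),
    (mul_inv_cancel_left _ _).symm⟩

theorem Ext.W_le {H : Subgroup Γ} (hZ : σ.ker ≤ H)
    (hg : ∀ g, Gen φ hφ g → sec σ g ∈ H) : radW σ ≤ H := by
  intro γ hγ
  have h : im σ γ ∈ H.map (im σ) := by
    refine (Subgroup.closure_le _).2 ?_ ((Q1_eq φ hφ).le hγ)
    exact fun g hG => ⟨sec σ g, hg g hG, E.im_sec (Q1_le_G1 φ hφ (gen_mem_Q1 φ hφ hG))⟩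
  obtain ⟨δ, hδ, e⟩ := Subgroup.mem_map.1 h
  have hz : δ⁻¹ * γ ∈ σ.ker := MonoidHom.mem_ker.2 (by
    rw [map_mul, map_inv, show σ γ = σ δ from Subtype.ext e.symm, inv_mul_cancel])
  simpa using mul_mem hδ (hZ hz)

omit E in
theorem top_commutator (v : K) :
    X 14 (1 : K) * X 22 v * (X 14 (1 : K))⁻¹ * (X 22 v)⁻¹ = X 23 v := by
  rw [conj_X (k := 23) (c := -1) (by decide +kernel),
    ← (commute_top _ _ (mem_Qf (r := 22) (by decide) v)).eq, mul_inv_cancel_right]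
  simp

theorem Ext.im_gB {v : K} (hv : φ v = v) : im σ (gB σ v) = X 23 v := by
  rw [gB, map_commutatorElement, E.im_sec (single_mem φ hφ 14 (by decide) 1 (map_one φ)),
    E.im_sec (single_mem φ hφ 22 (by decide) v hv), commutatorElement_def, top_commutator]

omit E in
theorem long_short {r s : ℕ} (hr : r ∈ ([14, 22] : List ℕ))
    (hs : s ∈ ([19, 16, 15, 17, 20, 21] : List ℕ)) (v w : K) : Commute (X r v) (X s w) :=
  (commute_X ((by decide +kernel : ∀ x ∈ ([14, 22] : List ℕ),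
    ∀ y ∈ ([19, 16, 15, 17, 20, 21] : List ℕ), x < chevD4.nroots ∧ y < chevD4.nroots ∧ y ≠ x ∧
      y ≠ chevD4.neg x ∧ chevD4.commTerms x y = []) r hr s hs) v w).symm

omit E in
theorem long_xB {r : ℕ} (hr : r ∈ ([14, 22] : List ℕ)) (v t : K) :
    Commute (X r v) (xB φ hφ t) := by
  rw [xB_val]
  exact ((long_short hr (by decide) v _).mul_right (long_short hr (by decide) v _)).mul_right
    (long_short hr (by decide) v _)

omit E in
theorem long_xC {r : ℕ} (hr : r ∈ ([14, 22] : List ℕ)) (v t : K) :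
    Commute (X r v) (xC φ hφ t) := by
  obtain ⟨d₀, d₁, d₂, -, -, -, h⟩ := exists_xc φ hφ
  rw [xC, h]
  exact ((long_short hr (by decide) v _).mul_right (long_short hr (by decide) v _)).mul_right
    (long_short hr (by decide) v _)

/-- Two commutators give the highest root group. -/
theorem Ext.exists_short_commutator {v : K} (hv : φ v = v) :
    ∃ s t, ⁅xC φ hφ t, xB φ hφ s⁆ = X 23 v := by
  obtain ⟨d₀, d₁, d₂, e0, -, -, hC⟩ := exists_xc φ hφ
  have hd0 : d₀ ≠ 0 := by rcases e0 with rfl | rfl <;> simp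
  obtain ⟨w, hw⟩ := exists_lin_ne_zero φ E.hqφ E.hq2 E.hK (-d₁) (-d₂) hd0
  have hbr : ∀ s, ⁅xC φ hφ 1, xB φ hφ s⁆ = X 23 (d₀ * s + -d₁ * φ s + -d₂ * φ (φ s)) := by
    intro s
    have hB := xB_val φ hφ s
    have hq : xB φ hφ s ∈ Qf K := (xB_mem_Q1 φ hφ s).1
    rw [commutatorElement_def, xC, hC 1, map_one, map_one, mul_one, mul_one, mul_one, hB,
      conj_triple, ← hB, ← (commute_top _ _ hq).eq, mul_inv_cancel_right]
    congr 1
    ring
  set c := d₀ * w + -d₁ * φ w + -d₂ * φ (φ w) with hcdef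
  have hc : φ c = c := by
    refine top_fixed φ hφ ?_
    rw [← hbr w, commutatorElement_def]
    exact mul_mem (mul_mem (mul_mem (xC_mem φ hφ 1) (xB_mem φ hφ w)) (inv_mem (xC_mem φ hφ 1)))
      (inv_mem (xB_mem φ hφ w))
  refine ⟨v / c * w, 1, ?_⟩
  rw [hbr]
  congr 1
  simp only [map_mul, map_div₀, hv, hc]
  rw [show d₀ * (v / c * w) + -d₁ * (v / c * φ w) + -d₂ * (v / c * φ (φ w)) = v / c * c by
    rw [hcdef]; ring, div_mul_cancel₀ v hw]

/-- The preimage of the highest root group is central in the preimage of the radical. -/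
theorem Ext.top_central {γ δ : Γ} {v : K} (hv : φ v = v) (hγ : im σ γ = X 23 v)
    (hδ : δ ∈ radW σ) : Commute γ δ := by
  suffices H : radW σ ≤ Subgroup.centralizer {γ} from
    (Subgroup.mem_centralizer_singleton_iff.1 (H hδ)).symm
  refine E.W_le (fun z hz => Subgroup.mem_centralizer_singleton_iff.2
    (Subgroup.mem_center_iff.1 (E.cen hz) γ).symm) fun g hg => ?_
  rw [Subgroup.mem_centralizer_singleton_iff]
  have hgG := Q1_le_G1 φ hφ (gen_mem_Q1 φ hφ hg)
  obtain ⟨a, b, e, ha, hb⟩ : ∃ a b : Γ, im σ ⁅a, b⁆ = X 23 v ∧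
      Commute (im σ (sec σ g)) (im σ a) ∧ Commute (im σ (sec σ g)) (im σ b) := by
    rw [E.im_sec hgG]
    rcases hg with ⟨r, hr, w, hw, rfl⟩ | ⟨w, rfl⟩ | ⟨w, rfl⟩
    · obtain ⟨s, t, e⟩ := E.exists_short_commutator hv
      refine ⟨sec σ (xC φ hφ t), sec σ (xB φ hφ s), ?_, ?_, ?_⟩
      · rw [map_commutatorElement, E.im_sec (xC_mem φ hφ t), E.im_sec (xB_mem φ hφ s), e]
      all_goals simp only [List.mem_cons, List.not_mem_nil, or_false] at hr
      · rw [E.im_sec (xC_mem φ hφ t)]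
        rcases hr with rfl | rfl | rfl
        exacts [long_xC (by decide) _ _, long_xC (by decide) _ _,
          commute_top _ _ (xC_mem_Q1 φ hφ t).1]
      · rw [E.im_sec (xB_mem φ hφ s)]
        rcases hr with rfl | rfl | rfl
        exacts [long_xB (by decide) _ _, long_xB (by decide) _ _,
          commute_top _ _ (xB_mem_Q1 φ hφ s).1]
    all_goals
      refine ⟨sec σ (X 14 (1 : K)), sec σ (X 22 v), E.im_gB hv, ?_, ?_⟩
    all_goals first
      | rw [E.im_sec (single_mem φ hφ 14 (by decide) 1 (map_one φ))]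
      | rw [E.im_sec (single_mem φ hφ 22 (by decide) v hv)]
    · exact (long_xB (by decide) _ _).symm
    · exact (long_xB (by decide) _ _).symm
    · exact (long_xC (by decide) _ _).symm
    · exact (long_xC (by decide) _ _).symm
  obtain ⟨z, hz, rfl⟩ := E.eq_mul_center (hγ.trans e.symm)
  exact ((E.fixes ha hb).mul_right (Subgroup.mem_center_iff.1 hz (sec σ g))).eq

theorem Ext.long22_W {v : K} (hv : φ v = v) : sec σ (X 22 v) ∈ radW σ :=
  show im σ _ ∈ Q1 φ hφ by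
    rw [E.im_sec (single_mem φ hφ 22 (by decide) v hv)]
    exact long_mem_Q1 φ hφ (by decide) hv

theorem Ext.gB_add {v w : K} (hv : φ v = v) (hw : φ w = w) :
    gB σ (v + w) = gB σ v * gB σ w := by
  have h := fun (x : K) (hx : φ x = x) => single_mem φ hφ 22 (by decide) x hx
  rw [gB, E.br_congr (a := sec σ (X 14 (1 : K))) (a' := sec σ (X 14 (1 : K)))
    (b := sec σ (X 22 (v + w))) (b' := sec σ (X 22 v) * sec σ (X 22 w)) rfl
    (by rw [map_mul, E.im_sec (h v hv), E.im_sec (h w hw),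
      E.im_sec (h (v + w) (by rw [map_add, hv, hw]))]; exact (xG_mul facts_chevD4 22 v w).symm),
    br_mul, ← gB, ← gB, ← (E.top_central hw (E.im_gB hw) (E.long22_W hv)).eq,
    mul_inv_cancel_right]

theorem Ext.gB_zero : gB σ 0 = 1 := by
  have := E.gB_add (v := 0) (w := 0) (map_zero φ) (map_zero φ)
  rwa [add_zero, left_eq_mul] at this

theorem Ext.mem_R0 {g : Γ} : g ∈ R0 σ ↔ ∃ v, φ v = v ∧ g = gB σ v := by
  refine ⟨fun h => ?_, fun h => Subgroup.subset_closure h⟩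
  induction h using Subgroup.closure_induction with
  | mem x hx => exact hx
  | one => exact ⟨0, map_zero φ, E.gB_zero.symm⟩
  | mul x y _ _ hx hy =>
    obtain ⟨v, hv, rfl⟩ := hx
    obtain ⟨w, hw, rfl⟩ := hy
    exact ⟨v + w, by rw [map_add, hv, hw], (E.gB_add hv hw).symm⟩
  | inv x _ hx =>
    obtain ⟨v, hv, rfl⟩ := hx
    refine ⟨-v, by rw [map_neg, hv], inv_eq_of_mul_eq_one_right ?_⟩
    rw [← E.gB_add hv (by rw [map_neg, hv]), add_neg_cancel, E.gB_zero]

theorem Ext.R0_le : R0 σ ≤ radW σ := fun g hg => by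
  obtain ⟨v, hv, rfl⟩ := E.mem_R0.1 hg
  show im σ _ ∈ Q1 φ hφ
  rw [E.im_gB hv]
  exact long_mem_Q1 φ hφ (by decide) hv

theorem Ext.R0_central {r δ : Γ} (hr : r ∈ R0 σ) (hδ : δ ∈ radW σ) : Commute r δ := by
  obtain ⟨v, hv, rfl⟩ := E.mem_R0.1 hr
  exact E.top_central hv (E.im_gB hv) hδ

theorem Ext.card_R0 : Nat.card ↥(R0 σ) ≤ q := by
  rw [← card_Fq φ hφ E.hqφ E.hq2 E.hK]
  refine Nat.card_le_card_of_surjective
    (fun v : ↥(Fq φ) => (⟨gB σ (v : K), E.mem_R0.2 ⟨v, v.2, rfl⟩⟩ : ↥(R0 σ))) ?_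
  rintro ⟨g, hg⟩
  obtain ⟨v, hv, rfl⟩ := E.mem_R0.1 hg
  exact ⟨⟨v, hv⟩, rfl⟩

theorem Ext.exists_Phi : ∃ Φ : SL(2, ↥((T).Fa (0 : Fin 2))) →* Γ,
    σ.comp Φ = ((T).sl2 (0 : Fin 2)).hom := by
  classical
  haveI : Fintype ↥((T).Fa (0 : Fin 2)) := Fintype.ofFinite _
  have hc : Fintype.card ↥((T).Fa (0 : Fin 2)) = q ^ 3 := by
    rw [← E.hK]
    exact Fintype.card_congr ⟨fun t => (t : K), fun t => ⟨t, par0 φ hφ t⟩, fun _ => rfl, fun _ => rfl⟩
  have h8 : 2 ^ 3 ≤ q ^ 3 := Nat.pow_le_pow_left E.hq2 3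
  have h9 : q ^ 3 ≠ 9 := by
    intro h
    have : q < 3 := by
      by_contra h3
      have := Nat.pow_le_pow_left (not_lt.1 h3) 3
      omega
    interval_cases q <;> norm_num at h
  refine DMult.exists_lift ?_ (SLMult.sl_multiplier_trivial
    (Or.inl ⟨rfl, by rw [hc]; omega, by rw [hc]; exact h9⟩)) σ E.cen _ fun g _ => E.surj g
  refine Classical.commutator_sl_eq_top (Or.inr ?_)
  have hcu : 2 < Nat.card (↥((T).Fa (0 : Fin 2)))ˣ := by
    rw [Nat.card_eq_fintype_card, Fintype.card_units, hc]; omega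
  obtain ⟨u, -, hu⟩ := exists_sq_ne_one (S := (Set.univ : Set (↥((T).Fa (0 : Fin 2)))ˣ))
    (by rwa [Nat.card_coe_set_eq, Set.ncard_univ])
  exact ⟨u, u.ne_zero, fun h => hu (Units.ext (by rw [Units.val_pow_eq_pow_val, Units.val_one, h]))⟩

/-- The lift of the short fundamental rank one subgroup. -/
noncomputable def Ext.Phi : SL(2, ↥((T).Fa (0 : Fin 2))) →* Γ := E.exists_Phi.choose

theorem Ext.im_Phi (g : SL(2, ↥((T).Fa (0 : Fin 2)))) :
    im σ (E.Phi g) = (((T).sl2 (0 : Fin 2)).hom g : GL chevD4.Idx K) :=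
  congrArg Subtype.val (DFunLike.congr_fun E.exists_Phi.choose_spec g)

/-- The lift of the short fundamental root group. -/
noncomputable def Ext.A (t : K) : Γ := E.Phi (CoExt.up ⟨t, par0 φ hφ t⟩)

theorem Ext.im_A (t : K) : im σ (E.A t) = uel φ t := by
  rw [Ext.A, E.im_Phi, uel_eq φ hφ]
  exact (T).sl2_up (0 : Fin 2) _

theorem Ext.A_add (s t : K) : E.A (s + t) = E.A s * E.A t := by
  rw [Ext.A, Ext.A, Ext.A, ← map_mul]
  congr 1
  apply Subtype.ext
  show (CoExt.up _).1 = (CoExt.up _).1 * (CoExt.up _).1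
  ext i j
  fin_cases i <;> fin_cases j <;>
    simp [CoExt.up, SL2Data.upper, Matrix.mul_apply, Fin.sum_univ_two, add_comm]

theorem Ext.A_zero : E.A 0 = 1 := by
  have := E.A_add 0 0
  rwa [add_zero, left_eq_mul] at this

/-- The lift of the representative of the short reflection. -/
noncomputable def Ext.nL0 : Γ := E.Phi SL2Data.weyl

theorem Ext.im_nL0 : im σ E.nL0 = nw φ hφ [0] := by
  rw [Ext.nL0, E.im_Phi, nw_cons, nw_nil, mul_one]
  exact (T).sl2_weyl (0 : Fin 2)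

theorem Ext.im_Phi_commute_top (g : SL(2, ↥((T).Fa (0 : Fin 2)))) (v : K) :
    Commute (im σ (E.Phi g)) (X 23 v) := by
  have hcomm : ∀ s : Bool, ∀ t : K, Commute ((T).y s (0 : Fin 2) t) (X 23 v) := by
    intro s t
    refine Commute.list_prod_left _ _ fun x hx => ?_
    obtain ⟨j, hj, rfl⟩ := List.mem_map.1 hx
    have hd : ∀ (s : Bool) (j : Fin 3), rtNat chevD4 d4_031_π d4Base s 0 j < chevD4.nroots ∧
        23 < chevD4.nroots ∧ 23 ≠ rtNat chevD4 d4_031_π d4Base s 0 j ∧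
        23 ≠ chevD4.neg (rtNat chevD4 d4_031_π d4Base s 0 j) ∧
        chevD4.commTerms (rtNat chevD4 d4_031_π d4Base s 0 j) 23 = [] := by decide +kernel
    have hrt : (((T).rt s (0 : Fin 2) j) : ℕ) = rtNat chevD4 d4_031_π d4Base s 0 j := by
      cases s <;> rfl
    show Commute (xG facts_chevD4 ((T).rt s (0 : Fin 2) j : ℕ) _) _
    rw [hrt]
    exact (commute_X (hd s ⟨j, List.mem_range.1 hj⟩) _ _).symm
  have hw : SL2Data.weyl = CoExt.up (1 : ↥((T).Fa (0 : Fin 2))) * CoExt.lo (-1) * CoExt.up 1 := by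
    rw [CoExt.weyl_eq, CoExt.nn2, Units.val_one, inv_one]
  have hg : g ∈ Submonoid.closure
      (Set.range (SL2Data.upper (F := ↥((T).Fa (0 : Fin 2)))) ∪ {SL2Data.weyl}) := by
    rw [SL2Data.closure_generators]; exact Submonoid.mem_top _
  induction hg using Submonoid.closure_induction with
  | mem x hx =>
    rcases hx with ⟨b, rfl⟩ | rfl
    · rw [E.im_Phi]; erw [(T).sl2_up (0 : Fin 2)]; exact hcomm true _
    · rw [hw, map_mul, map_mul, map_mul, map_mul, E.im_Phi, E.im_Phi]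
      erw [(T).sl2_up (0 : Fin 2), (T).sl2_lo (0 : Fin 2)]
      exact ((hcomm true _).mul_left (hcomm false _)).mul_left (hcomm true _)
  | one => rw [map_one, map_one]; exact Commute.one_left _
  | mul x y _ _ hx hy => rw [map_mul, map_mul]; exact hx.mul_left hy

/-- The rank one lift centralises the preimage of the highest root group. -/
theorem Ext.Phi_top {γ : Γ} {v : K} (hγ : im σ γ = X 23 v)
    (g : SL(2, ↥((T).Fa (0 : Fin 2)))) : Commute (E.Phi g) γ := by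
  classical
  haveI : Fintype ↥((T).Fa (0 : Fin 2)) := Fintype.ofFinite _
  have hperf : commutator SL(2, ↥((T).Fa (0 : Fin 2))) = ⊤ := by
    have hc : Fintype.card ↥((T).Fa (0 : Fin 2)) = q ^ 3 := by
      rw [← E.hK]
      exact Fintype.card_congr
        ⟨fun t => (t : K), fun t => ⟨t, par0 φ hφ t⟩, fun _ => rfl, fun _ => rfl⟩
    have h8 : 2 ^ 3 ≤ q ^ 3 := Nat.pow_le_pow_left E.hq2 3
    refine Classical.commutator_sl_eq_top (Or.inr ?_)
    obtain ⟨u, -, hu⟩ := exists_sq_ne_one (S := (Set.univ : Set (↥((T).Fa (0 : Fin 2)))ˣ))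
      (by rw [Nat.card_coe_set_eq, Set.ncard_univ, Nat.card_eq_fintype_card, Fintype.card_units, hc]
          omega)
    exact ⟨u, u.ne_zero,
      fun h => hu (Units.ext (by rw [Units.val_pow_eq_pow_val, Units.val_one, h]))⟩
  have hle : commutator SL(2, ↥((T).Fa (0 : Fin 2))) ≤
      (Subgroup.centralizer {γ}).comap E.Phi := by
    rw [commutator_def, Subgroup.commutator_le]
    intro a _ b _
    rw [Subgroup.mem_comap, Subgroup.mem_centralizer_singleton_iff, map_commutatorElement]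
    exact (E.fixes (z := γ) (hγ ▸ (E.im_Phi_commute_top a v).symm)
      (hγ ▸ (E.im_Phi_commute_top b v).symm)).eq.symm
  exact Subgroup.mem_centralizer_singleton_iff.1 (hle (hperf ▸ Subgroup.mem_top g))

theorem Ext.Phi_R0 {r : Γ} (hr : r ∈ R0 σ) (g : SL(2, ↥((T).Fa (0 : Fin 2)))) :
    Commute (E.Phi g) r := by
  obtain ⟨v, hv, rfl⟩ := E.mem_R0.1 hr
  exact E.Phi_top (E.im_gB hv) g

/-- A rescaled commutator of long root elements. -/
theorem Ext.br_long {r v : K} (hr : φ r = r) (hr0 : r ≠ 0) (hv : φ v = v) :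
    ⁅sec σ (X 14 r), sec σ (X 22 v)⁆ = gB σ (r * v) := by
  obtain ⟨u, hu⟩ := exists_norm φ hφ E.hqφ E.hq2 E.hK
    (r := r⁻¹) (by rw [map_inv₀, hr]) (inv_ne_zero hr0)
  let u' : (↥((T).Fa (0 : Fin 2)))ˣ :=
    Units.mk0 ⟨(u : K), par0 φ hφ _⟩ fun e => u.ne_zero (congrArg Subtype.val e)
  have hincl : (T).incl (0 : Fin 2) u' = u := Units.ext rfl
  set γ := E.Phi (CoExt.dg u') with hγdef
  have hγ : im σ γ = torusHom ((T).hv (0 : Fin 2) u) := by
    rw [hγdef, E.im_Phi]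
    erw [(T).sl2_dg (0 : Fin 2), hincl]
  have hN : ((u * Units.map φ.toMonoidHom u * Units.map φ.toMonoidHom
      (Units.map φ.toMonoidHom u) : Kˣ) : K) = r⁻¹ := hu
  have h14 : im σ γ * X 14 (1 : K) * (im σ γ)⁻¹ = X 14 r := by
    rw [hγ]
    show torusHom _ * xG facts_chevD4 14 (1 : K) * (torusHom _)⁻¹ = _
    rw [torusHom_conj facts_chevD4 _ (by decide +kernel), mul_inv_cancel_right, mul_one]
    rw [chiU_hv_zero φ hφ u (r := ⟨14, by decide +kernel⟩) (e := -1) (by decide +kernel),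
      zpow_neg_one, Units.val_inv_eq_inv_val, hN, inv_inv]
  have h22 : im σ γ * X 22 (r * v) * (im σ γ)⁻¹ = X 22 v := by
    rw [hγ]
    show torusHom _ * xG facts_chevD4 22 (r * v) * (torusHom _)⁻¹ = _
    rw [torusHom_conj facts_chevD4 _ (by decide +kernel), mul_inv_cancel_right]
    rw [chiU_hv_zero φ hφ u (r := ⟨22, by decide +kernel⟩) (e := 1) (by decide +kernel),
      zpow_one, hN, inv_mul_cancel_left₀ hr0]
  have h1 := single_mem φ hφ 14 (by decide) 1 (map_one φ)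
  have hrv : φ (r * v) = r * v := by rw [map_mul, hr, hv]
  have e : γ * gB σ (r * v) * γ⁻¹ = gB σ (r * v) := by
    rw [(E.Phi_R0 (E.mem_R0.2 ⟨r * v, hrv, rfl⟩) _).eq, mul_inv_cancel_right]
  rw [← e, gB, br_conj]
  refine E.br_congr ?_ ?_
  · rw [E.im_sec (single_mem φ hφ 14 (by decide) r hr), map_mul, map_mul, map_inv, E.im_sec h1, h14]
  · rw [E.im_sec (single_mem φ hφ 22 (by decide) v hv), map_mul, map_mul, map_inv,
      E.im_sec (single_mem φ hφ 22 (by decide) _ hrv), h22]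

/-- Conjugated pairs of commuting lifts commute. -/
theorem Ext.com_conj {g x y x' y' : GL chevD4.Idx K} (hg : g ∈ (T).G1)
    (h : ∀ a b, im σ a = x → im σ b = y → Commute a b) (ex : g * x * g⁻¹ = x')
    (ey : g * y * g⁻¹ = y') : ∀ a b, im σ a = x' → im σ b = y' → Commute a b := by
  intro a b ha hb
  obtain ⟨γ, hγ⟩ : ∃ γ, im σ γ = g := ⟨sec σ g, E.im_sec hg⟩
  have key := h (γ⁻¹ * a * γ) (γ⁻¹ * b * γ)
    (by rw [map_mul, map_mul, map_inv, hγ, ha, ← ex]; group)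
    (by rw [map_mul, map_mul, map_inv, hγ, hb, ← ey]; group)
  have := congrArg (fun z => γ * z * γ⁻¹) key.eq
  simp only [← mul_assoc, mul_inv_cancel, one_mul, mul_inv_cancel_right] at this
  exact this

theorem Ext.com14_long {r v : K} (hr : φ r = r) (hv : φ v = v) (a b : Γ)
    (ha : im σ a = X 14 r) (hb : im σ b = X 14 v) : Commute a b := by
  obtain ⟨e, he, hc⟩ := nW_conj_X φ hφ [1, 1, 0, 1] (r := 23) (s := 14) (by decide +kernel)
    (by decide +kernel)
  have hee : e * e = 1 := by rcases he with rfl | rfl <;> simp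
  refine E.com_conj (x := X 23 (e * r)) (y := X 23 (e * v)) (nw_mem φ hφ [1, 1, 0, 1])
    (fun a b ha hb => E.top_central (fixed_sign φ he hr) ha (show im σ b ∈ Q1 φ hφ by
      rw [hb]; exact long_mem_Q1 φ hφ (by decide) (fixed_sign φ he hv)))
    ?_ ?_ a b ha hb <;> rw [hc, ← mul_assoc, hee, one_mul]

theorem Ext.com14_xC {r : K} (hr : φ r = r) (t : K) (a b : Γ)
    (ha : im σ a = X 14 r) (hb : im σ b = xC φ hφ t) : Commute a b := by
  obtain ⟨e, he, hc⟩ := nW_conj_X φ hφ [0, 1] (r := 23) (s := 14) (by decide +kernel)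
    (by decide +kernel)
  have hee : e * e = 1 := by rcases he with rfl | rfl <;> simp
  refine E.com_conj (x := X 23 (e * r)) (y := uel φ t) (nw_mem φ hφ [0, 1])
    (fun a b ha hb => ?_) (by rw [hc, ← mul_assoc, hee, one_mul]) ?_ a b ha hb
  · obtain ⟨z, hz, rfl⟩ := E.eq_mul_center (hb.trans (E.im_A t).symm)
    exact (E.Phi_top ha _).symm.mul_right (Subgroup.mem_center_iff.1 hz a)
  · rw [xC_eq, xB_eq, show ([0, 1] : List (Fin 2)) = [0] ++ [1] from rfl, nw_append]; group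

theorem Ext.com14_xB {r : K} (hr : φ r = r) (t : K) (a b : Γ)
    (ha : im σ a = X 14 r) (hb : im σ b = xB φ hφ t) : Commute a b := by
  obtain ⟨s, hs⟩ := uel_move φ hφ [1, 0, 1, 0, 1] (by decide +kernel) t
  obtain ⟨e, he, hc⟩ := nW_conj_X φ hφ [1, 1, 0, 1] (r := 23) (s := 14) (by decide +kernel)
    (by decide +kernel)
  have hee : e * e = 1 := by rcases he with rfl | rfl <;> simp
  refine E.com_conj (x := X 23 (e * r)) (y := xC φ hφ s) (nw_mem φ hφ [1, 1, 0, 1])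
    (fun a b ha hb => E.top_central (fixed_sign φ he hr) ha (show im σ b ∈ Q1 φ hφ by
      rw [hb]; exact xC_mem_Q1 φ hφ s))
    (by rw [hc, ← mul_assoc, hee, one_mul]) ?_ a b ha hb
  rw [xB_eq φ hφ t, ← hs, xC_eq, xB_eq]
  simp only [nw_cons, nw_nil, mul_one]
  group

/-- The elements whose commutators with the radical lie in the lift of the highest root group. -/
noncomputable def Ext.Y : Subgroup Γ where
  carrier := {x | x ∈ radW σ ∧ ∀ y ∈ radW σ, ⁅x, y⁆ ∈ R0 σ}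
  one_mem' := ⟨one_mem _, fun y _ => by rw [commutatorElement_one_left]; exact one_mem _⟩
  mul_mem' := by
    rintro a b ⟨ha, ha'⟩ ⟨hb, hb'⟩
    refine ⟨mul_mem ha hb, fun y hy => ?_⟩
    rw [show ⁅a * b, y⁆ = a * ⁅b, y⁆ * a⁻¹ * ⁅a, y⁆ by simp only [commutatorElement_def]; group,
      ← (E.R0_central (hb' y hy) ha).eq, mul_inv_cancel_right]
    exact mul_mem (hb' y hy) (ha' y hy)
  inv_mem' := by
    rintro a ⟨ha, ha'⟩
    refine ⟨inv_mem ha, fun y hy => ?_⟩
    rw [show ⁅a⁻¹, y⁆ = a⁻¹ * ⁅a, y⁆⁻¹ * a by simp only [commutatorElement_def]; group,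
      mul_assoc, (E.R0_central (inv_mem (ha' y hy)) ha).eq, inv_mul_cancel_left]
    exact inv_mem (ha' y hy)

theorem Ext.br_eq_one {a b : Γ} (h : Commute a b) : ⁅a, b⁆ ∈ R0 σ := by
  rw [commutatorElement_eq_one_iff_commute.2 h]; exact one_mem _

theorem Ext.top_mem_Y {γ : Γ} {v : K} (hv : φ v = v) (hγ : im σ γ = X 23 v) : γ ∈ E.Y :=
  ⟨show im σ γ ∈ Q1 φ hφ by rw [hγ]; exact long_mem_Q1 φ hφ (by decide) hv,
    fun y hy => E.br_eq_one (E.top_central hv hγ hy)⟩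

theorem Ext.ker_le_Y : σ.ker ≤ E.Y := fun z hz =>
  ⟨show im σ z ∈ Q1 φ hφ by
      rw [show im σ z = 1 from congrArg Subtype.val (MonoidHom.mem_ker.1 hz)]; exact one_mem _,
    fun y _ => E.br_eq_one (Subgroup.mem_center_iff.1 (E.cen hz) y).symm⟩

theorem Ext.long14_Y {r : K} (hr : φ r = r) : sec σ (X 14 r) ∈ E.Y := by
  have h14 := E.im_sec (single_mem φ hφ 14 (by decide) r hr)
  refine ⟨show im σ _ ∈ Q1 φ hφ by rw [h14]; exact long_mem_Q1 φ hφ (by decide) hr, ?_⟩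
  set a := sec σ (X 14 r)
  let H : Subgroup Γ :=
    { carrier := {y | y ∈ radW σ ∧ ⁅a, y⁆ ∈ R0 σ}
      one_mem' := ⟨one_mem _, by rw [commutatorElement_one_right]; exact one_mem _⟩
      mul_mem' := by
        rintro x y ⟨hx, hx'⟩ ⟨hy, hy'⟩
        refine ⟨mul_mem hx hy, ?_⟩
        rw [br_mul, ← (E.R0_central hy' hx).eq, mul_inv_cancel_right]
        exact mul_mem hx' hy'
      inv_mem' := by
        rintro x ⟨hx, hx'⟩
        refine ⟨inv_mem hx, ?_⟩
        rw [show ⁅a, x⁻¹⁆ = x⁻¹ * ⁅a, x⁆⁻¹ * x by simp only [commutatorElement_def]; group,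
          mul_assoc, (E.R0_central (inv_mem hx') hx).eq, inv_mul_cancel_left]
        exact inv_mem hx' }
  intro y hy
  refine (E.W_le (H := H) (fun z hz => ⟨(E.ker_le_Y hz).1, E.br_eq_one
    (Subgroup.mem_center_iff.1 (E.cen hz) a)⟩) (fun g hg => ⟨?_, ?_⟩) hy).2
  · show im σ _ ∈ Q1 φ hφ
    rw [E.im_sec (Q1_le_G1 φ hφ (gen_mem_Q1 φ hφ hg))]
    exact gen_mem_Q1 φ hφ hg
  have hi := E.im_sec (Q1_le_G1 φ hφ (gen_mem_Q1 φ hφ hg))
  rcases hg with ⟨s, hs, v, hv, rfl⟩ | ⟨t, rfl⟩ | ⟨t, rfl⟩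
  · simp only [List.mem_cons, List.not_mem_nil, or_false] at hs
    rcases hs with rfl | rfl | rfl
    · exact E.br_eq_one (E.com14_long hr hv _ _ h14 hi)
    · by_cases h0 : r = 0
      · refine E.br_eq_one ?_
        have hz : im σ a = im σ 1 := by
          rw [h14, h0, map_one]; exact xG_zero facts_chevD4 14
        obtain ⟨z, hz', e⟩ := E.eq_mul_center hz
        rw [e, one_mul]
        exact (Subgroup.mem_center_iff.1 hz' _).symm
      · rw [E.br_long hr h0 hv]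
        exact E.mem_R0.2 ⟨r * v, by rw [map_mul, hr, hv], rfl⟩
    · exact E.br_eq_one (E.top_central hv hi (show im σ a ∈ Q1 φ hφ by
        rw [h14]; exact long_mem_Q1 φ hφ (by decide) hr)).symm
  · exact E.br_eq_one (E.com14_xB hr t _ _ h14 hi)
  · exact E.br_eq_one (E.com14_xC hr t _ _ h14 hi)

theorem Ext.A_conj_W (w : K) {x : Γ} (hx : x ∈ radW σ) : E.A w * x * (E.A w)⁻¹ ∈ radW σ := by
  show im σ _ ∈ Q1 φ hφ
  rw [map_mul, map_mul, map_inv, E.im_A]
  exact uel_conj_Q1 φ hφ w hx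

theorem Ext.Y_A (w : K) {x : Γ} (hx : x ∈ E.Y) : E.A w * x * (E.A w)⁻¹ ∈ E.Y := by
  refine ⟨E.A_conj_W w hx.1, fun y hy => ?_⟩
  have hy' : (E.A w)⁻¹ * y * E.A w ∈ radW σ := by
    have e : (E.A w)⁻¹ = E.A (-w) := inv_eq_of_mul_eq_one_right (by
      rw [← E.A_add, add_neg_cancel, E.A_zero])
    have := E.A_conj_W (-w) hy
    rwa [← e, inv_inv] at this
  have h := hx.2 _ hy'
  have e := br_conj (E.A w) x ((E.A w)⁻¹ * y * E.A w)
  have hcA : Commute (E.A w) ⁅x, (E.A w)⁻¹ * y * E.A w⁆ := E.Phi_R0 h _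
  rw [hcA.eq, mul_inv_cancel_right,
    show E.A w * ((E.A w)⁻¹ * y * E.A w) * (E.A w)⁻¹ = y by group] at e
  exact e ▸ h

theorem Ext.Y_n0 {x : Γ} (hx : x ∈ E.Y) : E.nL0 * x * E.nL0⁻¹ ∈ E.Y := by
  have hW : ∀ {y : Γ}, y ∈ radW σ → E.nL0 * y * E.nL0⁻¹ ∈ radW σ := fun {y} hy => by
    show im σ _ ∈ Q1 φ hφ
    rw [map_mul, map_mul, map_inv, E.im_nL0]
    exact n0_conj_Q1 φ hφ hy
  refine ⟨hW hx.1, fun y hy => ?_⟩
  have hfin : E.nL0⁻¹ ∈ Submonoid.powers E.nL0 :=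
    mem_powers_iff_mem_zpowers.2 (inv_mem (Subgroup.mem_zpowers _))
  obtain ⟨n, hn⟩ := hfin
  have hy' : E.nL0⁻¹ * y * E.nL0 ∈ radW σ := by
    have hpow : ∀ k : ℕ, ∀ z ∈ radW σ, E.nL0 ^ k * z * (E.nL0 ^ k)⁻¹ ∈ radW σ := by
      intro k
      induction k with
      | zero => intro z hz; simpa using hz
      | succ k ih =>
        intro z hz
        rw [pow_succ', _root_.mul_inv_rev, show E.nL0 * E.nL0 ^ k * z * ((E.nL0 ^ k)⁻¹ * E.nL0⁻¹) =
          E.nL0 * (E.nL0 ^ k * z * (E.nL0 ^ k)⁻¹) * E.nL0⁻¹ by group]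
        exact hW (ih z hz)
    have := hpow n y hy
    simp only at hn
    rwa [hn, inv_inv] at this
  have h := hx.2 _ hy'
  have e := br_conj E.nL0 x (E.nL0⁻¹ * y * E.nL0)
  have hcA : Commute E.nL0 ⁅x, E.nL0⁻¹ * y * E.nL0⁆ := E.Phi_R0 h _
  rw [hcA.eq, mul_inv_cancel_right,
    show E.nL0 * (E.nL0⁻¹ * y * E.nL0) * E.nL0⁻¹ = y by group] at e
  exact e ▸ h

/-- The commutators of the preimage of the radical lie in the lift of the highest root group. -/
theorem Ext.derived_le {x y : Γ} (hx : x ∈ radW σ) (hy : y ∈ radW σ) : ⁅x, y⁆ ∈ R0 σ := by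
  suffices H : radW σ ≤ E.Y from (H hx).2 y hy
  set S := E.Y.map (im σ) with hSdef
  have hS : S ≤ (T).G1 := by rintro _ ⟨x, -, rfl⟩; exact (σ x).2
  have h14 : ∀ v, φ v = v → X 14 v ∈ S := fun v hv =>
    ⟨_, E.long14_Y hv, E.im_sec (single_mem φ hφ 14 (by decide) v hv)⟩
  have h23 : ∀ v, φ v = v → X 23 v ∈ S := fun v hv =>
    ⟨gB σ v, E.top_mem_Y hv (E.im_gB hv), E.im_gB hv⟩
  have hu : ∀ w, ∀ s ∈ S, uel φ w * s * (uel φ w)⁻¹ ∈ S := by
    rintro w _ ⟨x, hx, rfl⟩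
    exact ⟨_, E.Y_A w hx, by rw [map_mul, map_mul, map_inv, E.im_A]⟩
  have hn : ∀ s ∈ S, nw φ hφ [0] * s * (nw φ hφ [0])⁻¹ ∈ S := by
    rintro _ ⟨x, hx, rfl⟩
    exact ⟨_, E.Y_n0 hx, by rw [map_mul, map_mul, map_inv, E.im_nL0]⟩
  have h22 : ∀ v, φ v = v → X 22 v ∈ S := fun v hv => by
    obtain ⟨e, he, hc⟩ := nW_conj_X φ hφ [0] (r := 14) (s := 22) (by decide +kernel)
      (by decide +kernel)
    have := hn _ (h14 (e * v) (fixed_sign φ he hv))
    rwa [hc, ← mul_assoc, show e * e = 1 by rcases he with rfl | rfl <;> simp, one_mul] at this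
  have hB : ∀ t, xB φ hφ t ∈ S := by
    rcases E.hq2.lt_or_eq with hq | hq
    · exact span_big φ hφ E.hqφ E.hq2 E.hK hS h23 hu hq h14 h22
    · exact (span_two φ hφ E.hqφ E.hq2 E.hK hS h23 hu hq.symm (h14 1 (map_one φ))).2.1
  refine E.W_le E.ker_le_Y fun g hg => ?_
  have hgS : g ∈ S := by
    rcases hg with ⟨r, hr, v, hv, rfl⟩ | ⟨t, rfl⟩ | ⟨t, rfl⟩
    · simp only [List.mem_cons, List.not_mem_nil, or_false] at hr
      rcases hr with rfl | rfl | rfl
      exacts [h14 v hv, h22 v hv, h23 v hv]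
    · exact hB t
    · rw [xC_eq]; exact hn _ (hB t)
  obtain ⟨x, hx, e⟩ := hgS
  obtain ⟨z, hz, e'⟩ := E.eq_mul_center
    ((E.im_sec (Q1_le_G1 φ hφ (gen_mem_Q1 φ hφ hg))).trans e.symm)
  rw [e']
  refine mul_mem hx (E.ker_le_Y (MonoidHom.mem_ker.2 ?_))
  refine Subtype.ext ?_
  have h1 := (E.im_sec (Q1_le_G1 φ hφ (gen_mem_Q1 φ hφ hg))).trans e.symm
  rw [e', map_mul, mul_eq_left] at h1
  exact h1

end D4Mult

end Cfsg.Agent.Chev
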