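import Cfsg.Agent.Chev.TwistMult.Lifts

/-!
A central extension of a twisted group with kernel prime to the characteristic splits on the derived
group: the lifts of the Bruhat cells form a subgroup meeting the kernel trivially.
-/

set_option autoImplicit false
set_option maxHeartbeats 1000000

namespace Cfsg.Agent.Chev

open Cfsg.Lie Matrix
open scoped MatrixGroups commutatorElement

universe u v

namespace CoTwist

open CoExt

variable {D : ChevalleyDatum} {F : Type u} [Field F] [Fintype F] {T : Twist D F} {p : ℕ}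
  {Γ : Type v} [Group Γ] {σ : Γ →* ↥T.G1} [Finite Γ] (C : CoTwist T p σ)
include C

/-- The lift of the torus, as a subgroup. -/
noncomputable def M : Subgroup Γ := C.tau.range

theorem im_mem_T1 {γ : Γ} (h : γ ∈ C.M) : im σ γ ∈ T.T1 := by
  obtain ⟨w, rfl⟩ := h
  exact C.im_tau_mem w

theorem tA_mem_M (a : Fin T.m) (u : (↥(T.Fa a))ˣ) : C.tA a u ∈ C.M := C.tA_mem a u

theorem sL_sq (a : Fin T.m) : C.sL a * C.sL a = C.tA a (-1) := by
  rw [sL, ← map_mul, weyl_sq]; rfl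

theorem sL_conj_mem (a : Fin T.m) {m : Γ} (hm : m ∈ C.M) :
    C.sL a * m * (C.sL a)⁻¹ ∈ C.M := by
  obtain ⟨x, hx⟩ := C.conj_sL (γ := m⁻¹) (C.im_mem_T1 (inv_mem hm)) a
  rw [inv_inv] at hx
  rw [show C.sL a * m * (C.sL a)⁻¹ = m * (m⁻¹ * C.sL a * m) * (C.sL a)⁻¹ by group, hx,
    ← mul_assoc, mul_inv_cancel_right]
  exact mul_mem hm (C.tA_mem_M a x)

theorem sL_mem_normalizer (a : Fin T.m) : C.sL a ∈ Subgroup.normalizer (C.M : Set Γ) := by
  rw [Subgroup.mem_normalizer_iff]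
  refine fun m => ⟨C.sL_conj_mem a, fun h => ?_⟩
  have e : m = (C.tA a (-1))⁻¹ * (C.sL a * (C.sL a * m * (C.sL a)⁻¹) * (C.sL a)⁻¹) *
      C.tA a (-1) := by
    rw [← C.sL_sq]; group
  rw [e]
  exact mul_mem (mul_mem (inv_mem (C.tA_mem_M a _)) (C.sL_conj_mem a h)) (C.tA_mem_M a _)

/-- The lift of a word in orbits. -/
noncomputable def nL (ws : List (Fin T.m)) : Γ := (ws.map C.sL).prod

theorem nL_cons (a : Fin T.m) (ws : List (Fin T.m)) : C.nL (a :: ws) = C.sL a * C.nL ws := by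
  simp [nL]

theorem nL_nil : C.nL [] = 1 := by simp [nL]

theorem nL_append (u v : List (Fin T.m)) : C.nL (u ++ v) = C.nL u * C.nL v := by
  simp [nL]

theorem im_nL (ws : List (Fin T.m)) : im σ (C.nL ws) = T.nW ws := by
  induction ws with
  | nil => rw [C.nL_nil, map_one, T.nW_nil]
  | cons a ws ih => rw [C.nL_cons, map_mul, C.im_sL, ih, T.nW_cons]

theorem nL_mem_normalizer (ws : List (Fin T.m)) :
    C.nL ws ∈ Subgroup.normalizer (C.M : Set Γ) :=
  Subgroup.list_prod_mem _ fun _ hx => by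
    obtain ⟨a, -, rfl⟩ := List.mem_map.1 hx
    exact C.sL_mem_normalizer a

omit [Fintype F] [Finite Γ] C in
theorem exists_conj_y {n : GL D.Idx F} {π : Equiv.Perm (Fin D.nroots)} (hn : IsMon T.hF n π)
    (hfx : n ∈ T.fx) (hπ : T.InW1 π) {a b : Fin T.m} {j₀ : ℕ}
    (hj : π (T.rt true a 0) = T.rt true b j₀) {t : F} (ht : T.Par a t) :
    ∃ s, T.Par b s ∧ n * T.y true a t * n⁻¹ = T.y true b s := by
  have hr : ∀ j, π (T.rt true a j) = T.rt true b (j + j₀) := by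
    intro j
    induction j with
    | zero => rw [Nat.zero_add]; exact hj
    | succ j ih =>
      rw [← T.rho_rt, ← Equiv.Perm.mul_apply, ← hπ.2.eq, Equiv.Perm.mul_apply, ih, T.rho_rt,
        show j + j₀ + 1 = j + 1 + j₀ by omega]
  refine T.exists_y ?_ (mul_mem (mul_mem hfx (T.y_fx ht true)) (inv_mem hfx))
  rw [← MulAut.conj_apply, Twist.y, Twist.yv, map_list_prod, List.map_map]
  refine Subgroup.list_prod_mem _ fun x hx => ?_
  obtain ⟨j, -, rfl⟩ := List.mem_map.1 hx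
  obtain ⟨v, hv⟩ := isMon_conj_mem T.hF hn (T.rt true a j) ((T.φ ^ j) t)
  rw [Function.comp_apply, MulAut.conj_apply, hv, hr]
  have hpos : half D ≤ (sRoot T.hF (T.node b (j + j₀)) : ℕ) :=
    T.hF.simple_pos _ (T.node b (j + j₀)).2
  exact Subgroup.subset_closure
    ⟨T.rt true b (j + j₀), _, hpos, (T.wA_neg_iff hpos).2 (T.simp_node b _), rfl⟩

theorem eq_Φ {γ : Γ} (b : Fin T.m) {g : SL(2, ↥(T.Fa b))} (hγ : PE p γ) (hg : g ^ p = 1)
    (e : im σ γ = ((T.sl2 b).hom g : GL D.Idx F)) : γ = C.Φ b g :=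
  C.ok.eq_of (Subtype.ext (e.trans (C.im_Φ b g).symm)) hγ
    ⟨1, by rw [pow_one, ← map_pow, hg, map_one]⟩

/-- A fundamental element carried to another orbit. -/
theorem conj_sL_eq {ws : List (Fin T.m)} {a b : Fin T.m} {j₀ : ℕ} {e : F}
    (hj : T.pW ws (T.rt true a 0) = T.rt true b j₀) (he : e = 1 ∨ e = -1)
    (hnn : T.nW ws * T.nA a * (T.nW ws)⁻¹ = T.nn b e) :
    ∃ m ∈ C.M, ∃ m' ∈ C.M, C.nL ws * C.sL a * (C.nL ws)⁻¹ = m * C.sL b * m' := by
  haveI := C.char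
  haveI := RingHom.charP (T.Fa a).subtype Subtype.val_injective p
  haveI := RingHom.charP (T.Fa b).subtype Subtype.val_injective p
  have hfx : T.nW ws ∈ T.fx := T.G1_le_fx (T.N1_le_G1 (T.nW_mem_N1 ws))
  obtain ⟨s, hs, hse⟩ := exists_conj_y (T.isMon_nW ws) hfx (T.inW1_pW ws) hj (T.par_one a)
  obtain ⟨u, hu⟩ : ∃ u : (↥(T.Fa b))ˣ, (T.incl b u : F) = e := by
    rcases he with rfl | rfl
    · exact ⟨1, by simp [T.incl_val]⟩
    · exact ⟨-1, by simp [T.incl_val]⟩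
  set γ := C.nL ws
  have pe : ∀ {c : Fin T.m} {g : SL(2, ↥(T.Fa c))}, g ^ p = 1 → PE p (C.Φ c g) := fun hg =>
    ⟨1, by rw [pow_one, ← map_pow, hg, map_one]⟩
  have X1 : γ * C.Φ a (up 1) * γ⁻¹ = C.Φ b (up ⟨s, hs⟩) := by
    refine C.eq_Φ b ((pe (up_pow p _)).conj γ) (up_pow p _) ?_
    rw [map_mul, map_mul, map_inv, C.im_Φ, C.im_nL, T.sl2_up, T.sl2_up]
    exact hse
  have X2 : γ * C.Φ a (lo (-1)) * γ⁻¹ = C.Φ b (nn2 u * up ⟨s, hs⟩ * (nn2 u)⁻¹) := by
    refine C.eq_Φ b ((pe (lo_pow p _)).conj γ)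
      (by rw [conj_pow, up_pow p, mul_one, mul_inv_cancel]) ?_
    rw [map_mul, map_mul, map_inv, C.im_Φ, C.im_nL, T.sl2_lo]
    simp only [map_mul, map_inv, Subgroup.coe_mul, InvMemClass.coe_inv, T.sl2_nn, T.sl2_up, hu]
    rw [← hnn, show ((-1 : ↥(T.Fa a)) : F) = -(1 : F) by simp, ← T.nA_conj_y, ← hse]
    group
  have hw : C.sL a = C.Φ a (up 1) * C.Φ a (lo (-1)) * C.Φ a (up 1) := by
    rw [← map_mul, ← map_mul, sL, weyl_eq, nn2, Units.val_one, inv_one]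
  obtain ⟨g, hg⟩ : ∃ g, γ * C.sL a * γ⁻¹ = C.Φ b g := by
    refine ⟨up ⟨s, hs⟩ * (nn2 u * up ⟨s, hs⟩ * (nn2 u)⁻¹) * up ⟨s, hs⟩, ?_⟩
    rw [map_mul (C.Φ b) (_ * _), map_mul (C.Φ b) (up ⟨s, hs⟩), ← X1, ← X2, hw]
    group
  have hg' : ((T.sl2 b).hom g : GL D.Idx F) = ((T.sl2 b).hom (nn2 u) : GL D.Idx F) := by
    rw [← C.im_Φ, ← hg, map_mul, map_mul, map_inv, C.im_nL, C.im_sL, hnn, T.sl2_nn, hu]
  obtain ⟨u', hu'⟩ := T.sl2_ker (a := b) (g := (nn2 u)⁻¹ * g) (by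
    rw [map_mul, map_inv, inv_mul_eq_one]; exact Subtype.ext hg'.symm)
  refine ⟨C.tA b u, C.tA_mem_M b u, C.tA b u', C.tA_mem_M b u', ?_⟩
  rw [hg, inv_mul_eq_iff_eq_mul.1 hu', map_mul, nn2_eq, map_mul]
  rfl

theorem exchange_L : ∀ (ws : List (Fin T.m)) (a : Fin T.m),
    (T.pW ws (sRoot T.hF (T.base a)) : ℕ) < half D →
    ∃ u b v, ws = u ++ b :: v ∧ ∃ m ∈ C.M, C.nL ws * C.sL a = C.nL (u ++ v) * m := by
  intro ws a
  induction ws with
  | nil => exact fun h => absurd h (not_lt.2 (T.hF.simple_pos _ (T.base a).2))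
  | cons b ws ih =>
    intro h
    by_cases hpos : half D ≤ (T.pW ws (sRoot T.hF (T.base a)) : ℕ)
    · have hs : T.Simp b (T.pW ws (sRoot T.hF (T.base a))) := by
        rw [T.pW_cons, Equiv.Perm.mul_apply] at h
        exact (T.wA_neg_iff hpos).1 h
      obtain ⟨j₀, -, hj⟩ := hs
      refine ⟨[], b, ws, rfl, ?_⟩
      obtain ⟨e, he, hK⟩ := nWord_conj_nG T.hF (T.flat ws) (sRoot T.hF (T.base a)) (F := F)
      have hK1 : T.nW ws * nS T.hF (T.node a 0 : ℕ) * (T.nW ws)⁻¹ =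
          nG T.hF (D.simple (T.node b j₀)) e := by
        have h1 := hK 1
        rw [mul_one, show pWord T.hF (T.flat ws) (sRoot T.hF (T.base a)) = _ from hj] at h1
        exact mul_inv_eq_iff_eq_mul.2 h1
      have hc := T.orbit_conj (T.G1_le_fx (T.N1_le_G1 (T.nW_mem_N1 ws))) he hK1
      obtain ⟨m, hm, m', hm', hmm⟩ := C.conj_sL_eq (a := a) (b := b) (j₀ := j₀) hj he hc
      set γ := C.nL ws
      have h0 : C.sL b * m * (C.sL b)⁻¹ * C.tA b (-1) * m' ∈ C.M :=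
        mul_mem (mul_mem (C.sL_conj_mem b hm) (C.tA_mem_M b _)) hm'
      refine ⟨γ⁻¹ * (C.sL b * m * (C.sL b)⁻¹ * C.tA b (-1) * m') * γ, ?_, ?_⟩
      · have h1 := (Subgroup.mem_normalizer_iff.1 (inv_mem (C.nL_mem_normalizer ws)) _).1 h0
        rwa [inv_inv] at h1
      · rw [List.nil_append, C.nL_cons, ← C.sL_sq, mul_assoc (C.sL b),
          mul_inv_eq_iff_eq_mul.1 hmm]
        simp only [γ]
        group
    · obtain ⟨u, c, v, rfl, m, hm, e⟩ := ih (not_le.1 hpos)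
      exact ⟨b :: u, c, v, rfl, m, hm, by simp only [List.cons_append, C.nL_cons, mul_assoc, e]⟩

theorem nL_mem_M : ∀ ws : List (Fin T.m), T.pW ws = 1 → C.nL ws ∈ C.M := by
  suffices H : ∀ n, ∀ ws : List (Fin T.m), ws.length = n → T.pW ws = 1 → C.nL ws ∈ C.M from
    fun ws => H _ ws rfl
  intro n
  induction n using Nat.strong_induction_on with
  | _ n ih =>
    intro ws hn hw
    rcases List.eq_nil_or_concat ws with rfl | ⟨w', a, rfl⟩
    · rw [C.nL_nil]; exact one_mem _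
    rw [List.concat_eq_append] at hn hw ⊢
    have hw' : T.pW w' = T.wA a := by
      rw [T.pW_append, T.pW_cons, T.pW_nil, mul_one, mul_eq_one_iff_eq_inv, T.wA_inv] at hw
      exact hw
    have hneg : (T.pW w' (sRoot T.hF (T.base a)) : ℕ) < half D := by
      rw [hw', ← T.node_zero, T.wA_node]
      exact (neg_lt_half_iff T.hF (sRoot T.hF (T.node a 0)).2).2
        (T.hF.simple_pos _ (T.node a 0).2)
    obtain ⟨u, b, v, huv, m, hm, e⟩ := C.exchange_L w' a hneg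
    have e2 : C.nL (w' ++ [a]) = C.nL (u ++ v) * m := by
      rw [C.nL_append, C.nL_cons, C.nL_nil, mul_one, e]
    have hp : T.pW (u ++ v) = 1 := by
      have h1 := T.isMon_nW (w' ++ [a])
      rw [hw, ← C.im_nL, e2, map_mul, C.im_nL] at h1
      have h2 := isMon_unique T.hF
        (isMon_mul T.hF (T.isMon_nW (u ++ v)) (T.T1_isMon (C.im_mem_T1 hm))) h1
      rwa [mul_one] at h2
    rw [e2]
    exact mul_mem (ih _ (by rw [← hn, huv]; simp) (u ++ v) rfl hp) hm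

omit [Fintype F] [Finite Γ] C in
theorem torus_conj_U1 {t : GL D.Idx F} (ht : t ∈ T.T1) {v : GL D.Idx F} (hv : v ∈ T.U1) :
    t * v * t⁻¹ ∈ T.U1 :=
  (Subgroup.mem_normalizer_iff.1 (T.T1_le_normalizer ht) v).1 hv

/-- A lift of a double coset of the Borel subgroup. -/
def InSec (g : Γ) : Prop :=
  ∃ v ∈ T.U1, ∃ m ∈ C.M, ∃ ws : List (Fin T.m), ∃ x ∈ T.U1,
    g = L p σ v * m * C.nL ws * L p σ x

/-- The generators of the complement. -/
def secGens : Set Γ := {g | (∃ v ∈ T.U1, g = L p σ v) ∨ g ∈ C.M ∨ ∃ a, g = C.sL a}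

theorem inSec_one : C.InSec (1 : Γ) :=
  ⟨1, one_mem _, 1, one_mem _, [], 1, one_mem _, by simp [C.L_one, C.nL_nil]⟩

variable {C}

theorem InSec.L_left {g : Γ} (h : C.InSec g) {w : GL D.Idx F} (hw : w ∈ T.U1) :
    C.InSec (L p σ w * g) := by
  obtain ⟨v, hv, m, hm, ws, x, hx, rfl⟩ := h
  refine ⟨w * v, mul_mem hw hv, m, hm, ws, x, hx, ?_⟩
  rw [C.L_mul hw hv]
  simp only [mul_assoc]

theorem InSec.M_left {g : Γ} (h : C.InSec g) {r : Γ} (hr : r ∈ C.M) : C.InSec (r * g) := by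
  obtain ⟨v, hv, m, hm, ws, x, hx, rfl⟩ := h
  refine ⟨_, torus_conj_U1 (C.im_mem_T1 hr) hv, r * m, mul_mem hr hm, ws, x, hx, ?_⟩
  rw [← C.L_conj r hv]
  group

theorem InSec.sL_left {g : Γ} (h : C.InSec g) (a : Fin T.m) : C.InSec (C.sL a * g) := by
  obtain ⟨v, hv, m, hm, ws, x, hx, rfl⟩ := h
  obtain ⟨c, hc, d, hd, hcf, hdf, rfl⟩ := T.split_fx (T.isMon_nA a) (T.rho_wA a) hv.1 hv.2
  obtain ⟨s, hs, rfl⟩ := T.exists_y hd hdf
  have hy : T.y true a s ∈ T.U1 := T.y_mem_U1 hs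
  have hc' : c ∈ T.U1 := (Subgroup.mul_mem_cancel_right _ hy).1 hv
  have hnc : T.nA a * c * (T.nA a)⁻¹ ∈ T.U1 :=
    ⟨conj_uPlus T.hF (T.isMon_nA a) hc,
      Subgroup.mul_mem _ (Subgroup.mul_mem _ (T.nA_fx a) hcf) (Subgroup.inv_mem _ (T.nA_fx a))⟩
  obtain ⟨cf, hcf', ecf⟩ := C.im_mem_T1 (inv_mem hm)
  set s' : F := (chiU cf (T.rt true a 0) : F) * s with hs'_def
  have hs' : T.Par a s' := T.par_mul (T.par_chiU hcf' true a) hs
  have hy' : T.y true a s' ∈ T.U1 := T.y_mem_U1 hs'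
  have ey : L p σ (T.y true a s) * m = m * L p σ (T.y true a s') := by
    have h1 := C.L_conj m⁻¹ hy
    rw [← ecf, T.torus_conj_y hcf', ← hs'_def, inv_inv] at h1
    rw [← h1]
    group
  suffices H : C.InSec (C.sL a * L p σ (T.y true a s') * C.nL ws * L p σ x) by
    convert (H.M_left (C.sL_conj_mem a hm)).L_left hnc using 1
    rw [C.L_mul hc' hy, ← C.im_sL a, ← C.L_conj (C.sL a) hc']
    calc C.sL a * (L p σ c * L p σ (T.y true a s) * m * C.nL ws * L p σ x)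
        = C.sL a * L p σ c * (L p σ (T.y true a s) * m) * C.nL ws * L p σ x := by
          simp only [mul_assoc]
      _ = C.sL a * L p σ c * (m * L p σ (T.y true a s')) * C.nL ws * L p σ x := by rw [ey]
      _ = _ := by group
  have hfx : ∀ l, T.nW l ∈ T.fx := fun l => T.G1_le_fx (T.N1_le_G1 (T.nW_mem_N1 l))
  have move : ∀ (l : List (Fin T.m)) {t : F}, T.Par a t →
      half D ≤ ((T.pW l)⁻¹ (sRoot T.hF (T.base a)) : ℕ) →
      ∃ x' ∈ T.U1, L p σ (T.y true a t) * C.nL l = C.nL l * L p σ x' := by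
    intro l t ht hpos
    refine ⟨_, T.conj_y_mem (T.isMon_nW l) (hfx l) (T.inW1_pW l) hpos ht, ?_⟩
    have h1 := C.L_conj (C.nL l)⁻¹ (T.y_mem_U1 ht)
    rw [map_inv, C.im_nL, inv_inv, inv_inv] at h1
    rw [← h1]
    group
  by_cases hq : half D ≤ ((T.pW ws)⁻¹ (sRoot T.hF (T.base a)) : ℕ)
  · obtain ⟨x', hx', e⟩ := move ws hs' hq
    refine ⟨1, one_mem _, 1, one_mem _, a :: ws, x' * x, mul_mem hx' hx, ?_⟩
    rw [C.L_one, C.nL_cons, C.L_mul hx' hx, mul_assoc (C.sL a), e]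
    simp only [one_mul, mul_assoc]
  · by_cases hs0 : s' = 0
    · refine ⟨1, one_mem _, 1, one_mem _, a :: ws, x, hx, ?_⟩
      rw [hs0, T.y_zero, C.L_one, C.nL_cons]
      simp only [one_mul, mul_one]
    have hq' : half D ≤ ((T.pW (a :: ws))⁻¹ (sRoot T.hF (T.base a)) : ℕ) := by
      rw [T.pW_cons, _root_.mul_inv_rev, Equiv.Perm.mul_apply, T.wA_inv, ← T.node_zero, T.wA_node,
        T.node_zero, weyl_negF T.hF ((T.inW1_pW ws).inv T).1]
      exact (pos_negF_iff T.hF _).2 (not_le.1 hq)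
    set u : (↥(T.Fa a))ˣ := Units.mk0 ⟨s', hs'⟩ (fun e => hs0 (congrArg Subtype.val e)) with hu
    set z : ↥(T.Fa a) := -((u : ↥(T.Fa a)))⁻¹
    obtain ⟨x', hx', e⟩ := move (a :: ws) (T.par_Fa z) hq'
    have eg : C.sL a * L p σ (T.y true a s') =
        L p σ (T.y true a (z : F)) * C.tA a u⁻¹ * C.sL a * L p σ (T.y true a (z : F)) * C.sL a := by
      have h1 := congrArg (C.Φ a) (rank_one u)
      simp only [map_mul, C.Φ_up] at h1
      exact h1
    refine ⟨T.y true a (z : F), T.y_mem_U1 (T.par_Fa z), C.tA a u⁻¹ * C.tA a (-1),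
      mul_mem (C.tA_mem_M a _) (C.tA_mem_M a _), ws, x' * x, mul_mem hx' hx, ?_⟩
    calc C.sL a * L p σ (T.y true a s') * C.nL ws * L p σ x
        = L p σ (T.y true a (z : F)) * C.tA a u⁻¹ * C.sL a *
            (L p σ (T.y true a (z : F)) * C.nL (a :: ws)) * L p σ x := by
          rw [eg, C.nL_cons]; simp only [mul_assoc]
      _ = _ := by
          rw [e, C.nL_cons, C.L_mul hx' hx, ← C.sL_sq]
          simp only [mul_assoc]

variable (C)

theorem closure_inSec {g : Γ} (hg : g ∈ Subgroup.closure C.secGens) : C.InSec g := by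
  induction hg using Subgroup.closure_induction_left with
  | one => exact C.inSec_one
  | mul_left s hs y _ ih =>
    rcases hs with ⟨v, hv, rfl⟩ | hs | ⟨a, rfl⟩
    · exact ih.L_left hv
    · exact ih.M_left hs
    · exact ih.sL_left a
  | inv_mul_cancel s hs y _ ih =>
    rcases hs with ⟨v, hv, rfl⟩ | hs | ⟨a, rfl⟩
    · rw [← C.L_inv hv]; exact ih.L_left (inv_mem hv)
    · exact ih.M_left (inv_mem hs)
    · have e : (C.sL a)⁻¹ = (C.tA a (-1))⁻¹ * C.sL a := by rw [← C.sL_sq]; group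
      rw [e, mul_assoc]
      exact (ih.sL_left a).M_left (inv_mem (C.tA_mem_M a _))

theorem inSec_eq_tau {g : Γ} (h : C.InSec g) (h1 : im σ g = 1) :
    ∃ w, im σ (C.tau w) = 1 ∧ g = C.tau w := by
  obtain ⟨v, hv, m, hm, ws, x, hx, rfl⟩ := h
  simp only [map_mul, C.im_L hv, C.im_L hx, C.im_nL] at h1
  have hB : T.nW ws ∈ T.B1 := by
    rw [show T.nW ws = (v * im σ m)⁻¹ * (v * im σ m * T.nW ws * x) * x⁻¹ by group, h1, mul_one]
    exact mul_mem (inv_mem (mul_mem (Subgroup.mem_sup_left hv)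
      (Subgroup.mem_sup_right (C.im_mem_T1 hm)))) (inv_mem (Subgroup.mem_sup_left hx))
  have hp : T.pW ws = 1 := isMon_unique T.hF (T.isMon_nW ws)
    (T.T1_isMon (T.B1_inf_N1 hB (T.nW_mem_N1 ws)))
  have hM := C.nL_mem_M ws hp
  obtain ⟨w, hw⟩ := mul_mem hm hM
  have e1 : im σ (C.tau w) = v⁻¹ * x⁻¹ := by
    rw [hw, map_mul, C.im_nL, eq_inv_mul_iff_mul_eq, eq_inv_iff_mul_eq_one, ← mul_assoc v, h1]
  have e2 : im σ (C.tau w) = 1 := Subgroup.mem_bot.1 ((posUnipotent_inf_diagonal T.hF).le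
    ⟨e1 ▸ (mul_mem (inv_mem hv) (inv_mem hx)).1, T.T1_le_diagonal (C.im_tau_mem w)⟩)
  refine ⟨w, e2, ?_⟩
  rw [e2, eq_comm, mul_eq_one_iff_eq_inv, inv_inv] at e1
  -- the central factor commutes past the unipotent lift
  have hc : Commute (L p σ v) (C.tau w) :=
    Subgroup.mem_center_iff.1 (C.ok.cen (MonoidHom.mem_ker.2 (Subtype.ext e2))) (L p σ v)
  rw [mul_assoc (L p σ v), ← hw, hc.eq, mul_assoc, ← C.L_mul hv hx, ← e1, mul_inv_cancel, C.L_one,
    mul_one]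

theorem section_surj {g : GL D.Idx F} (hg : g ∈ T.G1) :
    ∃ h ∈ Subgroup.closure C.secGens, im σ h = g := by
  suffices H : T.G1 ≤ (Subgroup.closure C.secGens).map (im σ) from Subgroup.mem_map.1 (H hg)
  have hu : ∀ v ∈ T.U1, v ∈ (Subgroup.closure C.secGens).map (im σ) := fun v hv =>
    ⟨L p σ v, Subgroup.subset_closure (Or.inl ⟨v, hv, rfl⟩), C.im_L hv⟩
  rw [Twist.G1, Subgroup.closure_le]
  rintro _ ⟨s, a, t, ht, rfl⟩
  cases s
  · rw [SetLike.mem_coe, ← neg_neg t, ← T.nA_conj_y]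
    have hn : T.nA a ∈ (Subgroup.closure C.secGens).map (im σ) :=
      ⟨C.sL a, Subgroup.subset_closure (Or.inr (Or.inr ⟨a, rfl⟩)), C.im_sL a⟩
    exact mul_mem (mul_mem hn (hu _ (T.y_mem_U1 (T.par_neg ht)))) (inv_mem hn)
  · exact hu _ (T.y_mem_U1 ht)

theorem commutator_le : commutator Γ ≤ Subgroup.closure C.secGens := by
  rw [commutator_def, Subgroup.commutator_le]
  intro a _ b _
  obtain ⟨a', ha', ea⟩ := C.section_surj (σ a).2
  obtain ⟨b', hb', eb⟩ := C.section_surj (σ b).2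
  have hc : ∀ {x x' : Γ}, im σ x' = im σ x → ∀ y, Commute y (x'⁻¹ * x) := fun {x x'} e y => by
    refine Subgroup.mem_center_iff.1 (C.ok.cen (MonoidHom.mem_ker.2 ?_)) y
    rw [map_mul, map_inv, show σ x' = σ x from Subtype.ext e, inv_mul_cancel]
  have key : ⁅a, b⁆ = ⁅a', b'⁆ := by
    obtain ⟨za, rfl⟩ : ∃ z, a = a' * z := ⟨a'⁻¹ * a, by group⟩
    obtain ⟨zb, rfl⟩ : ∃ z, b = b' * z := ⟨b'⁻¹ * b, by group⟩
    have h1 : ∀ y, Commute y za := fun y => by
      have := hc ea y; rwa [inv_mul_cancel_left] at this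
    have h2 : ∀ y, Commute y zb := fun y => by
      have := hc eb y; rwa [inv_mul_cancel_left] at this
    rw [commutatorElement_def, commutatorElement_def, _root_.mul_inv_rev, _root_.mul_inv_rev]
    calc a' * za * (b' * zb) * (za⁻¹ * a'⁻¹) * (zb⁻¹ * b'⁻¹)
        = a' * (za * (b' * zb) * za⁻¹) * a'⁻¹ * (zb⁻¹ * b'⁻¹) := by group
      _ = a' * b' * (zb * a'⁻¹ * zb⁻¹) * b'⁻¹ := by
          rw [← (h1 (b' * zb)).eq, mul_inv_cancel_right]; group
      _ = _ := by rw [← (h2 a'⁻¹).eq, mul_inv_cancel_right]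
  rw [key, commutatorElement_def]
  exact mul_mem (mul_mem (mul_mem ha' hb') (inv_mem ha')) (inv_mem hb')

/-- The kernel meets the derived group inside the lifted torus. -/
theorem eq_tau_of_commutator {z : Γ} (hz : z ∈ σ.ker) (hzd : z ∈ commutator Γ) :
    ∃ w, im σ (C.tau w) = 1 ∧ z = C.tau w :=
  C.inSec_eq_tau (C.closure_inSec (C.commutator_le hzd))
    (congrArg Subtype.val (MonoidHom.mem_ker.1 hz))

/-- The kernel meets the derived group trivially when the torus parameters act faithfully. -/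
theorem eq_one_of_commutator (hinj : ∀ c ∈ T.cfix, (torusHom c : GL D.Idx F) = 1 → c = 1)
    {z : Γ} (hz : z ∈ σ.ker) (hzd : z ∈ commutator Γ) : z = 1 := by
  obtain ⟨w, hw, rfl⟩ := C.eq_tau_of_commutator hz hzd
  rw [C.tau_injective hinj hw, map_one]

end CoTwist

end Cfsg.Agent.Chev
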