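import Cfsg.Agent.D4Deg.Bound
import Cfsg.Agent.Chev.Twist.D4Stmts
import Cfsg.Agent.Chev.TwistMult.Section

/-!
The unipotent radical of the parabolic of the short root in `³D₄(q)`: generators, the decomposition
of the positive unipotent subgroup, and spanning by conjugates of a long root element.
-/

set_option autoImplicit false
set_option maxRecDepth 100000
set_option maxHeartbeats 1000000

namespace Cfsg.Agent.Chev

open Cfsg.Lie Cfsg.Agent.D4Deg
open scoped MatrixGroups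

universe u

namespace D4Mult

variable {K : Type u} [Field K] (φ : K →+* K) (hφ : ∀ t, (φ ^ 3) t = t)

local notation "T" => twistD4 K φ hφ

/-- The representative of a word. -/
noncomputable def nw (ws : List (Fin 2)) : GL chevD4.Idx K := (T).nW ws

theorem nw_cons (a : Fin 2) (ws : List (Fin 2)) :
    nw φ hφ (a :: ws) = (T).nA a * nw φ hφ ws := (T).nW_cons a ws

theorem nw_nil : nw φ hφ [] = 1 := rfl

theorem nw_append (u v : List (Fin 2)) : nw φ hφ (u ++ v) = nw φ hφ u * nw φ hφ v :=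
  (T).nW_append u v

theorem nw_mem (ws : List (Fin 2)) : nw φ hφ ws ∈ (T).G1 := (T).N1_le_G1 ((T).nW_mem_N1 ws)

theorem pW_val (ws : List (Fin 2)) (r : Fin chevD4.nroots) :
    (((T).pW ws) r : ℕ) =
      (ws.flatMap (orbNats d4_031_π d4Base d4Len)).foldr (fun i s => chevD4.reflectRoot i s) r := by
  induction ws generalizing r with
  | nil => rfl
  | cons a ws ih =>
    erw [(T).pW_cons, Equiv.Perm.mul_apply]
    rw [List.flatMap_cons, List.foldr_append, ← ih,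
      show (T).wA a = (T).pW [a] by erw [(T).pW_cons, (T).pW_nil, mul_one]]
    exact (T).pW_single_val a _

/-- A word moves a root element to another one up to a sign. -/
theorem nW_conj_X (ws : List (Fin 2)) {r s : ℕ} (hr : r < chevD4.nroots)
    (h : (ws.flatMap (orbNats d4_031_π d4Base d4Len)).foldr (fun i s => chevD4.reflectRoot i s) r
      = s) :
    ∃ e : K, (e = 1 ∨ e = -1) ∧ ∀ v : K, nw φ hφ ws * X r v * (nw φ hφ ws)⁻¹ = X s (e * v) := by
  obtain ⟨e, he, hc⟩ := (T).nWord_conj_x ((T).flat ws) ⟨r, hr⟩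
  refine ⟨e, he, fun v => (hc v).trans ?_⟩
  show xG facts_chevD4 (((T).pW ws) ⟨r, hr⟩ : ℕ) (e * v) = _
  rw [pW_val φ hφ ws ⟨r, hr⟩, h]

theorem fixed_sign {e v : K} (he : e = 1 ∨ e = -1) (hv : φ v = v) : φ (e * v) = e * v := by
  rcases he with rfl | rfl <;> simp [hv]

theorem uel_eq (t : K) : uel φ t = (T).y true (0 : Fin 2) t := by
  symm
  show ((List.range (d4Len 0)).map fun j : ℕ =>
    xG facts_chevD4 ((T).rt true (0 : Fin 2) j : ℕ) ((φ ^ j) t)).prod = _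
  rw [show d4Len 0 = 3 from rfl]
  simp only [uel, List.range_succ, List.range_zero, List.nil_append, List.map_append,
    List.map_cons, List.map_nil, List.prod_append, List.prod_cons, List.prod_nil, one_mul, mul_one]
  show xG facts_chevD4 ((T).rt true (0 : Fin 2) 0 : ℕ) ((φ ^ 0) t) *
    xG facts_chevD4 ((T).rt true (0 : Fin 2) 1 : ℕ) ((φ ^ 1) t) *
    xG facts_chevD4 ((T).rt true (0 : Fin 2) 2 : ℕ) ((φ ^ 2) t) = _
  rw [pow_zero, pow_one, show ((T).rt true (0 : Fin 2) 0 : ℕ) = 18 from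
      (by decide +kernel : rtNat chevD4 d4_031_π d4Base true 0 0 = 18),
    show ((T).rt true (0 : Fin 2) 1 : ℕ) = 13 from
      (by decide +kernel : rtNat chevD4 d4_031_π d4Base true 0 1 = 13),
    show ((T).rt true (0 : Fin 2) 2 : ℕ) = 12 from
      (by decide +kernel : rtNat chevD4 d4_031_π d4Base true 0 2 = 12)]
  rfl

theorem par0 (t : K) : (T).Par (0 : Fin 2) t := (T).par_of_len rfl t

theorem y_one (t : K) : (T).y true (1 : Fin 2) t = X 14 t := by
  rw [(T).y_single (a := (1 : Fin 2)) rfl,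
    show chevD4.simple ((T).base (1 : Fin 2)) = 14 from d4_conj_roots.2.2.2]

theorem par1_iff (t : K) : (T).Par (1 : Fin 2) t ↔ φ t = t := by
  show (φ ^ d4Len 1) t = t ↔ _
  rw [show d4Len 1 = 1 from rfl, pow_one]

/-- The second short root group. -/
noncomputable def xB (t : K) : GL chevD4.Idx K := (xb φ hφ t : GL chevD4.Idx K)

/-- The third short root group. -/
noncomputable def xC (t : K) : GL chevD4.Idx K := (xc φ hφ t : GL chevD4.Idx K)

theorem xB_eq (t : K) : xB φ hφ t = nw φ hφ [1] * uel φ t * (nw φ hφ [1])⁻¹ := rfl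

theorem xC_eq (t : K) : xC φ hφ t = nw φ hφ [0] * xB φ hφ t * (nw φ hφ [0])⁻¹ := rfl

theorem xB_mem (t : K) : xB φ hφ t ∈ (T).G1 := (xb φ hφ t).2

theorem xC_mem (t : K) : xC φ hφ t ∈ (T).G1 := (xc φ hφ t).2

/-- The second short root group in coordinates. -/
theorem xB_val (t : K) : xB φ hφ t = X 19 t * X 16 (-φ t) * X 15 (-φ (φ t)) := by
  have hn : nw φ hφ [1] = X 14 (1 : K) * X 9 (-1) * X 14 1 := by
    rw [nw_cons, nw_nil, mul_one]
    show nWord facts_chevD4 ((T).orb (1 : Fin 2)) = _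
    rw [show (T).orb (1 : Fin 2) = [⟨1, by decide +kernel⟩] from
      (by decide +kernel : (List.range (d4Len 1)).map (orbNode d4_031_π d4Base 1) =
        [⟨1, by decide +kernel⟩]), nWord, List.map_singleton, List.prod_singleton]
    show nG facts_chevD4 (chevD4.simple 1) (1 : K) = _
    rw [nG, inv_one, show chevD4.simple 1 = 14 from (by decide +kernel),
      show chevD4.neg 14 = 9 from (by decide +kernel)]
  have h3 : ∀ {r k : ℕ} {c : ℤ} (v w : K),
      (r < chevD4.nroots ∧ 14 < chevD4.nroots ∧ 14 ≠ r ∧ 14 ≠ chevD4.neg r ∧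
        chevD4.commTerms r 14 = [(k, c, 1, 1)] ∧ k < chevD4.nroots ∧ 14 ≠ k ∧ 14 ≠ chevD4.neg k ∧
        chevD4.commTerms k 14 = []) →
      (k < chevD4.nroots ∧ 9 < chevD4.nroots ∧ 9 ≠ k ∧ 9 ≠ chevD4.neg k ∧
        chevD4.commTerms k 9 = [(r, c, 1, 1)] ∧ r < chevD4.nroots ∧ 9 ≠ r ∧ 9 ≠ chevD4.neg r ∧
        chevD4.commTerms r 9 = []) →
      (k < chevD4.nroots ∧ r < chevD4.nroots ∧ r ≠ k ∧ r ≠ chevD4.neg k ∧
        chevD4.commTerms k r = []) →
      (c = 1 ∨ c = -1) → w = -((c : K) * v) →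
      X 14 (1 : K) * X 9 (-1) * X 14 1 * X r v * (X 14 (1 : K) * X 9 (-1) * X 14 1)⁻¹ = X k w := by
    intro r k c v w h1 h2 h4 hc hw
    have hr9 : X 9 (-1 : K) * X r v * (X 9 (-1 : K))⁻¹ = X r v :=
      conj_eq_self ⟨h2.2.2.2.2.2.1, h2.2.1, h2.2.2.2.2.2.2.1, h2.2.2.2.2.2.2.2.1,
        h2.2.2.2.2.2.2.2.2⟩ _ _
    have hk14 : X 14 (1 : K) * X k w * (X 14 (1 : K))⁻¹ = X k w :=
      conj_eq_self ⟨h1.2.2.2.2.2.1, h1.2.1, h1.2.2.2.2.2.2.1, h1.2.2.2.2.2.2.2.1,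
        h1.2.2.2.2.2.2.2.2⟩ _ _
    calc _ = X 14 (1 : K) * (X 9 (-1) * (X 14 1 * X r v * (X 14 (1 : K))⁻¹) * (X 9 (-1))⁻¹) *
          (X 14 (1 : K))⁻¹ := by group
      _ = _ := by
        rw [conj_X h1, mul_one, ← hw, conj_mul₂ (X 9 (-1 : K)), hr9, conj_X h2]
        have hz : v + -((c : K) * w * -1) = 0 := by
          rcases hc with rfl | rfl <;> simp [hw]
        have hcm : Commute (X r v) (X k w) := commute_X h4 _ _
        rw [hcm.left_comm, xG_mul, hz, xG_zero, mul_one, hk14]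
  rw [xB_eq, hn, uel, conj_mul₂, conj_mul₂, pow_two_apply,
    h3 (k := 19) (c := -1) t t (by decide +kernel) (by decide +kernel)
      (by decide +kernel) (Or.inr rfl) (by simp),
    h3 (k := 16) (c := 1) (φ t) (-φ t) (by decide +kernel) (by decide +kernel)
      (by decide +kernel) (Or.inl rfl)
      (by simp),
    h3 (k := 15) (c := 1) (φ (φ t)) (-φ (φ t)) (by decide +kernel) (by decide +kernel)
      (by decide +kernel)
      (Or.inl rfl) (by simp)]

/-- A word in the orbits permutes the short fundamental orbit. -/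
theorem uel_move [Finite K] (ws : List (Fin 2))
    (h : (ws.flatMap (orbNats d4_031_π d4Base d4Len)).foldr (fun i s => chevD4.reflectRoot i s) 18
      = 18) (t : K) : ∃ s, nw φ hφ ws * uel φ s * (nw φ hφ ws)⁻¹ = uel φ t := by
  have hrt : ∀ j, j = 0 → ((T).rt true (0 : Fin 2) j : ℕ) = 18 := fun j hj => hj ▸
    (by decide +kernel : rtNat chevD4 d4_031_π d4Base true 0 0 = 18)
  have hπ : (T).pW ws ((T).rt true (0 : Fin 2) 0) = (T).rt true (0 : Fin 2) 0 := by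
    refine Fin.ext ((pW_val φ hφ ws _).trans ?_)
    rw [hrt 0 rfl, h]
  have key : ∀ s, ∃ s', nw φ hφ ws * uel φ s * (nw φ hφ ws)⁻¹ = uel φ s' := fun s => by
    obtain ⟨s', -, hs'⟩ := CoTwist.exists_conj_y ((T).isMon_nW ws)
      ((T).G1_le_fx (nw_mem φ hφ ws)) ((T).inW1_pW ws) (a := (0 : Fin 2)) (b := (0 : Fin 2))
      (j₀ := 0) hπ (par0 φ hφ s)
    exact ⟨s', by rw [uel_eq φ hφ s, uel_eq φ hφ s']; exact hs'⟩
  choose f hf using key
  have hinj : Function.Injective f := fun x y e => by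
    have h1 := (hf x).trans ((congrArg (uel φ) e).trans (hf y).symm)
    rw [mul_left_inj, mul_right_inj, uel_eq φ hφ, uel_eq φ hφ] at h1
    exact (T).y_injective h1
  obtain ⟨s, hs⟩ := Finite.surjective_of_injective hinj t
  exact ⟨s, hs ▸ hf s⟩

/-- The generators of the radical. -/
def Gen (g : GL chevD4.Idx K) : Prop :=
  (∃ r ∈ ([14, 22, 23] : List ℕ), ∃ v, φ v = v ∧ g = X r v) ∨ (∃ t, g = xB φ hφ t) ∨
    ∃ t, g = xC φ hφ t

/-- The radical. -/
noncomputable def Q1 : Subgroup (GL chevD4.Idx K) := Qf K ⊓ (T).fx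

theorem mem_fx_of_mem {g : GL chevD4.Idx K} (hg : g ∈ (T).G1) : g ∈ (T).fx := (T).G1_le_fx hg

theorem long_mem_Q1 {r : ℕ} (hr : r ∈ ([14, 22, 23] : List ℕ)) {v : K} (hv : φ v = v) :
    X r v ∈ Q1 φ hφ := by
  refine ⟨mem_Qf ?_ v, mem_fx_of_mem φ hφ (single_mem φ hφ r hr v hv)⟩
  exact (by decide : ∀ x ∈ ([14, 22, 23] : List ℕ), x ∈ qRoots) r hr

theorem xB_mem_Q1 (t : K) : xB φ hφ t ∈ Q1 φ hφ := by
  refine ⟨?_, mem_fx_of_mem φ hφ (xB_mem φ hφ t)⟩
  rw [xB_val]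
  exact mul_mem (mul_mem (mem_Qf (by decide) _) (mem_Qf (by decide) _)) (mem_Qf (by decide) _)

theorem xC_mem_Q1 (t : K) : xC φ hφ t ∈ Q1 φ hφ := by
  obtain ⟨d₀, d₁, d₂, -, -, -, h⟩ := exists_xc φ hφ
  refine ⟨?_, mem_fx_of_mem φ hφ (xC_mem φ hφ t)⟩
  rw [xC, h]
  exact mul_mem (mul_mem (mem_Qf (by decide) _) (mem_Qf (by decide) _)) (mem_Qf (by decide) _)

theorem gen_mem_Q1 {g : GL chevD4.Idx K} (hg : Gen φ hφ g) : g ∈ Q1 φ hφ := by
  rcases hg with ⟨r, hr, v, hv, rfl⟩ | ⟨t, rfl⟩ | ⟨t, rfl⟩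
  exacts [long_mem_Q1 φ hφ hr hv, xB_mem_Q1 φ hφ t, xC_mem_Q1 φ hφ t]

theorem Qf_le_posUnipotent : Qf K ≤ chevD4.posUnipotent K := by
  refine (Subgroup.closure_le _).2 ?_
  rintro _ ⟨r, hr, t, rfl⟩
  obtain ⟨h1, h2⟩ := (by decide +kernel : ∀ x ∈ qRoots, x < chevD4.nroots ∧ half chevD4 ≤ x) r hr
  exact mem_posUnipotent_of facts_chevD4 h1 h2 t

theorem uPlus_eq : uPlus facts_chevD4 ((T).wA (0 : Fin 2)) = Qf K := by
  have hw : ∀ r, ((T).wA (0 : Fin 2) r : ℕ) =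
      (orbNats d4_031_π d4Base d4Len 0).foldr (fun i s => chevD4.reflectRoot i s) r := fun r => by
    have := (T).pW_single_val (0 : Fin 2) r
    erw [(T).pW_cons, (T).pW_nil, mul_one] at this
    exact this
  refine le_antisymm ((Subgroup.closure_le _).2 ?_) ((Subgroup.closure_le _).2 ?_)
  · rintro _ ⟨r, t, h1, h2, rfl⟩
    refine mem_Qf ?_ t
    rw [hw] at h2
    revert r
    exact (by decide +kernel : ∀ r : Fin chevD4.nroots, half chevD4 ≤ (r : ℕ) →
      half chevD4 ≤ (orbNats d4_031_π d4Base d4Len 0).foldr (fun i s => chevD4.reflectRoot i s) r →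
        (r : ℕ) ∈ qRoots)
  · rintro _ ⟨r, hr, t, rfl⟩
    obtain ⟨h1, h2, h3⟩ := (by decide +kernel : ∀ x ∈ qRoots, x < chevD4.nroots ∧ half chevD4 ≤ x ∧
      half chevD4 ≤ (orbNats d4_031_π d4Base d4Len 0).foldr (fun i s => chevD4.reflectRoot i s) x)
      r hr
    refine Subgroup.subset_closure ⟨⟨r, h1⟩, t, h2, ?_, rfl⟩
    show half chevD4 ≤ ((T).wA (0 : Fin 2) ⟨r, h1⟩ : ℕ)
    rw [hw]
    exact h3

theorem conj_Qf {s : ℕ} (hs : s ∈ ([18, 13, 12] : List ℕ)) (v : K) {g : GL chevD4.Idx K}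
    (hg : g ∈ Qf K) : X s v * g * (X s v)⁻¹ ∈ Qf K := by
  rw [← MulAut.conj_apply]
  refine ((Subgroup.closure_le _).2 ?_ : Qf K ≤ (Qf K).comap (MulAut.conj (X s v)).toMonoidHom) hg
  rintro _ ⟨r, hr, t, rfl⟩
  show X s v * X r t * (X s v)⁻¹ ∈ Qf K
  obtain ⟨h1, h2, h3, h4, h5⟩ := (by decide +kernel :
    ∀ x ∈ ([18, 13, 12] : List ℕ), ∀ r ∈ qRoots, r < chevD4.nroots ∧ x < chevD4.nroots ∧ x ≠ r ∧
      x ≠ chevD4.neg r ∧ ∀ c ∈ chevD4.commTerms r x, c.1 ∈ qRoots) s hs r hr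
  have hc := xG_comm facts_chevD4 h1 h2 h3 h4 t v
  show xG facts_chevD4 s v * xG facts_chevD4 r t * (xG facts_chevD4 s v)⁻¹ ∈ Qf K
  rw [hc, show xG facts_chevD4 r t * xG facts_chevD4 s v * wordG facts_chevD4
      (chevD4.commWord K r s t v) * (xG facts_chevD4 s v)⁻¹ = xG facts_chevD4 r t *
      (xG facts_chevD4 s v * wordG facts_chevD4 (chevD4.commWord K r s t v) *
        (xG facts_chevD4 s v)⁻¹) by group]
  refine mul_mem (mem_Qf hr t) ?_
  rw [← MulAut.conj_apply, wordG, map_list_prod, List.map_map]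
  refine Subgroup.list_prod_mem _ fun y hy => ?_
  obtain ⟨z, hz, rfl⟩ := List.mem_map.1 hy
  obtain ⟨c, hc', rfl⟩ := List.mem_map.1 hz
  obtain ⟨k1, k2, k3, k4, k5⟩ := (by decide +kernel :
    ∀ x ∈ ([18, 13, 12] : List ℕ), ∀ r ∈ qRoots, ∀ c ∈ chevD4.commTerms r x,
      c.1 < chevD4.nroots ∧ x < chevD4.nroots ∧ x ≠ c.1 ∧
        x ≠ chevD4.neg c.1 ∧ chevD4.commTerms c.1 x = []) s hs r hr c hc'
  show xG facts_chevD4 s v * xG facts_chevD4 c.1 _ * (xG facts_chevD4 s v)⁻¹ ∈ Qf K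
  exact (conj_eq_self ⟨k1, k2, k3, k4, k5⟩ _ v).symm ▸ mem_Qf (h5 c hc') _

theorem uel_conj_Q1 (w : K) {g : GL chevD4.Idx K} (hg : g ∈ Q1 φ hφ) :
    uel φ w * g * (uel φ w)⁻¹ ∈ Q1 φ hφ := by
  refine ⟨?_, Subgroup.mul_mem _ (Subgroup.mul_mem _ (mem_fx_of_mem φ hφ (uel_mem φ hφ w)) hg.2)
    (Subgroup.inv_mem _ (mem_fx_of_mem φ hφ (uel_mem φ hφ w)))⟩
  rw [uel, show X 18 w * X 13 (φ w) * X 12 ((φ ^ 2) w) * g *
      (X 18 w * X 13 (φ w) * X 12 ((φ ^ 2) w))⁻¹ =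
    X 18 w * (X 13 (φ w) * (X 12 ((φ ^ 2) w) * g * (X 12 ((φ ^ 2) w))⁻¹) * (X 13 (φ w))⁻¹) *
      (X 18 w)⁻¹ by group]
  exact conj_Qf (by decide) _ (conj_Qf (by decide) _ (conj_Qf (by decide) _ hg.1))

theorem n0_conj_Q1 {g : GL chevD4.Idx K} (hg : g ∈ Q1 φ hφ) :
    nw φ hφ [0] * g * (nw φ hφ [0])⁻¹ ∈ Q1 φ hφ := by
  refine ⟨?_, Subgroup.mul_mem _ (Subgroup.mul_mem _ (mem_fx_of_mem φ hφ (nw_mem φ hφ _)) hg.2)
    (Subgroup.inv_mem _ (mem_fx_of_mem φ hφ (nw_mem φ hφ _)))⟩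
  rw [← MulAut.conj_apply]
  refine ((Subgroup.closure_le _).2 ?_ :
    Qf K ≤ (Qf K).comap (MulAut.conj (nw φ hφ [0])).toMonoidHom) hg.1
  rintro _ ⟨r, hr, t, rfl⟩
  obtain ⟨h1, h2⟩ := (by decide +kernel : ∀ x ∈ qRoots, x < chevD4.nroots ∧
    (([0] : List (Fin 2)).flatMap (orbNats d4_031_π d4Base d4Len)).foldr
      (fun i s => chevD4.reflectRoot i s) x ∈ qRoots) r hr
  obtain ⟨e, -, he⟩ := nW_conj_X φ hφ [0] h1 rfl
  show nw φ hφ [0] * X r t * (nw φ hφ [0])⁻¹ ∈ Qf K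
  rw [he]
  exact mem_Qf h2 _

theorem conj_long {ws : List (Fin 2)} {k : ℕ} (hk : k ∈ ([14, 22, 23] : List ℕ))
    (h : (ws.flatMap (orbNats d4_031_π d4Base d4Len)).foldr (fun i s => chevD4.reflectRoot i s) k
      = 14) {t : K} (ht : φ t = t) :
    Gen φ hφ ((nw φ hφ ws)⁻¹ * (T).y true (1 : Fin 2) t * nw φ hφ ws) := by
  obtain ⟨e, he, hc⟩ := nW_conj_X φ hφ ws (r := k)
    ((by decide +kernel : ∀ x ∈ ([14, 22, 23] : List ℕ), x < chevD4.nroots) k hk) h
  refine Or.inl ⟨k, hk, e * t, fixed_sign φ he ht, ?_⟩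
  have := hc (e * t)
  rw [← mul_assoc, show e * e = 1 by rcases he with rfl | rfl <;> ring, one_mul] at this
  rw [y_one, ← this]
  group

theorem conj_short [Finite K] (ws : List (Fin 2)) (t : K) :
    ((((ws ++ [1] : List (Fin 2))).flatMap (orbNats d4_031_π d4Base d4Len)).foldr
        (fun i s => chevD4.reflectRoot i s) 18 = 18 →
      Gen φ hφ ((nw φ hφ ws)⁻¹ * (T).y true (0 : Fin 2) t * nw φ hφ ws)) ∧
    ((((ws ++ [0, 1] : List (Fin 2))).flatMap (orbNats d4_031_π d4Base d4Len)).foldr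
        (fun i s => chevD4.reflectRoot i s) 18 = 18 →
      Gen φ hφ ((nw φ hφ ws)⁻¹ * (T).y true (0 : Fin 2) t * nw φ hφ ws)) := by
  refine ⟨fun h => ?_, fun h => ?_⟩ <;> obtain ⟨s, hs⟩ := uel_move φ hφ _ h t <;>
    rw [← uel_eq φ hφ, ← hs, nw_append]
  · refine Or.inr (Or.inl ⟨s, ?_⟩)
    rw [xB_eq]; group
  · refine Or.inr (Or.inr ⟨s, ?_⟩)
    rw [xC_eq, xB_eq, show ([0, 1] : List (Fin 2)) = [0] ++ [1] from rfl, nw_append]; group

/-- The positive unipotent subgroup is the product of the generated radical and the short root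
group. -/
theorem exists_factor [Finite K] {g : GL chevD4.Idx K} (hg : g ∈ (T).U1) :
    ∃ a ∈ Subgroup.closure {x | Gen φ hφ x}, ∃ t, g = a * uel φ t := by
  obtain ⟨hgp, hgf⟩ := hg
  have hlong : ∀ r : Fin chevD4.nroots, half chevD4 ≤ (r : ℕ) →
      ((T).pW ([1, 0, 1, 0, 1] ++ [0] : List (Fin 2)) r : ℕ) < half chevD4 := fun r hr => by
    rw [show ((T).pW ([1, 0, 1, 0, 1] ++ [0] : List (Fin 2)) r : ℕ) = _ from pW_val φ hφ _ r]
    revert r
    decide +kernel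
  have hg6 : g ∈ (T).fm ((T).pW ([1, 0, 1, 0, 1, 0] : List (Fin 2))) := by
    refine ⟨?_, hgf⟩
    rw [posUnipotent_eq facts_chevD4] at hgp
    refine (Subgroup.closure_le _).2 ?_ hgp
    rintro x ⟨r, t, h1, h2, rfl⟩
    exact Subgroup.subset_closure ⟨⟨r, h2⟩, t, h1, hlong _ h1, rfl⟩
  have step : ∀ (ws : List (Fin 2)) (a : Fin 2) (x : GL chevD4.Idx K),
      x ∈ (T).fm ((T).pW (ws ++ [a] : List (Fin 2))) →
      half chevD4 ≤ (ws.flatMap (orbNats d4_031_π d4Base d4Len)).foldr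
        (fun i s => chevD4.reflectRoot i s) (sRoot facts_chevD4 (d4Base a)) →
      ∃ x' ∈ (T).fm ((T).pW ws), ∃ t, (T).Par a t ∧
        x = ((T).nA a)⁻¹ * x' * (T).nA a * (T).y true a t := fun ws a x hx hpos => by
    erw [(T).pW_append, (T).pW_cons, (T).pW_nil, mul_one] at hx
    exact (T).fm_step_forward rfl hx (le_of_le_of_eq hpos (pW_val φ hφ ws _).symm)
  obtain ⟨x5, h5, t6, -, rfl⟩ := step [1, 0, 1, 0, 1] 0 g hg6 (by decide +kernel)
  obtain ⟨x4, h4, t5, p5, rfl⟩ := step [1, 0, 1, 0] 1 x5 h5 (by decide +kernel)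
  obtain ⟨x3, h3, t4, -, rfl⟩ := step [1, 0, 1] 0 x4 h4 (by decide +kernel)
  obtain ⟨x2, h2, t3, p3, rfl⟩ := step [1, 0] 1 x3 h3 (by decide +kernel)
  obtain ⟨x1, h1, t2, -, rfl⟩ := step [1] 0 x2 h2 (by decide +kernel)
  obtain ⟨x0, h0, t1, p1, rfl⟩ := step [] 1 x1 h1 (by decide +kernel)
  erw [(T).pW_nil, (T).fm_one, Subgroup.mem_bot] at h0
  subst h0
  have hP : ∀ {t}, (T).Par (1 : Fin 2) t → φ t = t := fun h => (par1_iff φ hφ _).1 h
  have e1 := conj_long φ hφ (ws := [0, 1, 0, 1, 0]) (k := 14) (by decide) (by decide +kernel) (hP p1)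
  have e2 := (conj_short φ hφ [1, 0, 1, 0] t2).1 (by decide +kernel)
  have e3 := conj_long φ hφ (ws := [0, 1, 0]) (k := 23) (by decide) (by decide +kernel) (hP p3)
  have e4 := (conj_short φ hφ [1, 0] t4).2 (by decide +kernel)
  have e5 := conj_long φ hφ (ws := [0]) (k := 22) (by decide) (by decide +kernel) (hP p5)
  refine ⟨_, mul_mem (mul_mem (mul_mem (mul_mem (Subgroup.subset_closure e1)
    (Subgroup.subset_closure e2)) (Subgroup.subset_closure e3)) (Subgroup.subset_closure e4))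
    (Subgroup.subset_closure e5), t6, ?_⟩
  rw [uel_eq φ hφ t6]
  simp only [nw_cons, nw_nil, mul_one]
  group

theorem Q1_le_U1 : Q1 φ hφ ≤ (T).U1 := inf_le_inf_right _ Qf_le_posUnipotent

theorem uel_mem_U1 (t : K) : uel φ t ∈ (T).U1 := uel_eq φ hφ t ▸ (T).y_mem_U1 (par0 φ hφ t)

theorem factor_unique {a b : GL chevD4.Idx K} (ha : a ∈ Q1 φ hφ) (hb : b ∈ Q1 φ hφ) {s t : K}
    (e : a * uel φ s = b * uel φ t) : a = b ∧ s = t := by
  have hm : ∀ t, uel φ t ∈ uMinus facts_chevD4 ((T).wA (0 : Fin 2)) := fun t =>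
    uel_eq φ hφ t ▸ (T).y_mem_uMinus (0 : Fin 2) _
  obtain ⟨h1, h2⟩ := split_unique facts_chevD4 ((T).isMon_nA (0 : Fin 2))
    ((uPlus_eq φ hφ).symm ▸ ha.1 : a ∈ uPlus facts_chevD4 ((T).wA (0 : Fin 2)))
    ((uPlus_eq φ hφ).symm ▸ hb.1) (hm s) (hm t) e
  rw [uel_eq φ hφ, uel_eq φ hφ] at h2
  exact ⟨h1, (T).y_injective h2⟩

theorem Q1_eq [Finite K] : Q1 φ hφ = Subgroup.closure {x | Gen φ hφ x} := by
  refine le_antisymm (fun g hg => ?_) ((Subgroup.closure_le _).2 fun x hx => gen_mem_Q1 φ hφ hx)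
  obtain ⟨a, ha, t, e⟩ := exists_factor φ hφ (Q1_le_U1 φ hφ hg)
  have h0 : uel φ 0 = 1 := by rw [uel_eq φ hφ]; exact (T).y_zero true _
  obtain ⟨h1, -⟩ := factor_unique φ hφ hg
    ((Subgroup.closure_le _).2 (fun x hx => gen_mem_Q1 φ hφ hx) ha) (s := 0) (t := t)
    (by rw [h0, mul_one, e])
  exact h1 ▸ ha

theorem Q1_le_G1 : Q1 φ hφ ≤ (T).G1 := (Q1_le_U1 φ hφ).trans (T).U1_le_G1

theorem chiU_hv_zero (u : Kˣ) {r : Fin chevD4.nroots} {e : ℤ}
    (h : chevD4.cartan 0 r = e ∧ chevD4.cartan 2 r = e ∧ chevD4.cartan 3 r = e) :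
    chiU ((T).hv (0 : Fin 2) u) (r : ℕ) =
      (u * Units.map φ.toMonoidHom u * Units.map φ.toMonoidHom (Units.map φ.toMonoidHom u)) ^ e := by
  have hn : orbNode d4_031_π d4Base 0 0 = (⟨0, by decide +kernel⟩ : Fin chevD4.rank) ∧
      orbNode d4_031_π d4Base 0 1 = ⟨2, by decide +kernel⟩ ∧
      orbNode d4_031_π d4Base 0 2 = ⟨3, by decide +kernel⟩ := by
    refine ⟨?_, ?_, ?_⟩ <;> decide +kernel
  have hv : ∀ (j : ℕ) (i : Fin chevD4.rank), j < 3 → orbNode d4_031_π d4Base 0 j = i →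
      (T).hv (0 : Fin 2) u i = Units.map (φ ^ j).toMonoidHom u := by
    rintro j i hj rfl
    exact (T).hv_node (0 : Fin 2) u hj
  have h1 : (T).hv (0 : Fin 2) u (⟨1, by decide +kernel⟩ : Fin chevD4.rank) = 1 :=
    (T).hv_other u fun j hj => (by decide +kernel : ∀ j : Fin 3,
      orbNode d4_031_π d4Base 0 j ≠ (⟨1, by decide +kernel⟩ : Fin chevD4.rank)) ⟨j, hj⟩
  show ∏ i : Fin 4, (T).hv (0 : Fin 2) u i ^ chevD4.cartan i r = _
  rw [Fin.prod_univ_four]
  erw [hv 0 _ (by omega) hn.1, hv 1 _ (by omega) hn.2.1, hv 2 _ (by omega) hn.2.2, h1]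
  show Units.map (φ ^ 0).toMonoidHom u ^ chevD4.cartan 0 r * (1 : Kˣ) ^ chevD4.cartan 1 r *
    Units.map (φ ^ 1).toMonoidHom u ^ chevD4.cartan 2 r *
    Units.map (φ ^ 2).toMonoidHom u ^ chevD4.cartan 3 r = _
  rw [h.1, h.2.1, h.2.2, one_zpow, mul_one, ← mul_zpow, ← mul_zpow]
  congr 1

/-- The torus element centralising the short root group and scaling the radical. -/
theorem exists_scalar {u : Kˣ} (hu : φ (u : K) = u) :
    ∃ h ∈ (T).G1, (∀ t, h * uel φ t * h⁻¹ = uel φ t) ∧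
      (∀ r ∈ ([14, 22] : List ℕ), ∀ v, h * X r v * h⁻¹ = X r ((u : K) * v)) ∧
      (∀ v, h * X 23 v * h⁻¹ = X 23 ((u : K) ^ 2 * v)) ∧
      (∀ t, h * xB φ hφ t * h⁻¹ = xB φ hφ ((u : K) * t)) ∧
      ∀ t, h * xC φ hφ t * h⁻¹ = xC φ hφ ((u : K) * t) := by
  classical
  let c : Fin chevD4.rank → Kˣ := fun i => if (i : ℕ) = 1 then u ^ 2 else u
  have hcfix : c ∈ (T).cfix := by
    rw [Twist.mem_cfix]
    funext i
    show Units.map φ.toMonoidHom (c (d4_031_π.symm i)) = c i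
    have hiff : ∀ i : Fin chevD4.rank,
        ((d4_031_π.symm i : Fin chevD4.rank) : ℕ) = 1 ↔ (i : ℕ) = 1 := by decide +kernel
    have hU : Units.map φ.toMonoidHom u = u := Units.ext hu
    by_cases h : (i : ℕ) = 1
    · simp only [c, if_pos ((hiff i).2 h), if_pos h, map_pow, hU]
    · simp only [c, if_neg h, if_neg (mt (hiff i).1 h), hU]
  have hx : ∀ (r : ℕ) (hr : r < chevD4.nroots) (e : ℕ),
      chevD4.cartan 0 r + 2 * chevD4.cartan 1 r + chevD4.cartan 2 r + chevD4.cartan 3 r = (e : ℤ) →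
      ∀ v, torusHom c * X r v * (torusHom c)⁻¹ = X r ((u : K) ^ e * v) := by
    intro r hr e he v
    have hchi : chiU c r = u ^ e := by
      show ∏ i : Fin 4, c i ^ chevD4.cartan i r = _
      rw [Fin.prod_univ_four]
      show u ^ chevD4.cartan 0 r * (u ^ 2) ^ chevD4.cartan 1 r * u ^ chevD4.cartan 2 r *
        u ^ chevD4.cartan 3 r = _
      rw [← zpow_natCast u 2, ← zpow_mul, ← zpow_add, ← zpow_add, ← zpow_add, Nat.cast_ofNat, he,
        zpow_natCast]
    show torusHom c * xG facts_chevD4 r v * (torusHom c)⁻¹ = _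
    rw [torusHom_conj facts_chevD4 c hr, mul_inv_cancel_right, hchi, Units.val_pow_eq_pow_val]
  have hu1 : ∀ t, φ ((u : K) * t) = (u : K) * φ t := fun t => by rw [map_mul, hu]
  refine ⟨torusHom c, (T).T1_le_G1 ⟨c, hcfix, rfl⟩, fun t => ?_, fun r hr v => ?_, fun v =>
    hx 23 (by decide +kernel) 2 (by decide +kernel) v, fun t => ?_, fun t => ?_⟩
  · rw [uel, conj_mul₂, conj_mul₂, hx 18 (by decide +kernel) 0 (by decide +kernel),
      hx 13 (by decide +kernel) 0 (by decide +kernel), hx 12 (by decide +kernel) 0 (by decide +kernel)]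
    simp only [pow_zero, one_mul]
  · obtain ⟨h1, h2⟩ := (by decide +kernel : ∀ x ∈ ([14, 22] : List ℕ), x < chevD4.nroots ∧
      chevD4.cartan 0 x + 2 * chevD4.cartan 1 x + chevD4.cartan 2 x + chevD4.cartan 3 x =
        ((1 : ℕ) : ℤ)) r hr
    rw [hx r h1 1 h2, pow_one]
  · rw [xB_val, xB_val, conj_mul₂, conj_mul₂, hx 19 (by decide +kernel) 1 (by decide +kernel),
      hx 16 (by decide +kernel) 1 (by decide +kernel), hx 15 (by decide +kernel) 1 (by decide +kernel),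
      hu1, hu1]
    simp only [pow_one, mul_neg]
  · obtain ⟨d₀, d₁, d₂, -, -, -, h⟩ := exists_xc φ hφ
    show torusHom c * (xc φ hφ t : GL chevD4.Idx K) * (torusHom c)⁻¹ = (xc φ hφ _ : GL chevD4.Idx K)
    rw [h, h, conj_mul₂, conj_mul₂, hx 17 (by decide +kernel) 1 (by decide +kernel),
      hx 20 (by decide +kernel) 1 (by decide +kernel), hx 21 (by decide +kernel) 1 (by decide +kernel),
      hu1, hu1, pow_one]
    ring_nf

section

variable {q : ℕ} (hqφ : ∀ (j : ℕ) (t : K), (φ ^ j) t = t ^ q ^ j) [Fintype K] (hq2 : 2 ≤ q)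
  (hK : Fintype.card K = q ^ 3)
include hqφ hq2 hK

theorem card_U1' : Nat.card ↥(T).U1 = q ^ 12 := by
  rw [(T).card_U1 fun a => d4_card_par φ hφ hqφ hq2 hK a,
    show half chevD4 = 12 by decide +kernel]

theorem card_Q1 : Nat.card ↥(Q1 φ hφ) = q ^ 9 := by
  have h : Nat.card (↥(Q1 φ hφ) × K) = Nat.card ↥(T).U1 := by
    refine Nat.card_congr (Equiv.ofBijective (fun x => (⟨(x.1 : GL chevD4.Idx K) * uel φ x.2,
      mul_mem (Q1_le_U1 φ hφ x.1.2) (uel_mem_U1 φ hφ x.2)⟩ : ↥(T).U1)) ⟨?_, ?_⟩)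
    · rintro ⟨⟨a, ha⟩, s⟩ ⟨⟨b, hb⟩, t⟩ e
      obtain ⟨rfl, rfl⟩ := factor_unique φ hφ ha hb (congrArg Subtype.val e)
      rfl
    · rintro ⟨g, hg⟩
      obtain ⟨a, ha, t, rfl⟩ := exists_factor φ hφ hg
      exact ⟨(⟨a, (Q1_eq φ hφ).symm ▸ ha⟩, t), rfl⟩
  rw [Nat.card_prod, card_U1' φ hφ hqφ hq2 hK, Nat.card_eq_fintype_card (α := K), hK] at h
  have h12 : q ^ 12 = q ^ 9 * q ^ 3 := by ring
  exact Nat.eq_of_mul_eq_mul_right (pow_pos (by omega) 3) (h.trans h12)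

include hφ in
theorem exists_norm {r : K} (hr : φ r = r) (hr0 : r ≠ 0) :
    ∃ u : Kˣ, (u : K) * φ u * φ (φ u) = r := by
  classical
  set N := 1 + q + q ^ 2 with hN
  have hval : ∀ u : Kˣ, ((powMonoidHom N u : Kˣ) : K) = (u : K) * φ u * φ (φ u) := fun u => by
    have h1 : ∀ x, φ x = x ^ q := fun x => by simpa using hqφ 1 x
    rw [powMonoidHom_apply, Units.val_pow_eq_pow_val, h1 (φ _), h1, ← pow_mul, hN, pow_add, pow_add,
      pow_one, pow_two]
  have hfix : ∀ x : K, x ≠ 0 → (φ x = x ↔ x ^ (q - 1) = 1) := fun x hx => by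
    rw [show φ x = x ^ q by simpa using hqφ 1 x]
    conv_lhs => lhs; rw [show q = q - 1 + 1 by omega, pow_succ]
    exact mul_eq_right₀ hx
  obtain ⟨n, rfl⟩ : ∃ n, q = n + 1 := ⟨q - 1, by omega⟩
  have hN' : (n + 1) ^ 3 - 1 = n * N :=
    Nat.sub_eq_of_eq_add (by rw [hN]; ring)
  have hcardK : Nat.card Kˣ = n * N := by
    rw [Nat.card_eq_fintype_card, Fintype.card_units, hK, hN']
  have hmem : (Units.mk0 r hr0) ∈ (powMonoidHom N : Kˣ →* Kˣ).range := by
    have hle : (powMonoidHom N : Kˣ →* Kˣ).range ≤ (powMonoidHom n : Kˣ →* Kˣ).ker := by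
      rintro _ ⟨u, rfl⟩
      rw [MonoidHom.mem_ker, powMonoidHom_apply, powMonoidHom_apply, ← pow_mul, mul_comm,
        ← hcardK, pow_card_eq_one']
    have hc : Nat.card ↥(powMonoidHom n : Kˣ →* Kˣ).ker ≤
        Nat.card ↥(powMonoidHom N : Kˣ →* Kˣ).range := by
      rw [IsCyclic.card_powMonoidHom_ker, hcardK, Nat.gcd_eq_right (dvd_mul_right n N)]
      have h2 := Subgroup.card_mul_index (powMonoidHom N : Kˣ →* Kˣ).ker
      rw [Subgroup.index_ker, IsCyclic.card_powMonoidHom_ker, hcardK,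
        Nat.gcd_eq_right (dvd_mul_left N n), mul_comm n N] at h2
      exact (Nat.eq_of_mul_eq_mul_left (by omega) h2).ge
    rw [Subgroup.eq_of_le_of_card_ge hle hc, MonoidHom.mem_ker, powMonoidHom_apply]
    refine Units.ext ?_
    rw [Units.val_pow_eq_pow_val]
    exact (hfix r hr0).1 hr
  obtain ⟨u, hu⟩ := hmem
  exact ⟨u, (hval u).symm.trans (congrArg Units.val hu)⟩

end

/-- The image in the abelian quotient. -/
noncomputable def img (S : Subgroup (GL chevD4.Idx K)) : AddSubgroup (Additive (Qbar K)) :=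
  Subgroup.toAddSubgroup ((S.subgroupOf (Qf K)).map
    (QuotientGroup.mk' ((Xtop K).subgroupOf (Qf K))))

theorem mem_img_iff {S : Subgroup (GL chevD4.Idx K)} {x : Qbar K} :
    Additive.ofMul x ∈ img S ↔ x ∈ (S.subgroupOf (Qf K)).map
      (QuotientGroup.mk' ((Xtop K).subgroupOf (Qf K))) := Iff.rfl

theorem mem_img {S : Subgroup (GL chevD4.Idx K)} {g : GL chevD4.Idx K} (hQ : g ∈ Qf K)
    (hg : g ∈ S) : Additive.ofMul (QuotientGroup.mk (⟨g, hQ⟩ : ↥(Qf K)) : Qbar K) ∈ img S :=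
  mem_img_iff.2 (Subgroup.mem_map.2 ⟨⟨g, hQ⟩, hg, rfl⟩)

theorem of_img {S : Subgroup (GL chevD4.Idx K)} (hS : S ≤ (T).G1)
    (h23 : ∀ v, φ v = v → X 23 v ∈ S) {g : GL chevD4.Idx K} (hQ : g ∈ Qf K) (hG : g ∈ (T).G1)
    (h : Additive.ofMul (QuotientGroup.mk (⟨g, hQ⟩ : ↥(Qf K)) : Qbar K) ∈ img S) : g ∈ S := by
  obtain ⟨⟨s, hsQ⟩, hs, e⟩ := Subgroup.mem_map.1 (mem_img_iff.1 h)
  obtain ⟨v, hv⟩ := Subgroup.mem_subgroupOf.1 (QuotientGroup.eq.1 e)
  have hv' : X 23 v = s⁻¹ * g := hv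
  have := h23 v (top_fixed φ hφ (hv' ▸ mul_mem (inv_mem (hS hs)) hG))
  rw [show g = s * X 23 v by rw [hv', mul_inv_cancel_left]]
  exact mul_mem hs this

/-- The coordinates of the second short root group in the abelian quotient. -/
noncomputable def cB : K →+ Additive (Qbar K) :=
  mkX 19 (by decide) + (mkX 16 (by decide)).comp (-φ.toAddMonoidHom) +
    (mkX 15 (by decide)).comp (-(φ.toAddMonoidHom.comp φ.toAddMonoidHom))

/-- The coordinates of the third short root group in the abelian quotient, up to signs. -/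
noncomputable def cC : K →+ Additive (Qbar K) :=
  mkX 17 (by decide) + (mkX 20 (by decide)).comp (-φ.toAddMonoidHom) +
    (mkX 21 (by decide)).comp (-(φ.toAddMonoidHom.comp φ.toAddMonoidHom))

theorem mk_xB (t : K) : Additive.ofMul
    (QuotientGroup.mk (⟨xB φ hφ t, (xB_mem_Q1 φ hφ t).1⟩ : ↥(Qf K)) : Qbar K) = cB φ t := by
  simp only [cB, AddMonoidHom.add_apply, AddMonoidHom.comp_apply, AddMonoidHom.neg_apply, mkX,
    AddMonoidHom.coe_mk, ZeroHom.coe_mk, ← ofMul_mul, ← QuotientGroup.mk_mul]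
  exact congrArg _ (congrArg _ (Subtype.ext (xB_val φ hφ t)))

theorem conj_coord {w r : K} (hr : φ r = r) :
    Additive.ofMul (QuotientGroup.mk (⟨uel φ w * X 14 r * (uel φ w)⁻¹,
      (uel_conj_Q1 φ hφ w (long_mem_Q1 φ hφ (by decide) hr)).1⟩ : ↥(Qf K)) : Qbar K) =
      mkX 14 (by decide) r + cB φ (-(r * w)) + cC φ (r * (φ (φ w) * φ w)) +
        mkX 22 (by decide) (-(r * φ (φ w) * φ w * w)) := by
  refine Eq.trans (mk_conj φ hφ w ⟨r, hr⟩) ?_
  have h3 := cube φ hφ w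
  simp only [cB, cC, AddMonoidHom.add_apply, AddMonoidHom.comp_apply, AddMonoidHom.neg_apply,
    RingHom.toAddMonoidHom_eq_coe, AddMonoidHom.coe_coe, map_mul, map_neg, hr, h3, neg_neg]
  rw [show r * φ (φ w) * φ w = r * (φ (φ w) * φ w) from mul_assoc _ _ _,
    show r * (w * φ (φ w)) = r * φ (φ w) * w by ring,
    show r * (φ w * w) = r * φ w * w by ring]
  abel

section

variable {q : ℕ} (hqφ : ∀ (j : ℕ) (t : K), (φ ^ j) t = t ^ q ^ j) [Fintype K] (hq2 : 2 ≤ q)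
  (hK : Fintype.card K = q ^ 3) {S : Subgroup (GL chevD4.Idx K)} (hS : S ≤ (twistD4 K φ hφ).G1)
  (h23 : ∀ v, φ v = v → X 23 v ∈ S)
  (hu : ∀ w, ∀ s ∈ S, uel φ w * s * (uel φ w)⁻¹ ∈ S)
include hqφ hq2 hK hS h23 hu

theorem span_big (hq : 2 < q) (h14 : ∀ v, φ v = v → X 14 v ∈ S)
    (h22 : ∀ v, φ v = v → X 22 v ∈ S) (t : K) : xB φ hφ t ∈ S := by
  refine of_img φ hφ hS h23 (xB_mem_Q1 φ hφ t).1 (xB_mem φ hφ t) ?_
  rw [mk_xB]
  obtain ⟨c, hc, hc0, hc1⟩ : ∃ c : K, φ c = c ∧ c ≠ 0 ∧ c ≠ 1 := by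
    by_contra hno
    push Not at hno
    have h : Nat.card ↥(Fq φ) ≤ Nat.card Bool :=
      Nat.card_le_card_of_surjective (fun b : Bool => if b then (1 : ↥(Fq φ)) else 0) fun x => by
        by_cases hx : (x : K) = 0
        · exact ⟨false, Subtype.ext hx.symm⟩
        · exact ⟨true, Subtype.ext (hno _ (coe_fixed φ x) hx).symm⟩
    rw [card_Fq φ hφ hqφ hq2 hK, Nat.card_eq_fintype_card (α := Bool), Fintype.card_bool] at h
    omega
  have key : ∀ r w, φ r = r → cB φ (-(r * w)) + cC φ (r * (φ (φ w) * φ w)) ∈ img S := by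
    intro r w hr
    have hm := mem_img (uel_conj_Q1 φ hφ w (long_mem_Q1 φ hφ (by decide) hr)).1
      (hu w _ (h14 r hr))
    rw [conj_coord φ hφ hr] at hm
    have hN : φ (-(r * φ (φ w) * φ w * w)) = -(r * φ (φ w) * φ w * w) := by
      rw [map_neg, map_mul, map_mul, map_mul, hr, cube φ hφ]; ring
    have h1 := mem_img (mem_Qf (by decide) _) (h14 r hr)
    have h2 := mem_img (mem_Qf (by decide) _) (h22 _ hN)
    exact (AddSubgroup.add_mem_cancel_left _ h1).1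
      ((AddSubgroup.add_mem_cancel_right _ h2).1 (by rw [← add_assoc]; exact hm))
  have hC : ∀ r w, φ r = r → cC φ (r * (φ (φ w) * φ w)) ∈ img S := by
    intro r w hr
    have hne : c * c - c ≠ 0 := by
      rw [show c * c - c = c * (c - 1) by ring]; exact mul_ne_zero hc0 (sub_ne_zero.2 hc1)
    set r' := r / (c * c - c) with hr'_def
    have hr' : φ r' = r' := by rw [hr'_def, map_div₀, map_sub, map_mul, hc, hr]
    have h1 := key r' (c * w) hr'
    have h2 := key (r' * c) w (by rw [map_mul, hr', hc])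
    have h3 := sub_mem h1 h2
    simp only [map_mul, hc] at h3
    rw [show -(r' * (c * w)) = -(r' * c * w) by ring, add_sub_add_left_eq_sub, ← map_sub] at h3
    convert h3 using 2
    rw [hr'_def]
    field_simp
  have h := key 1 (-t) (map_one _)
  rw [one_mul, neg_neg] at h
  exact (AddSubgroup.add_mem_cancel_right _ (hC 1 (-t) (map_one _))).1 h

theorem span_two (hq : q = 2) (h14 : X 14 (1 : K) ∈ S) :
    X 22 (1 : K) ∈ S ∧ (∀ t, xB φ hφ t ∈ S) ∧ ∀ t, xC φ hφ t ∈ S := by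
  classical
  subst hq
  haveI : CharP K 2 := charP_of_card_eq_prime_pow (f := 3) hK
  have h1 : ∀ x, φ x = x ^ 2 := fun x => by simpa using hqφ 1 x
  have hG : ∀ w : K, φ (φ w) * φ w = w ^ 6 := fun w => by rw [h1, h1, ← pow_mul, ← pow_add]
  have key : ∀ w : K, cB φ w + cC φ (w ^ 6) + mkX 22 (by decide) (w ^ 7) ∈ img S := by
    intro w
    have hm := mem_img (uel_conj_Q1 φ hφ w (long_mem_Q1 φ hφ (by decide) (map_one φ))).1
      (hu w _ h14)
    rw [conj_coord φ hφ (map_one φ)] at hm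
    simp only [one_mul, CharTwo.neg_eq, hG] at hm
    rw [← pow_succ, add_assoc, add_assoc, AddSubgroup.add_mem_cancel_left _
      (show mkX 14 (by decide) (1 : K) ∈ img S from mem_img (mem_Qf (by decide) _) h14)] at hm
    rwa [add_assoc]
  have hd : mkX 22 (by decide) (1 : K) ∈ img S := by
    have h := AddSubgroup.sum_mem (img S) fun w (_ : w ∈ (Finset.univ : Finset K)) => key w
    simp only [Finset.sum_add_distrib, ← map_sum] at h
    have h0 : ∑ w : K, w = 0 := by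
      simpa using FiniteField.sum_pow_lt_card_sub_one K 1 (by rw [hK]; norm_num)
    have h6 : ∑ w : K, w ^ 6 = 0 :=
      FiniteField.sum_pow_lt_card_sub_one K 6 (by rw [hK]; norm_num)
    have h7 : ∑ w : K, w ^ 7 = 1 := by
      have hone : ∀ w ∈ (Finset.univ : Finset K) \ {0}, w ^ 7 = 1 := fun w hw => by
        have := FiniteField.pow_card_sub_one_eq_one w (by simpa using hw)
        rw [hK] at this
        exact this
      rw [Finset.sum_eq_sum_sdiff_singleton_add (Finset.mem_univ (0 : K)), zero_pow (by norm_num),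
        add_zero, Finset.sum_congr rfl hone,
        Finset.sum_const, nsmul_one, Finset.card_sdiff, Finset.inter_univ, Finset.card_univ,
        Finset.card_singleton, hK]
      norm_num
      rw [show (7 : K) = 2 * 3 + 1 by norm_num, CharTwo.two_eq_zero, zero_mul, zero_add]
    rw [← map_sum (cB φ)] at h
    rwa [h0, h6, h7, map_zero, map_zero, zero_add, zero_add] at h
  have hd' : ∀ w : K, mkX 22 (by decide) (w ^ 7) ∈ img S := fun w => by
    by_cases hw : w = 0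
    · rw [hw, zero_pow (by norm_num), map_zero]; exact zero_mem _
    · have := FiniteField.pow_card_sub_one_eq_one w hw
      rw [hK] at this
      rw [show w ^ 7 = 1 from this]
      exact hd
  have key' : ∀ w : K, cB φ w + cC φ (w ^ 6) ∈ img S := fun w =>
    (AddSubgroup.add_mem_cancel_right _ (hd' w)).1 (key w)
  obtain ⟨x, hx0, hx1⟩ : ∃ x : K, x ≠ 0 ∧ x ≠ 1 := by
    by_contra hno
    push Not at hno
    have h : Fintype.card K ≤ Fintype.card Bool :=
      Fintype.card_le_of_surjective (fun b : Bool => if b then (1 : K) else 0) fun x => by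
        by_cases hx : x = 0
        · exact ⟨false, hx.symm⟩
        · exact ⟨true, (hno x hx).symm⟩
    rw [hK, Fintype.card_bool] at h
    norm_num at h
  set c0 := φ (φ x) + φ x with hc0
  have hc0' : c0 ≠ 0 := by
    intro e
    have e' : φ (φ x) = φ x := by
      rw [hc0, add_eq_zero_iff_eq_neg, CharTwo.neg_eq] at e; exact e
    have := φ.injective e'
    rw [h1, pow_two] at this
    exact hx1 ((mul_eq_right₀ hx0).1 this)
  have hC : ∀ v : K, cC φ v ∈ img S := by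
    intro v
    by_cases hv : v = 0
    · rw [hv, map_zero]; exact zero_mem _
    set μ := c0 / v with hμ
    have h := sub_mem (sub_mem (key' (μ + μ * x)) (key' μ)) (key' (μ * x))
    rw [map_add (cB φ)] at h
    have e : ∀ a b c d e f : Additive (Qbar K),
        a + b + c - (a + d) - (b + e) = c - d - e := fun a b c d e f => by abel
    rw [e _ _ _ _ _ 0, ← map_sub, ← map_sub] at h
    convert h using 2
    rw [← hG, ← hG, ← hG, CharTwo.sub_eq_add, CharTwo.sub_eq_add]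
    simp only [map_add, map_mul]
    have hμ0 : μ ≠ 0 := div_ne_zero hc0' hv
    have hμv : φ (φ μ) * φ μ * c0 = v := by
      rw [hG, eq_comm, ← mul_left_inj' hμ0, mul_right_comm, ← pow_succ]
      have := FiniteField.pow_card_sub_one_eq_one μ hμ0
      rw [hK] at this
      norm_num at this
      rw [this, one_mul, hμ, mul_div_cancel₀ _ hv]
    linear_combination (-1 : K) * hμv + (-(φ (φ μ) * φ μ) - φ (φ μ) * φ μ * (φ (φ x) * φ x)) *
      CharTwo.two_eq_zero (R := K) + (φ (φ μ) * φ μ) * hc0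
  have h22 : X 22 (1 : K) ∈ S :=
    of_img φ hφ hS h23 (mem_Qf (by decide) _) (single_mem φ hφ 22 (by decide) 1 (map_one _)) hd
  refine ⟨h22, fun t => of_img φ hφ hS h23 (xB_mem_Q1 φ hφ t).1 (xB_mem φ hφ t) ?_,
    fun t => of_img φ hφ hS h23 (xC_mem_Q1 φ hφ t).1 (xC_mem φ hφ t) ?_⟩
  · rw [mk_xB]
    exact (AddSubgroup.add_mem_cancel_right _ (hC _)).1 (key' t)
  · obtain ⟨d₀, d₁, d₂, e0, e1, e2, h⟩ := exists_xc φ hφ
    have pm : ∀ e : K, e = 1 ∨ e = -1 → e = 1 := fun e he => by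
      rcases he with rfl | rfl
      · rfl
      · rw [CharTwo.neg_eq]
    rw [pm _ e0, pm _ e1, pm _ e2] at h
    convert hC t using 1
    simp only [cC, AddMonoidHom.add_apply, AddMonoidHom.comp_apply, AddMonoidHom.neg_apply,
      CharTwo.neg_eq, mkX, AddMonoidHom.coe_mk, ZeroHom.coe_mk, RingHom.toAddMonoidHom_eq_coe,
      AddMonoidHom.coe_coe, ← ofMul_mul, ← QuotientGroup.mk_mul]
    refine congrArg _ (congrArg _ (Subtype.ext ?_))
    refine (h t).trans ?_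
    rw [one_mul, one_mul, one_mul]
    rfl

end

end D4Mult

end Cfsg.Agent.Chev
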