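import Cfsg.Agent.Chev.TwistMult.D4Part

/-!
A complement of the centre in the preimage of the positive unipotent subgroup of `³D₄(q)`.
-/

set_option autoImplicit false
set_option maxRecDepth 100000
set_option maxHeartbeats 1000000

namespace Cfsg.Agent.Chev

open Cfsg.Lie Cfsg.Agent.D4Deg
open scoped MatrixGroups commutatorElement

universe u

namespace D4Mult

open CoTwist (im)

variable {K : Type u} [Field K] [Fintype K] {φ : K →+* K} {hφ : ∀ t, (φ ^ 3) t = t}

local notation "T" => twistD4 K φ hφ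

variable {Γ : Type u} [Group Γ] [Finite Γ] {q : ℕ} {σ : Γ →* ↥(twistD4 K φ hφ).G1}
  (E : Ext φ hφ q σ)
include E

/-- A subgroup mapping onto the radical, small enough to meet the kernel trivially. -/
structure Compl (V : Subgroup Γ) : Prop where
  le : V ≤ radW σ
  surj : ∀ g ∈ Q1 φ hφ, ∃ v ∈ V, im σ v = g
  card : Nat.card ↥V ≤ q ^ 9
  conj : ∀ w, ∀ v ∈ V, E.A w * v * (E.A w)⁻¹ ∈ V

theorem Ext.sec_W {g : GL chevD4.Idx K} (hg : g ∈ Q1 φ hφ) : sec σ g ∈ radW σ :=
  show im σ _ ∈ Q1 φ hφ by rw [E.im_sec (Q1_le_G1 φ hφ hg)]; exact hg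

theorem Ext.compl_big (hq : 2 < q) : ∃ V, Compl E V := by
  classical
  obtain ⟨u, hu, hu1⟩ : ∃ u : Kˣ, φ (u : K) = u ∧ (u : K) ≠ 1 := by
    by_contra hno
    push Not at hno
    have h : Nat.card ↥(Fq φ) ≤ Nat.card Bool :=
      Nat.card_le_card_of_surjective (fun b : Bool => if b then (1 : ↥(Fq φ)) else 0) fun x => by
        by_cases hx : (x : K) = 0
        · exact ⟨false, Subtype.ext hx.symm⟩
        · exact ⟨true, Subtype.ext (hno (Units.mk0 _ hx) x.2).symm⟩
    rw [card_Fq φ hφ E.hqφ E.hq2 E.hK, Nat.card_eq_fintype_card (α := Bool), Fintype.card_bool] at h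
    omega
  obtain ⟨h, hhG, hhu, hh14, hh23, hhB, hhC⟩ := exists_scalar φ hφ hu
  set η := sec σ h with hηdef
  have hη : im σ η = h := E.im_sec hhG
  have hQ : ∀ {g}, g ∈ Q1 φ hφ → h * g * h⁻¹ ∈ Q1 φ hφ := by
    intro g hg
    rw [Q1_eq φ hφ, ← MulAut.conj_apply]
    refine ((Subgroup.closure_le _).2 ?_ : Subgroup.closure {x | Gen φ hφ x} ≤
      (Subgroup.closure {x | Gen φ hφ x}).comap (MulAut.conj h).toMonoidHom) ((Q1_eq φ hφ).le hg)
    intro x hx
    refine Subgroup.subset_closure ?_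
    show Gen φ hφ (h * x * h⁻¹)
    rcases hx with ⟨r, hr, v, hv, rfl⟩ | ⟨t, rfl⟩ | ⟨t, rfl⟩
    · simp only [List.mem_cons, List.not_mem_nil, or_false] at hr
      rcases hr with rfl | rfl | rfl
      · exact Or.inl ⟨14, by decide, _, by rw [map_mul, hu, hv], hh14 14 (by decide) v⟩
      · exact Or.inl ⟨22, by decide, _, by rw [map_mul, hu, hv], hh14 22 (by decide) v⟩
      · exact Or.inl ⟨23, by decide, _, by rw [map_mul, map_pow, hu, hv], hh23 v⟩
    · exact Or.inr (Or.inl ⟨_, hhB t⟩)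
    · exact Or.inr (Or.inr ⟨_, hhC t⟩)
  have hW : ∀ {y}, y ∈ radW σ → η * y * η⁻¹ ∈ radW σ := fun {y} hy => by
    show im σ _ ∈ Q1 φ hφ
    rw [map_mul, map_mul, map_inv, hη]
    exact hQ hy
  have hbW : ∀ {y}, y ∈ radW σ → ⁅η, y⁆ ∈ radW σ := fun {y} hy => by
    rw [commutatorElement_def]; exact mul_mem (hW hy) (inv_mem hy)
  -- the map `y ↦ ⁅η, y⁆` is multiplicative modulo the lift of the highest root group
  have hmul : ∀ y ∈ radW σ, ∀ y' ∈ radW σ,
      ∃ r ∈ R0 σ, ⁅η, y * y'⁆ = ⁅η, y⁆ * ⁅η, y'⁆ * r := by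
    intro y hy y' hy'
    refine ⟨⁅y, ⁅η, y'⁆⁆, E.derived_le hy (hbW hy'), ?_⟩
    rw [br_mul, mul_assoc ⁅η, y⁆, (E.R0_central (E.derived_le hy (hbW hy')) (hbW hy')).symm.eq]
    congr 1
    simp only [commutatorElement_def]
    group
  let V : Subgroup Γ :=
    { carrier := {x | ∃ y ∈ radW σ, ∃ r ∈ R0 σ, x = ⁅η, y⁆ * r}
      one_mem' := ⟨1, one_mem _, 1, one_mem _, by rw [commutatorElement_one_right, one_mul]⟩
      mul_mem' := by
        rintro _ _ ⟨y, hy, r, hr, rfl⟩ ⟨y', hy', r', hr', rfl⟩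
        obtain ⟨s, hs, e⟩ := hmul y hy y' hy'
        refine ⟨y * y', mul_mem hy hy', s⁻¹ * (r * r'),
          mul_mem (inv_mem hs) (mul_mem hr hr'), ?_⟩
        rw [e, mul_assoc (⁅η, y⁆ * ⁅η, y'⁆), mul_inv_cancel_left, mul_assoc ⁅η, y⁆,
          ← mul_assoc r, (E.R0_central hr (hbW hy')).eq]
        simp only [mul_assoc]
      inv_mem' := by
        rintro _ ⟨y, hy, r, hr, rfl⟩
        obtain ⟨s, hs, e⟩ := hmul y hy y⁻¹ (inv_mem hy)
        rw [mul_inv_cancel, commutatorElement_one_right] at e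
        refine ⟨y⁻¹, inv_mem hy, s * r⁻¹, mul_mem hs (inv_mem hr), inv_eq_of_mul_eq_one_right ?_⟩
        have hc := (E.R0_central hr (hbW (inv_mem hy))).eq
        calc ⁅η, y⁆ * r * (⁅η, y⁻¹⁆ * (s * r⁻¹))
            = ⁅η, y⁆ * (r * ⁅η, y⁻¹⁆) * (s * r⁻¹) := by simp only [mul_assoc]
          _ = (⁅η, y⁆ * ⁅η, y⁻¹⁆) * (r * (s * r⁻¹)) := by rw [hc]; simp only [mul_assoc]
          _ = (⁅η, y⁆ * ⁅η, y⁻¹⁆ * s) * (r * r⁻¹) := by
            rw [← mul_assoc r s, (E.R0_central hr (E.R0_le hs)).eq]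
            simp only [mul_assoc]
          _ = 1 := by rw [← e, mul_inv_cancel, one_mul] }
  have hR : R0 σ ≤ V := fun r hr =>
    ⟨1, one_mem _, r, hr, by rw [commutatorElement_one_right, one_mul]⟩
  refine ⟨V, ⟨?_, fun g hg => ?_, ?_, ?_⟩⟩
  · rintro _ ⟨y, hy, r, hr, rfl⟩
    exact mul_mem (hbW hy) (E.R0_le hr)
  · suffices H : Q1 φ hφ ≤ V.map (im σ) from Subgroup.mem_map.1 (H hg)
    have hu1' : (u : K) - 1 ≠ 0 := sub_ne_zero.2 hu1
    have him : ∀ {g}, g ∈ Q1 φ hφ → h * g * h⁻¹ * g⁻¹ ∈ V.map (im σ) := fun {g} hg => by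
      refine ⟨⁅η, sec σ g⁆ * 1, ⟨sec σ g, E.sec_W hg, 1, one_mem _, rfl⟩, ?_⟩
      rw [mul_one, map_commutatorElement, hη, E.im_sec (Q1_le_G1 φ hφ hg), commutatorElement_def]
    rw [Q1_eq φ hφ, Subgroup.closure_le]
    rintro x (⟨r, hr, v, hv, rfl⟩ | ⟨t, rfl⟩ | ⟨t, rfl⟩)
    · simp only [List.mem_cons, List.not_mem_nil, or_false] at hr
      have hv' : φ (v / ((u : K) - 1)) = v / ((u : K) - 1) := by
        rw [map_div₀, map_sub, map_one, hu, hv]
      have hlong : ∀ k ∈ ([14, 22] : List ℕ), X k v ∈ V.map (im σ) := fun k hk => by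
        have := him (long_mem_Q1 φ hφ (r := k)
          ((by decide : ∀ x ∈ ([14, 22] : List ℕ), x ∈ ([14, 22, 23] : List ℕ)) k hk) hv')
        rw [hh14 k hk, xG_inv, xG_mul] at this
        convert this using 2
        field_simp
        ring
      rcases hr with rfl | rfl | rfl
      · exact hlong 14 (by decide)
      · exact hlong 22 (by decide)
      · exact ⟨gB σ v, hR (E.mem_R0.2 ⟨v, hv, rfl⟩), E.im_gB hv⟩
    · have := him (xB_mem_Q1 φ hφ (t / ((u : K) - 1)))
      have e : xB φ hφ ((u : K) * (t / ((u : K) - 1))) =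
          xB φ hφ t * xB φ hφ (t / ((u : K) - 1)) := by
        rw [xB, xB, xB, ← Subgroup.coe_mul, ← xb_add]
        congr 2
        field_simp
        ring
      rw [hhB, e, mul_inv_cancel_right] at this
      exact this
    · have := him (xC_mem_Q1 φ hφ (t / ((u : K) - 1)))
      have hxc : ∀ a b : K, xC φ hφ (a + b) = xC φ hφ a * xC φ hφ b := fun a b => by
        rw [xC_eq, xC_eq, xC_eq, xB, xB, xB, xb_add, Subgroup.coe_mul]; group
      have e : xC φ hφ ((u : K) * (t / ((u : K) - 1))) =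
          xC φ hφ t * xC φ hφ (t / ((u : K) - 1)) := by
        rw [← hxc]
        congr 1
        field_simp
        ring
      rw [hhC, e, mul_inv_cancel_right] at this
      exact this
  · -- counting
    set Z23 : Subgroup (GL chevD4.Idx K) := (R0 σ).map (im σ) with hZ23
    have hZQ : Z23 ≤ Q1 φ hφ := by rintro _ ⟨r, hr, rfl⟩; exact E.R0_le hr
    let Z' := Z23.subgroupOf (Q1 φ hφ)
    let f : (↥(Q1 φ hφ) ⧸ Z') × ↥(R0 σ) → ↥V := fun x =>
      ⟨⁅η, sec σ ((x.1.out : ↥(Q1 φ hφ)) : GL chevD4.Idx K)⁆ * x.2,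
        ⟨_, E.sec_W x.1.out.2, _, x.2.2, rfl⟩⟩
    have hf : Function.Surjective f := by
      rintro ⟨_, y, hy, r, hr, rfl⟩
      set c : ↥(Q1 φ hφ) ⧸ Z' := QuotientGroup.mk ⟨im σ y, hy⟩ with hcdef
      have hc : ((c.out : ↥(Q1 φ hφ)) : GL chevD4.Idx K)⁻¹ * im σ y ∈ Z23 :=
        Subgroup.mem_subgroupOf.1 (QuotientGroup.eq.1 (QuotientGroup.out_eq' c))
      obtain ⟨ρ, hρ, eρ⟩ := hc
      set g := ((c.out : ↥(Q1 φ hφ)) : GL chevD4.Idx K)
      have hg : g ∈ Q1 φ hφ := c.out.2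
      have e1 : ⁅η, y⁆ = ⁅η, sec σ g * ρ⁆ := E.br_congr rfl (by
        rw [map_mul, E.im_sec (Q1_le_G1 φ hφ hg), eρ, mul_inv_cancel_left])
      obtain ⟨s, hs, es⟩ := hmul _ (E.sec_W hg) ρ (E.R0_le hρ)
      have hηρ : ⁅η, ρ⁆ ∈ R0 σ := by
        obtain ⟨v, hv, rfl⟩ := E.mem_R0.1 hρ
        have h14 := single_mem φ hφ 14 (by decide) 1 (map_one φ)
        have h14' := single_mem φ hφ 14 (by decide) ((u : K) * 1) (by rw [mul_one, hu])
        have huv : φ ((u : K) * v) = (u : K) * v := by rw [map_mul, hu, hv]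
        have e2 : η * gB σ v * η⁻¹ = gB σ ((u : K) * 1 * ((u : K) * v)) := by
          rw [← E.br_long (r := (u : K) * 1) (by rw [mul_one, hu]) (by simp) huv, gB, br_conj]
          refine E.br_congr ?_ ?_
          · rw [map_mul, map_mul, map_inv, hη, E.im_sec h14, E.im_sec h14', hh14 14 (by decide)]
          · rw [map_mul, map_mul, map_inv, hη, E.im_sec (single_mem φ hφ 22 (by decide) v hv),
              E.im_sec (single_mem φ hφ 22 (by decide) _ huv), hh14 22 (by decide)]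
        rw [commutatorElement_def, e2]
        exact mul_mem (E.mem_R0.2 ⟨_, by rw [map_mul, huv, map_mul, map_one, hu], rfl⟩)
          (inv_mem (E.mem_R0.2 ⟨v, hv, rfl⟩))
      refine ⟨⟨c, ⟨⁅η, ρ⁆ * s * r, mul_mem (mul_mem hηρ hs) hr⟩⟩, Subtype.ext ?_⟩
      show ⁅η, sec σ g⁆ * (⁅η, ρ⁆ * s * r) = ⁅η, y⁆ * r
      rw [e1, es]
      simp only [mul_assoc]
    refine (Nat.card_le_card_of_surjective f hf).trans ?_
    rw [Nat.card_prod]
    have hcardZ : q ≤ Nat.card ↥Z' := by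
      rw [← card_Fq φ hφ E.hqφ E.hq2 E.hK]
      refine Nat.card_le_card_of_injective (fun v : ↥(Fq φ) =>
        (⟨⟨X 23 (v : K), long_mem_Q1 φ hφ (by decide) v.2⟩,
          ⟨gB σ (v : K), E.mem_R0.2 ⟨v, v.2, rfl⟩, E.im_gB v.2⟩⟩ : ↥Z')) fun v w e => ?_
      exact Subtype.ext (xG_inj facts_chevD4 (by decide +kernel)
        (congrArg (fun z : ↥Z' => ((z : ↥(Q1 φ hφ)) : GL chevD4.Idx K)) e))
    have hl := Subgroup.card_eq_card_quotient_mul_card_subgroup Z'
    rw [card_Q1 φ hφ E.hqφ E.hq2 E.hK] at hl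
    rw [hl]
    exact Nat.mul_le_mul_left _ (E.card_R0.trans hcardZ)
  · rintro w _ ⟨y, hy, r, hr, rfl⟩
    refine ⟨E.A w * y * (E.A w)⁻¹, E.A_conj_W w hy, r, hr, ?_⟩
    have hAh : im σ (E.A w * η * (E.A w)⁻¹) = im σ η := by
      rw [map_mul, map_mul, map_inv, E.im_A, hη]
      have := hhu w
      calc uel φ w * h * (uel φ w)⁻¹ = uel φ w * h * (h * uel φ w * h⁻¹)⁻¹ := by rw [this]
        _ = uel φ w * h * h * (uel φ w)⁻¹ * h⁻¹ := by group
        _ = _ := by
          have hc : Commute h (uel φ w) := mul_inv_eq_iff_eq_mul.1 this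
          rw [mul_assoc (uel φ w) h h, (hc.mul_left hc).symm.eq, mul_inv_cancel_right,
            mul_inv_cancel_right]
    have hcA : Commute (E.A w) r := E.Phi_R0 hr _
    rw [conj_mul₂, br_conj, hcA.eq, mul_inv_cancel_right, E.br_congr hAh rfl]

theorem Ext.compl_two (hq : q = 2) : ∃ V, Compl E V := by
  classical
  subst hq
  haveI : CharP K 2 := charP_of_card_eq_prime_pow (f := 3) E.hK
  have h01 : ∀ v : K, φ v = v → v = 0 ∨ v = 1 := fun v hv => by
    have h := E.hqφ 1 v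
    rw [pow_one, pow_one, hv] at h
    by_cases h0 : v = 0
    · exact Or.inl h0
    · exact Or.inr ((mul_eq_right₀ h0).1 ((pow_two v).symm.trans h.symm))
  obtain ⟨e, he, hc⟩ := nW_conj_X φ hφ [1, 1, 0, 1] (r := 23) (s := 14) (by decide +kernel)
    (by decide +kernel)
  have he1 : e = 1 := by
    rcases he with rfl | rfl
    · rfl
    · rw [CharTwo.neg_eq]
  set ν := sec σ (nw φ hφ [1, 1, 0, 1])
  have hν : im σ ν = nw φ hφ [1, 1, 0, 1] := E.im_sec (nw_mem φ hφ _)
  set b := ν * gB σ 1 * ν⁻¹ with hb_def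
  have hbim : im σ b = X 14 (1 : K) := by
    rw [map_mul, map_mul, map_inv, hν, E.im_gB (map_one φ), hc, he1, one_mul]
  have hb2 : b * b = 1 := by
    rw [hb_def, ← conj_mul₂, ← E.gB_add (map_one φ) (map_one φ),
      CharTwo.add_self_eq_zero, E.gB_zero, mul_one, mul_inv_cancel]
  set o : K → Γ := fun w => E.A w * b * (E.A w)⁻¹ with ho
  have hbW : b ∈ radW σ := show im σ b ∈ Q1 φ hφ by
    rw [hbim]; exact long_mem_Q1 φ hφ (by decide) (map_one φ)
  have hoW : ∀ w, o w ∈ radW σ := fun w => E.A_conj_W w hbW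
  have ho2 : ∀ w, o w * o w = 1 := fun w => by
    rw [ho]; simp only [← conj_mul₂, hb2, mul_one, mul_inv_cancel]
  -- adjoining the conjugates one at a time
  have build : ∀ s : Finset K, ∃ H : Subgroup Γ, R0 σ ≤ H ∧ H ≤ radW σ ∧
      Nat.card ↥H ≤ 2 * 2 ^ s.card ∧ ∀ w ∈ s, o w ∈ H := by
    intro s
    induction s using Finset.induction_on with
    | empty => exact ⟨R0 σ, le_rfl, E.R0_le, by simpa using E.card_R0, by simp⟩
    | @insert w s hw ih =>
      obtain ⟨H, hRH, hHW, hH, hmem⟩ := ih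
      have hn : ∀ x ∈ H, o w * x * (o w)⁻¹ ∈ H := fun x hx => by
        rw [show o w * x * (o w)⁻¹ = ⁅o w, x⁆ * x by simp only [commutatorElement_def]; group]
        exact mul_mem (hRH (E.derived_le (hoW w) (hHW hx))) hx
      have hinv : (o w)⁻¹ = o w := inv_eq_of_mul_eq_one_right (ho2 w)
      let H' : Subgroup Γ :=
        { carrier := {x | x ∈ H ∨ x * o w ∈ H}
          one_mem' := Or.inl (one_mem _)
          mul_mem' := by
            rintro x y (hx | hx) (hy | hy)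
            · exact Or.inl (mul_mem hx hy)
            · exact Or.inr (by rw [mul_assoc]; exact mul_mem hx hy)
            · refine Or.inr ?_
              rw [show x * y * o w = x * o w * ((o w)⁻¹ * y * o w) by group]
              refine mul_mem hx ?_
              have := hn y hy
              rwa [hinv] at this ⊢
            · refine Or.inl ?_
              rw [show x * y = x * o w * ((o w)⁻¹ * (y * o w) * (o w)⁻¹) by group]
              refine mul_mem hx ?_
              have := hn _ hy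
              rwa [hinv] at this ⊢
          inv_mem' := by
            rintro x (hx | hx)
            · exact Or.inl (inv_mem hx)
            · refine Or.inr ?_
              have := hn _ (inv_mem hx)
              rwa [show o w * (x * o w)⁻¹ * (o w)⁻¹ = x⁻¹ * (o w)⁻¹ by group, hinv] at this }
      have hHH' : H ≤ H' := fun x hx => Or.inl hx
      have hwH' : o w ∈ H' := Or.inr (by rw [ho2]; exact one_mem _)
      refine ⟨H', hRH.trans hHH', ?_, ?_, ?_⟩
      · rintro x (hx | hx)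
        · exact hHW hx
        · exact (Subgroup.mul_mem_cancel_right _ (hoW w)).1 (hHW hx)
      · have hs : Function.Surjective (fun y : Bool × ↥H =>
            (⟨(y.2 : Γ) * (if y.1 then o w else 1), mul_mem (hHH' y.2.2)
              (by split_ifs <;> [exact hwH'; exact one_mem _])⟩ : ↥H')) := by
          rintro ⟨x, hx | hx⟩
          · exact ⟨(false, ⟨x, hx⟩), Subtype.ext (by simp)⟩
          · exact ⟨(true, ⟨_, hx⟩), Subtype.ext (by simp [mul_assoc, ho2])⟩
        refine (Nat.card_le_card_of_surjective _ hs).trans ?_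
        rw [Nat.card_prod, Nat.card_eq_fintype_card (α := Bool), Fintype.card_bool,
          Finset.card_insert_of_notMem hw, pow_succ]
        calc 2 * Nat.card ↥H ≤ 2 * (2 * 2 ^ s.card) := Nat.mul_le_mul_left _ hH
          _ = _ := by ring
      · intro x hx
        rcases Finset.mem_insert.1 hx with rfl | hx
        · exact hwH'
        · exact hHH' (hmem x hx)
  obtain ⟨H, hRH, hHW, hH, hmem⟩ := build Finset.univ
  set V := Subgroup.closure (Set.range o ∪ (R0 σ : Set Γ)) with hV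
  have hVH : V ≤ H := (Subgroup.closure_le _).2 (Set.union_subset
    (Set.range_subset_iff.2 fun w => hmem w (Finset.mem_univ w)) hRH)
  have hRV : R0 σ ≤ V := fun r hr => Subgroup.subset_closure (Or.inr hr)
  have hconj : ∀ w, ∀ v ∈ V, E.A w * v * (E.A w)⁻¹ ∈ V := by
    intro w v hv
    refine ((Subgroup.closure_le _).2 ?_ :
      V ≤ V.comap (MulAut.conj (E.A w)).toMonoidHom) hv
    rintro x (⟨w', rfl⟩ | hx)
    · show E.A w * (E.A w' * b * (E.A w')⁻¹) * (E.A w)⁻¹ ∈ V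
      refine Subgroup.subset_closure (Or.inl ⟨w + w', ?_⟩)
      rw [ho]
      simp only [E.A_add]
      group
    · show E.A w * x * (E.A w)⁻¹ ∈ V
      have hcA : Commute (E.A w) x := E.Phi_R0 hx _
      rw [hcA.eq, mul_inv_cancel_right]
      exact hRV hx
  refine ⟨V, ⟨hVH.trans hHW, fun g hg => ?_, ?_, hconj⟩⟩
  · set S := V.map (im σ) with hSdef
    suffices Hs : Q1 φ hφ ≤ S from Subgroup.mem_map.1 (Hs hg)
    have hS : S ≤ (T).G1 := by rintro _ ⟨x, -, rfl⟩; exact (σ x).2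
    have h23 : ∀ v, φ v = v → X 23 v ∈ S := fun v hv =>
      ⟨gB σ v, hRV (E.mem_R0.2 ⟨v, hv, rfl⟩), E.im_gB hv⟩
    have hu : ∀ w, ∀ s ∈ S, uel φ w * s * (uel φ w)⁻¹ ∈ S := by
      rintro w _ ⟨x, hx, rfl⟩
      exact ⟨_, hconj w x hx, by rw [map_mul, map_mul, map_inv, E.im_A]⟩
    have h14 : X 14 (1 : K) ∈ S := by
      refine ⟨o 0, Subgroup.subset_closure (Or.inl ⟨0, rfl⟩), ?_⟩
      simp only [ho, E.A_zero, inv_one, one_mul, mul_one, hbim]
    obtain ⟨h22, hB, hC⟩ := span_two φ hφ E.hqφ E.hq2 E.hK hS h23 hu rfl h14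
    rw [Q1_eq φ hφ, Subgroup.closure_le]
    rintro x (⟨r, hr, v, hv, rfl⟩ | ⟨t, rfl⟩ | ⟨t, rfl⟩)
    · simp only [List.mem_cons, List.not_mem_nil, or_false] at hr
      rcases hr with rfl | rfl | rfl
      · rcases h01 v hv with rfl | rfl
        · rw [show X 14 (0 : K) = 1 from xG_zero facts_chevD4 14]; exact one_mem S
        · exact h14
      · rcases h01 v hv with rfl | rfl
        · rw [show X 22 (0 : K) = 1 from xG_zero facts_chevD4 22]; exact one_mem S
        · exact h22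
      · exact h23 v hv
    · exact hB t
    · exact hC t
  · refine (Subgroup.card_le_of_le hVH).trans (hH.trans ?_)
    rw [Finset.card_univ, E.hK]
    norm_num

theorem Ext.exists_compl : ∃ V, Compl E V := by
  rcases E.hq2.lt_or_eq with hq | hq
  · exact E.compl_big hq
  · exact E.compl_two hq.symm

/-- A complement is carried injectively onto the radical. -/
theorem Compl.inj {V : Subgroup Γ} (hV : Compl E V) {v v' : Γ} (hv : v ∈ V) (hv' : v' ∈ V)
    (e : im σ v = im σ v') : v = v' := by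
  let f : ↥V → ↥(Q1 φ hφ) := fun x => ⟨im σ (x : Γ), hV.le x.2⟩
  have hf : Function.Surjective f := fun ⟨g, hg⟩ => by
    obtain ⟨x, hx, ex⟩ := hV.surj g hg
    exact ⟨⟨x, hx⟩, Subtype.ext ex⟩
  have hb : Function.Bijective f := (Nat.bijective_iff_surjective_and_card f).2 ⟨hf,
    le_antisymm (hV.card.trans (card_Q1 φ hφ E.hqφ E.hq2 E.hK).ge)
      (Nat.card_le_card_of_surjective f hf)⟩
  exact congrArg Subtype.val (hb.1 (a₁ := ⟨v, hv⟩) (a₂ := ⟨v', hv'⟩) (Subtype.ext e))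

/-- The order of a kernel element in the derived group divides the index of the positive
unipotent subgroup. -/
theorem Ext.two_part {z : Γ} (hz : z ∈ σ.ker) (hzd : z ∈ commutator Γ) :
    z ^ ((T).U1.subgroupOf (T).G1).index = 1 := by
  classical
  obtain ⟨V, hV⟩ := E.exists_compl
  rw [← Subgroup.index_comap_of_surjective _ E.surj]
  set W := ((T).U1.subgroupOf (T).G1).comap σ with hW
  have hWU : ∀ w : ↥W, im σ (w : Γ) ∈ (T).U1 := fun w => w.2
  have hdec : ∀ w : ↥W, ∃ v ∈ V, ∃ t, im σ (w : Γ) = im σ (v * E.A t) := by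
    intro w
    obtain ⟨a, ha, t, e⟩ := exists_factor φ hφ (hWU w)
    obtain ⟨v, hv, ev⟩ := hV.surj a ((Q1_eq φ hφ).symm ▸ ha)
    exact ⟨v, hv, t, by rw [map_mul, ev, E.im_A, e]⟩
  choose v hv t ht using hdec
  have huniq : ∀ (w : ↥W), ∀ v' ∈ V, ∀ t', im σ (w : Γ) = im σ (v' * E.A t') →
      v w * E.A (t w) = v' * E.A t' := by
    intro w v' hv' t' e
    have e2 := (ht w).symm.trans e
    rw [map_mul, map_mul, E.im_A, E.im_A] at e2
    obtain ⟨h1, h2⟩ := factor_unique φ hφ (hV.le (hv w)) (hV.le hv') e2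
    rw [hV.inj E (hv w) hv' h1, h2]
  have hs : ∀ a b : ↥W, v (a * b) * E.A (t (a * b)) = v a * E.A (t a) * (v b * E.A (t b)) := by
    intro a b
    rw [huniq (a * b) (v a * (E.A (t a) * v b * (E.A (t a))⁻¹))
      (mul_mem (hv a) (hV.conj _ _ (hv b))) (t a + t b) (by
        rw [Subgroup.coe_mul, map_mul, ht a, ht b, E.A_add]
        simp only [map_mul, map_inv]
        group), E.A_add]
    group
  letI : CommGroup ↥σ.ker := { (inferInstance : Group ↥σ.ker) with
    mul_comm := fun x y => Subtype.ext (Subgroup.mem_center_iff.1 (E.cen y.2) x) }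
  have hθ : ∀ w : ↥W, (w : Γ) * (v w * E.A (t w))⁻¹ ∈ σ.ker := fun w => by
    refine MonoidHom.mem_ker.2 ?_
    rw [map_mul, map_inv, mul_inv_eq_one]
    exact Subtype.ext (ht w)
  let θ : ↥W →* ↥σ.ker := MonoidHom.mk' (fun w => ⟨_, hθ w⟩) fun a b => Subtype.ext (by
    show ((a * b : ↥W) : Γ) * (v (a * b) * E.A (t (a * b)))⁻¹ =
      (a : Γ) * (v a * E.A (t a))⁻¹ * ((b : Γ) * (v b * E.A (t b))⁻¹)
    rw [hs, Subgroup.coe_mul, _root_.mul_inv_rev,
      show (a : Γ) * (b : Γ) * ((v b * E.A (t b))⁻¹ * (v a * E.A (t a))⁻¹) =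
        (a : Γ) * ((b : Γ) * (v b * E.A (t b))⁻¹) * (v a * E.A (t a))⁻¹ by group,
      mul_assoc (a : Γ), ← Subgroup.mem_center_iff.1 (E.cen (hθ b)) _, mul_assoc])
  have hzW : z ∈ W := by
    show σ z ∈ (T).U1.subgroupOf (T).G1
    rw [MonoidHom.mem_ker.1 hz]
    exact one_mem _
  have h := MonoidHom.transfer_eq_pow θ z fun k g₀ _ => by
    rw [mul_assoc, ← (Subgroup.mem_center_iff.1 (pow_mem (E.cen hz) k) g₀), inv_mul_cancel_left]
  rw [Abelianization.commutator_subset_ker _ hzd] at h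
  have h' := congrArg Subtype.val h.symm
  have e1 : im σ (z ^ W.index) = im σ ((1 : Γ) * E.A 0) := by
    rw [map_pow, show im σ z = 1 from congrArg Subtype.val (MonoidHom.mem_ker.1 hz), one_pow,
      E.A_zero, mul_one, map_one]
  change z ^ W.index * (v _ * E.A (t _))⁻¹ = 1 at h'
  rw [huniq _ 1 (one_mem _) 0 e1, E.A_zero, mul_one, inv_one, mul_one] at h'
  exact h'

end D4Mult

end Cfsg.Agent.Chev
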