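import Cfsg.Agent.Chev.Twist.E6Stmts
import Cfsg.Agent.ChevExt.TypeE
import Cfsg.Agent.ProjExt.Stem

/-!
A stem extension of ²E₆(q) with kernel of order three, when three divides q + 1.
-/

set_option autoImplicit false
set_option maxRecDepth 100000
set_option maxHeartbeats 2000000

namespace Cfsg.Agent.Chev.TwMult

open Cfsg.Lie Cfsg.Agent.Chev Cfsg.Agent.ChevExt
open scoped MatrixGroups commutatorElement

universe u

theorem e6_orbit_comm : ∀ (s s' : Bool) (a : Fin 4), e6Len a = 2 →
    rtNat chevE6 e6_flip_π e6Base s a 0 < chevE6.nroots ∧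
    rtNat chevE6 e6_flip_π e6Base s' a 1 < chevE6.nroots ∧
    rtNat chevE6 e6_flip_π e6Base s' a 1 ≠ rtNat chevE6 e6_flip_π e6Base s a 0 ∧
    rtNat chevE6 e6_flip_π e6Base s' a 1 ≠ chevE6.neg (rtNat chevE6 e6_flip_π e6Base s a 0) ∧
    chevE6.commTerms (rtNat chevE6 e6_flip_π e6Base s a 0)
      (rtNat chevE6 e6_flip_π e6Base s' a 1) = [] := by
  decide +kernel

variable {K : Type u} [Field K] (φ : K →+* K) (hφ : ∀ t, (φ ^ 2) t = t)

local notation "T" => twistE6 K φ hφ
local notation "LL" => stLift facts_chevE6 (F := K)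

/-- The lift of a fixed product in the universal group. -/
def yL (s : Bool) (a : Fin 4) (t : K) : chevE6.SteinbergGroup K :=
  ((List.range (e6Len a)).map fun j =>
    (LL).X ((T).rt s a j : ℕ) ((φ ^ j) t)).prod

/-- The subgroup of the universal group over the twisted group. -/
def cover : Subgroup (chevE6.SteinbergGroup K) :=
  Subgroup.closure {g | ∃ s a t, (T).Par a t ∧ g = yL φ hφ s a t}

theorem θ_yL (s : Bool) (a : Fin 4) (t : K) : (LL).θ (yL φ hφ s a t) = (T).y s a t := by
  rw [yL, map_list_prod, List.map_map]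
  refine congrArg List.prod (List.map_congr_left fun j _ => ?_)
  exact (LL).θ_X _ _

theorem map_cover : (cover φ hφ).map (LL).θ = (T).G1 := by
  rw [cover, MonoidHom.map_closure, Twist.G1]
  congr 1
  ext g
  constructor
  · rintro ⟨_, ⟨s, a, t, ht, rfl⟩, rfl⟩
    exact ⟨s, a, t, ht, θ_yL φ hφ s a t⟩
  · rintro ⟨s, a, t, ht, rfl⟩
    exact ⟨_, ⟨s, a, t, ht, rfl⟩, θ_yL φ hφ s a t⟩

/-- The map onto the twisted group. -/
def coverMap : ↥(cover φ hφ) →* ↥(T).G1 :=
  ((LL).θ.comp (cover φ hφ).subtype).codRestrict (T).G1 fun g =>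
    (map_cover φ hφ).le (Subgroup.mem_map_of_mem _ g.2)

theorem coverMap_surjective : Function.Surjective (coverMap φ hφ) := fun g => by
  obtain ⟨x, hx, e⟩ := (map_cover φ hφ).ge g.2
  exact ⟨⟨x, hx⟩, Subtype.ext e⟩

theorem coverMap_ker {g : ↥(cover φ hφ)} (h : coverMap φ hφ g = 1) :
    (g : chevE6.SteinbergGroup K) ∈ Subgroup.center (chevE6.SteinbergGroup K) := by
  rw [← (LL).ker_eq_center extra_chevE6]
  exact congrArg Subtype.val h

/-- Root elements of one orbit commute. -/
theorem yL_commute (s s' : Bool) {a : Fin 4} (ha : e6Len a = 2) (v w : K) :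
    Commute ((LL).X ((T).rt s a 0 : ℕ) v) ((LL).X ((T).rt s' a 1 : ℕ) w) := by
  obtain ⟨h1, h2, h3, h4, h5⟩ := e6_orbit_comm s s' a ha
  have e : ∀ (x : Bool) (j : ℕ),
      ((T).rt x a j : ℕ) = rtNat chevE6 e6_flip_π e6Base x a j := fun x j => by
    cases x <;> rfl
  rw [e, e]
  have h := (LL).comm _ _ h1 h2 h3 h4 v w
  rw [ChevalleyDatum.commWord, h5] at h
  simp only [List.map_nil, List.prod_nil] at h
  set A := (LL).X (rtNat chevE6 e6_flip_π e6Base s a 0) v
  set B := (LL).X (rtNat chevE6 e6_flip_π e6Base s' a 1) w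
  calc A * B = A * B * (B⁻¹ * A⁻¹ * B * A) := by rw [h, mul_one]
    _ = B * A := by group

theorem e6Len_cases : ∀ a : Fin 4, e6Len a = 1 ∨ e6Len a = 2 := by decide +kernel

theorem yL_one {a : Fin 4} (h : e6Len a = 1) (s : Bool) (t : K) :
    yL φ hφ s a t = (LL).X ((T).rt s a 0 : ℕ) t := by
  rw [yL, h]
  simp [List.range_one]

theorem yL_two {a : Fin 4} (h : e6Len a = 2) (s : Bool) (t : K) :
    yL φ hφ s a t = (LL).X ((T).rt s a 0 : ℕ) t * (LL).X ((T).rt s a 1 : ℕ) (φ t) := by
  rw [yL, h]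
  simp [List.range_succ]

theorem yL_pow (p : ℕ) [CharP K p] (s : Bool) (a : Fin 4) (t : K) : yL φ hφ s a t ^ p = 1 := by
  have hX : ∀ r, r < chevE6.nroots → ∀ v : K, (LL).X r v ^ p = 1 := by
    intro r hr v
    have h : ∀ n : ℕ, (LL).X r v ^ n = (LL).X r (n * v) := by
      intro n
      induction n with
      | zero => rw [pow_zero, Nat.cast_zero, zero_mul, (LL).X_zero hr]
      | succ n ih => rw [pow_succ, ih, (LL).add r hr, Nat.cast_succ, add_mul, one_mul]
    rw [h, CharP.cast_eq_zero, zero_mul, (LL).X_zero hr]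
  rcases e6Len_cases a with h | h
  · rw [yL_one φ hφ h, hX _ (Fin.is_lt _)]
  · rw [yL_two φ hφ h, (yL_commute φ hφ s s h t (φ t)).mul_pow, hX _ (Fin.is_lt _),
      hX _ (Fin.is_lt _), one_mul]

theorem yL_mem {s : Bool} {a : Fin 4} {t : K} (ht : (T).Par a t) :
    yL φ hφ s a t ∈ cover φ hφ :=
  Subgroup.subset_closure ⟨s, a, t, ht, rfl⟩

theorem h_mem {a : Fin 4} (u : Kˣ) (hu : (T).Par a (u : K)) :
    hTor LL extra_chevE6 (stLift_hMul facts_chevE6) ((T).hv a u) ∈ cover φ hφ := by
  have hpos : (T).Par a (-((u : K)⁻¹)) := (T).par_neg ((T).par_inv hu)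
  have h1 : (T).Par a (-1 : K) := (T).par_neg ((T).par_one a)
  have hh1 : (T).Par a (-((-1 : K)⁻¹)) := (T).par_neg ((T).par_inv h1)
  have hrt : ∀ j, ((T).rt false a j : ℕ) = chevE6.neg (chevE6.simple ((T).node a j)) :=
    fun j => rfl
  have hrt' : ∀ j, ((T).rt true a j : ℕ) = chevE6.simple ((T).node a j) := fun j => rfl
  rcases e6Len_cases a with h | h
  · have hhv : (T).hv a u = Pi.mulSingle ((T).node a 0) u := by
      funext i
      by_cases hi : i = (T).node a 0
      · subst hi
        rw [Pi.mulSingle_eq_same, (T).hv_node a u ((T).hO.len_pos a)]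
        exact Units.ext rfl
      · rw [Pi.mulSingle_eq_of_ne hi]
        refine (T).hv_other u fun j hj e => hi ?_
        have : j = 0 := by
          have hj' : j < e6Len a := hj
          omega
        rw [← e, this]
    rw [hhv, hTor_single, Lift.h, Lift.n, Lift.n, ← hrt, ← hrt', ← yL_one φ hφ h,
      ← yL_one φ hφ h, ← yL_one φ hφ h, ← yL_one φ hφ h]
    exact mul_mem (mul_mem (mul_mem (yL_mem φ hφ hu) (yL_mem φ hφ hpos)) (yL_mem φ hφ hu))
      (mul_mem (mul_mem (yL_mem φ hφ h1) (yL_mem φ hφ hh1)) (yL_mem φ hφ h1))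
  · have h01 : (T).node a 0 ≠ (T).node a 1 := (T).node_ne (i := 0) (j := 1)
      (show 0 < e6Len a by omega) (show 1 < e6Len a by omega) (by omega)
    have hhv : (T).hv a u = Pi.mulSingle ((T).node a 0) u *
        Pi.mulSingle ((T).node a 1) (Units.map φ.toMonoidHom u) := by
      funext i
      rw [Pi.mul_apply]
      by_cases h0 : i = (T).node a 0
      · subst h0
        rw [Pi.mulSingle_eq_same, Pi.mulSingle_eq_of_ne h01, mul_one,
          (T).hv_node a u ((T).hO.len_pos a)]
        exact Units.ext rfl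
      · by_cases h1' : i = (T).node a 1
        · subst h1'
          rw [Pi.mulSingle_eq_same, Pi.mulSingle_eq_of_ne h0, one_mul,
            (T).hv_node a u (show 1 < e6Len a by omega)]
          exact Units.ext rfl
        · rw [Pi.mulSingle_eq_of_ne h0, Pi.mulSingle_eq_of_ne h1', mul_one]
          refine (T).hv_other u fun j hj e => ?_
          have hj' : j < e6Len a := hj
          have : j = 0 ∨ j = 1 := by omega
          rcases this with rfl | rfl
          exacts [h0 e.symm, h1' e.symm]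
    set r := chevE6.simple ((T).node a 0)
    set r' := chevE6.simple ((T).node a 1)
    -- the two factors of a fundamental element multiply componentwise
    have hnn : ∀ v : K, (T).Par a v → (LL).n r v * (LL).n r' (φ v) =
        yL φ hφ true a v * yL φ hφ false a (-v⁻¹) * yL φ hφ true a v := by
      intro v _
      rw [yL_two φ hφ h, yL_two φ hφ h, map_neg, map_inv₀, Lift.n, Lift.n, hrt, hrt', hrt, hrt']
      have ca := yL_commute φ hφ true true h v (φ v)
      have cb := yL_commute φ hφ false true h (-v⁻¹) (φ v)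
      have cc := yL_commute φ hφ true false h v (-(φ v)⁻¹)
      rw [hrt, hrt'] at cb cc
      rw [hrt', hrt'] at ca
      set A := (LL).X r v
      set A' := (LL).X r' (φ v)
      set B := (LL).X (chevE6.neg r) (-v⁻¹)
      set B' := (LL).X (chevE6.neg r') (-(φ v)⁻¹)
      calc A * B * A * (A' * B' * A')
          = A * B * (A * A') * B' * A' := by group
        _ = A * B * (A' * A) * B' * A' := by rw [ca.eq]
        _ = A * (B * A') * (A * B') * A' := by group
        _ = A * (A' * B) * (B' * A) * A' := by rw [cb.eq, cc.eq]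
        _ = _ := by group
    have hn' : ∀ x w : K, Commute ((LL).n r x) ((LL).n r' w) := by
      intro x w
      have c := fun s s' (x w : K) => yL_commute φ hφ s s' h x w
      have ctt := c true true
      have ctf := c true false
      have cft := c false true
      have cff := c false false
      simp only [hrt, hrt'] at ctt ctf cft cff
      rw [Lift.n, Lift.n]
      exact ((((ctt x w).mul_right (ctf x _)).mul_right (ctt x w)).mul_left
        (((cft _ w).mul_right (cff _ _)).mul_right (cft _ w))).mul_left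
        (((ctt x w).mul_right (ctf x _)).mul_right (ctt x w))
    have e : hTor LL extra_chevE6 (stLift_hMul facts_chevE6) ((T).hv a u) =
        ((LL).n r (u : K) * (LL).n r' (φ (u : K))) * ((LL).n r (-1) * (LL).n r' (φ (-1))) := by
      rw [hhv, map_mul, hTor_single, hTor_single, map_neg, map_one]
      show (LL).h r (u : K) * (LL).h r' (φ (u : K)) = _
      rw [Lift.h, Lift.h, mul_assoc ((LL).n r (u : K)), ← mul_assoc ((LL).n r (-1 : K)),
        (hn' (-1) (φ (u : K))).eq]
      simp only [mul_assoc]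
    rw [e, hnn _ hu, hnn _ h1]
    exact mul_mem (mul_mem (mul_mem (yL_mem φ hφ hu) (yL_mem φ hφ hpos)) (yL_mem φ hφ hu))
      (mul_mem (mul_mem (yL_mem φ hφ h1) (yL_mem φ hφ hh1)) (yL_mem φ hφ h1))

variable [Fintype K] {q : ℕ} (hqφ : ∀ (j : ℕ) (t : K), (φ ^ j) t = t ^ q ^ j) (hq2 : 2 ≤ q)
  (hK : Fintype.card K = q ^ 2)
include hqφ hq2 hK

/-- The stem extension of order three. -/
theorem exists_cover_three (hg : Nat.gcd 3 (q + 1) = 3) (hq : IsPrimePow q) :
    ∃ (Γ₀ : Type u) (_ : Group Γ₀) (_ : Finite Γ₀) (σ₀ : Γ₀ →* ↥(T).G1),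
      Cfsg.IsStemExtension σ₀ ∧ Nonempty (σ₀.ker ≃* Multiplicative (ZMod 3)) := by
  classical
  haveI : Finite (chevE6.SteinbergGroup K) := finite_steinberg facts_chevE6 extra_chevE6
  have h3 : 3 ∣ q + 1 := hg ▸ Nat.gcd_dvd_right 3 (q + 1)
  obtain ⟨p, n, hp, hn, hpn⟩ := hq
  rw [← Nat.prime_iff] at hp
  haveI := Fact.mk hp
  haveI : CharP K p := charP_of_card_eq_prime_pow (f := n * 2) (by rw [hK, ← hpn, pow_mul])
  have hp3 : ¬ 3 ∣ p := by
    intro h
    have h' : 3 ∣ q := hpn ▸ dvd_pow h hn.ne'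
    omega
  have hZ : Nat.card (Subgroup.center (chevE6.SteinbergGroup K)) = 3 := by
    rw [ChevExt.e6_card_center, hK]
    refine Nat.gcd_eq_left ?_
    have : q ^ 2 - 1 = (q + 1) * (q - 1) := by simpa using Nat.sq_sub_sq q 1
    rw [this]
    exact h3.trans (dvd_mul_right _ _)
  set σ₀ := coverMap φ hφ with hσ₀
  -- a nontrivial central element of the cover
  obtain ⟨c, hc1, hc⟩ : ∃ c : Fin chevE6.rank → Kˣ, c ≠ 1 ∧ c ∈ (T).cfix ∧
      ∀ i : Fin chevE6.rank, chiU c (chevE6.simple i) = 1 := by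
    by_contra hno
    push Not at hno
    have := e6_card_ker φ hφ hqφ hq2 hK
    rw [hg] at this
    have hsub : Subsingleton {c : ↥(T).cfix //
        ∀ i : Fin chevE6.rank, chiU (c : Fin chevE6.rank → Kˣ) (chevE6.simple i) = 1} := by
      have h1 : ∀ x : {c : ↥(T).cfix //
          ∀ i : Fin chevE6.rank, chiU (c : Fin chevE6.rank → Kˣ) (chevE6.simple i) = 1},
          (x.1 : Fin chevE6.rank → Kˣ) = 1 := fun x => by
        by_contra hne
        obtain ⟨i, hi⟩ := hno _ hne x.1.2
        exact hi (x.2 i)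
      exact ⟨fun x y => Subtype.ext (Subtype.ext ((h1 x).trans (h1 y).symm))⟩
    rw [Nat.card_eq_one_iff_unique.2 ⟨hsub, ⟨⟨1, fun i => by simp [chiU]⟩⟩⟩] at this
    exact absurd this (by omega)
  obtain ⟨hcfix, hchi⟩ := hc
  have hzmem : hTor LL extra_chevE6 (stLift_hMul facts_chevE6) c ∈ cover φ hφ := by
    rw [(T).eq_prod_hv hcfix]
    refine prod_mem (S := (cover φ hφ).comap _) fun a _ => ?_
    exact h_mem φ hφ _ ((T).par_base hcfix a)
  set z : ↥(cover φ hφ) := ⟨_, hzmem⟩ with hz_def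
  have hzker : z ∈ σ₀.ker := by
    refine MonoidHom.mem_ker.2 (Subtype.ext ?_)
    show (LL).θ (hTor LL extra_chevE6 (stLift_hMul facts_chevE6) c) = 1
    rw [θ_hTor]
    exact (mem_torusHom_ker facts_chevE6 c).2 (funext hchi)
  have hz1 : z ≠ 1 := fun e => hc1 (e6_hTor_injective (by
    rw [map_one]; exact congrArg Subtype.val e))
  have hcard : Nat.card σ₀.ker = 3 := by
    have hd : Nat.card σ₀.ker ∣ 3 := by
      rw [← hZ]
      refine Subgroup.card_dvd_of_injective
        ({ toFun := fun x => ⟨((x : ↥(cover φ hφ)) : chevE6.SteinbergGroup K),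
              coverMap_ker φ hφ x.2⟩
           map_one' := rfl
           map_mul' := fun _ _ => rfl } : ↥σ₀.ker →* _) fun x y e => ?_
      exact Subtype.ext (Subtype.ext (congrArg (fun w => w.val) e :))
    refine ((Nat.dvd_prime Nat.prime_three).1 hd).resolve_left fun h1 => hz1 ?_
    have h := Subgroup.card_eq_one.1 h1
    rw [h, Subgroup.mem_bot] at hzker
    exact hzker
  have hcen : σ₀.ker ≤ Subgroup.center ↥(cover φ hφ) := fun x hx =>
    Subgroup.mem_center_iff.2 fun y =>
      Subtype.ext (Subgroup.mem_center_iff.1 (coverMap_ker φ hφ hx) _)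
  -- the cover is perfect
  have hperf : commutator ↥(cover φ hφ) = ⊤ := by
    set D := commutator ↥(cover φ hφ)
    have hcube : ∀ x : ↥(cover φ hφ), x ^ 3 ∈ D := by
      intro x
      have hmap : D.map σ₀ = commutator ↥(T).G1 := by
        show (commutator ↥(cover φ hφ)).map σ₀ = _
        rw [commutator_def, commutator_def, Subgroup.map_commutator,
          Subgroup.map_top_of_surjective _ (coverMap_surjective φ hφ)]
      have hx : σ₀ x ∈ D.map σ₀ := by
        rw [hmap, Chev.e6_perfect φ hφ hqφ hq2 hK]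
        exact Subgroup.mem_top _
      obtain ⟨d, hd, e⟩ := Subgroup.mem_map.1 hx
      have hk : d⁻¹ * x ∈ σ₀.ker := by
        rw [MonoidHom.mem_ker, map_mul, map_inv, e, inv_mul_cancel]
      have h3' : (d⁻¹ * x) ^ 3 = 1 := by
        have := pow_card_eq_one' (x := (⟨_, hk⟩ : σ₀.ker))
        rw [hcard] at this
        exact congrArg Subtype.val this
      have hcm : Commute d (d⁻¹ * x) := Subgroup.mem_center_iff.1 (hcen hk) d
      rw [show x = d * (d⁻¹ * x) by group, hcm.mul_pow, h3', mul_one]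
      exact pow_mem hd 3
    rw [eq_top_iff]
    rintro ⟨x, hx⟩ -
    induction hx using Subgroup.closure_induction with
    | mem x hx =>
      obtain ⟨s, a, t, ht, rfl⟩ := hx
      set y : ↥(cover φ hφ) := ⟨yL φ hφ s a t, yL_mem φ hφ ht⟩
      have hy : y ^ p = 1 := Subtype.ext (yL_pow φ hφ p s a t)
      obtain ⟨i, j, hij⟩ : ∃ i j : ℤ, (p : ℤ) * i + 3 * j = 1 := by
        have hcp : Nat.Coprime p 3 :=
          (Nat.prime_three.coprime_iff_not_dvd.2 hp3).symm
        exact ⟨_, _, (Int.gcd_eq_gcd_ab (p : ℤ) 3).symm.trans (by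
          rw [show Int.gcd (p : ℤ) 3 = 1 from hcp]; norm_num)⟩
      show y ∈ D
      rw [← zpow_one y, ← hij, zpow_add, zpow_mul, zpow_natCast, hy, one_zpow, one_mul, zpow_mul]
      exact zpow_mem (by exact_mod_cast hcube y) j
    | one => exact D.one_mem
    | mul x y hx hy ihx ihy => exact D.mul_mem ihx ihy
    | inv x hx ih => exact D.inv_mem ih
  refine ⟨↥(cover φ hφ), inferInstance, inferInstance, σ₀,
    ⟨coverMap_surjective φ hφ, hcen, by rw [hperf]; exact le_top⟩, ⟨?_⟩⟩
  haveI : Fact (Nat.Prime 3) := ⟨Nat.prime_three⟩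
  haveI : IsCyclic σ₀.ker := isCyclic_of_prime_card hcard
  exact mulEquivOfCyclicCardEq (by rw [hcard]; simp)

end Cfsg.Agent.Chev.TwMult
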