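import Cfsg.Agent.Chev.TwistMult.Checks
import Cfsg.Agent.Overgroup.Twisted.E6Data

/-!
The levels of the positive unipotent subgroup of ²E₆ and their certificates.
-/

set_option autoImplicit false
set_option maxRecDepth 100000
set_option maxHeartbeats 4000000

namespace Cfsg.Agent.Chev.TwMult

open Cfsg.Lie Cfsg.Agent.Chev Cfsg.Agent.Overgroup.Twisted

/-- The conditions on a level that can be checked by computation. -/
structure LvlChk (D : ChevalleyDatum) (π : Equiv.Perm (Fin D.rank))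
    (ρ : Equiv.Perm (Fin D.nroots)) (k : ℕ) (cands : List (List ℤ)) (L : Lvl D)
    (nη nθ : List ℤ) : Prop where
  inv : ∀ r : Fin D.nroots, gradeR D L.nu (ρ r : ℕ) = gradeR D L.nu (r : ℕ)
  de : L.e ≤ 2 * L.d
  ed : L.d ≤ L.e
  top_fixed : ρ L.top = L.top
  top_only : ∀ r : Fin D.nroots, half D ≤ (r : ℕ) → (L.e : ℤ) ≤ gradeR D L.nu r → r = L.top
  top_grade : (L.e : ℤ) ≤ gradeR D L.nu L.top
  top_pos : half D ≤ (L.top : ℕ)
  cover : ∀ r : Fin D.nroots, half D ≤ (r : ℕ) → (L.d : ℤ) ≤ gradeR D L.nu r →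
    ∃ s ∈ L.top :: L.qs, r = s ∨ r = ρ s
  pos : ∀ r ∈ L.qs, half D ≤ (r : ℕ) ∧ (L.d : ℤ) ≤ gradeR D L.nu r
  cη_inv : invChk π nη = true
  cη_move : ∀ r ∈ L.qs, pairW D nη r = 1
  cθ_inv : invChk π nθ = true
  cθ_move : pairW D nθ L.top = 1
  sep : ∀ r ∈ L.qs, ∀ s ∈ L.qs,
    r = s ∨ sepChk π ρ cands r s = true ∨ sepChk π ρ cands s r = true
  top_com : ∀ r ∈ L.qs ++ L.ls, commY ρ k L.top r = true ∧
    (sepChk π ρ cands L.top r = true ∨ sepChk π ρ cands r L.top = true)
  ls_pos : ∀ l ∈ L.ls, half D ≤ (l : ℕ) ∧ 0 ≤ gradeR D L.nu l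
  ls_fix : ∀ l ∈ L.ls, pairW D nη l = 0

/-- The exponents of the separating torus elements. -/
def e6Cands : List (List ℤ) :=
  [[1, 1, 2, 2, 2, 1], [1, 1, 2, 3, 2, 1], [1, 1, 1, 1, 1, 1], [0, 1, 1, 1, 0, 0],
    [0, 1, 1, 1, 1, 0], [1, 0, 1, 1, 0, 0], [-1, 0, -1, -1, 0, 0], [-1, -1, 0, 0, 0, 0]]

/-- The level of the highest root. -/
def e6L1 : Lvl chevE6 where
  nu := [[3, 6, 6, 9, 6, 3]]
  d := 3
  e := 6
  qs := [46, 47, 48, 49, 51, 52, 53, 54, 55, 63, 65, 66, 69, 70].map e6R
  top := e6R 71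
  ls := [60, 36, 38, 41, 45, 44, 37, 40, 39].map e6R

/-- The level of the subsystem of type A₅. -/
def e6L2 : Lvl chevE6 where
  nu := [[-3, -12, -9, -15, -9, -3]]
  d := 3
  e := 6
  qs := [36, 38, 41, 45].map e6R
  top := e6R 60
  ls := [44, 37, 40, 39].map e6R

/-- The level of the subsystem of type A₃. -/
def e6L3 : Lvl chevE6 where
  nu := [[-21, -36, -36, -54, -36, -21]]
  d := 3
  e := 6
  qs := [37, 40].map e6R
  top := e6R 44
  ls := [39].map e6R

/-- The last root. -/
def e6L4 : Lvl chevE6 where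
  nu := [[-39, -57, -69, -96, -69, -39]]
  d := 3
  e := 3
  qs := []
  top := e6R 39
  ls := []

/-- The exponents of the torus elements of the central roots. -/
def e6N1 : List ℤ := [0, 1, 0, 0, 0, 0]

/-- The exponents of the torus elements of the central roots of the lower levels. -/
def e6N2 : List ℤ := [0, -1, 0, 0, 0, 0]

theorem e6_lvl1 : LvlChk chevE6 e6_flip_π e6_flip_ρ 2 e6Cands e6L1
    [1, 2, 2, 3, 2, 1] e6N1 where
  inv := by decide +kernel
  de := by decide
  ed := by decide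
  top_fixed := by decide +kernel
  top_only := by decide +kernel
  top_grade := by decide +kernel
  top_pos := by decide +kernel
  cover := by decide +kernel
  pos := by decide +kernel
  cη_inv := by decide +kernel
  cη_move := by decide +kernel
  cθ_inv := by decide +kernel
  cθ_move := by decide +kernel
  sep := by decide +kernel
  top_com := by decide +kernel
  ls_pos := by decide +kernel
  ls_fix := by decide +kernel

theorem e6_lvl2 : LvlChk chevE6 e6_flip_π e6_flip_ρ 2 e6Cands e6L2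
    [1, 0, 1, 1, 1, 1] e6N2 where
  inv := by decide +kernel
  de := by decide
  ed := by decide
  top_fixed := by decide +kernel
  top_only := by decide +kernel
  top_grade := by decide +kernel
  top_pos := by decide +kernel
  cover := by decide +kernel
  pos := by decide +kernel
  cη_inv := by decide +kernel
  cη_move := by decide +kernel
  cθ_inv := by decide +kernel
  cθ_move := by decide +kernel
  sep := by decide +kernel
  top_com := by decide +kernel
  ls_pos := by decide +kernel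
  ls_fix := by decide +kernel

theorem e6_lvl3 : LvlChk chevE6 e6_flip_π e6_flip_ρ 2 e6Cands e6L3
    [-1, 0, 0, 0, 0, -1] e6N2 where
  inv := by decide +kernel
  de := by decide
  ed := by decide
  top_fixed := by decide +kernel
  top_only := by decide +kernel
  top_grade := by decide +kernel
  top_pos := by decide +kernel
  cover := by decide +kernel
  pos := by decide +kernel
  cη_inv := by decide +kernel
  cη_move := by decide +kernel
  cθ_inv := by decide +kernel
  cθ_move := by decide +kernel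
  sep := by decide +kernel
  top_com := by decide +kernel
  ls_pos := by decide +kernel
  ls_fix := by decide +kernel

theorem e6_lvl4 : LvlChk chevE6 e6_flip_π e6_flip_ρ 2 e6Cands e6L4
    [0, 0, 0, 0, 0, 0] e6N2 where
  inv := by decide +kernel
  de := by decide
  ed := by decide
  top_fixed := by decide +kernel
  top_only := by decide +kernel
  top_grade := by decide +kernel
  top_pos := by decide +kernel
  cover := by decide +kernel
  pos := by decide +kernel
  cη_inv := by decide +kernel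
  cη_move := by decide +kernel
  cθ_inv := by decide +kernel
  cθ_move := by decide +kernel
  sep := by decide +kernel
  top_com := by decide +kernel
  ls_pos := by decide +kernel
  ls_fix := by decide +kernel

/-- All the representatives. -/
def e6All : List (Fin chevE6.nroots) :=
  (e6L1.top :: e6L1.qs) ++ (e6L2.top :: e6L2.qs) ++ (e6L3.top :: e6L3.qs) ++ (e6L4.top :: e6L4.qs)

/-- The words carrying the highest long and short roots to all roots. -/
def e6Move (r : Fin chevE6.nroots) : Fin chevE6.nroots × List (Fin 4) :=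
  match (r : ℕ) with
  | 36 => (e6R 66, [1, 2, 3, 1, 2, 1, 0])
  | 37 => (e6R 66, [2, 3, 0, 1, 2, 1, 0])
  | 38 => (e6R 66, [2, 3, 1, 2, 1, 0])
  | 39 => (e6R 71, [3, 1, 2, 0, 1, 2, 3])
  | 40 => (e6R 66, [3, 0, 1, 2, 1, 0])
  | 41 => (e6R 66, [3, 1, 2, 1, 0])
  | 44 => (e6R 71, [3, 2, 0, 1, 2, 3])
  | 45 => (e6R 66, [3, 2, 1, 0])
  | 46 => (e6R 71, [2, 1, 2, 0, 1, 2, 3])
  | 47 => (e6R 71, [1, 2, 0, 1, 2, 3])
  | 48 => (e6R 66, [0, 1, 2, 1, 0])
  | 49 => (e6R 66, [1, 2, 1, 0])
  | 51 => (e6R 71, [2, 0, 1, 2, 3])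
  | 52 => (e6R 66, [2, 1, 0])
  | 53 => (e6R 71, [0, 1, 2, 3])
  | 54 => (e6R 66, [1, 0])
  | 55 => (e6R 66, [0])
  | 60 => (e6R 71, [3, 2, 1, 2, 3])
  | 63 => (e6R 71, [2, 1, 2, 3])
  | 65 => (e6R 71, [1, 2, 3])
  | 66 => (e6R 66, [])
  | 69 => (e6R 71, [2, 3])
  | 70 => (e6R 71, [3])
  | _ => (e6R 71, [])

theorem e6_move : ∀ r ∈ e6All,
    ((e6Move r).1 = e6R 66 ∨ (e6Move r).1 = e6R 71) ∧
      foldW chevE6 e6_flip_π e6Base e6Len (e6Move r).2 (e6Move r).1 = (r : ℕ) ∧
      olen e6_flip_ρ 2 r = olen e6_flip_ρ 2 (e6Move r).1 := by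
  decide +kernel

theorem e6_dec66 : decChk e6_flip_ρ 2 (e6R 66) (e6R 56) (e6R 55) = true := by decide +kernel

theorem e6_dec71 : decChk e6_flip_ρ 2 (e6R 71) (e6R 46) (e6R 70) = true := by decide +kernel

theorem e6_all_cover : ∀ r : Fin chevE6.nroots, half chevE6 ≤ (r : ℕ) →
    ∃ s ∈ e6All, r = s ∨ r = e6_flip_ρ s := by
  decide +kernel

theorem e6_all_olen : (e6All.map fun r => olen e6_flip_ρ 2 r).sum = 36 := by decide +kernel

theorem e6_flip_invol : ∀ i, e6_flip_π (e6_flip_π i) = i := by decide +kernel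

end Cfsg.Agent.Chev.TwMult
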