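import Cfsg.Agent.Chev.TwistMult.E6Part
import Cfsg.Agent.Chev.TwistMult.E6Cover
import Cfsg.Agent.Chev.TwistMult.Section

/-!
The Schur multiplier of ²E₆(q) for q ≠ 2 is cyclic of order gcd(3, q + 1).
-/

set_option autoImplicit false
set_option maxRecDepth 100000
set_option maxHeartbeats 1000000

namespace Cfsg.Agent.Chev.TwMult

open Cfsg.Lie Cfsg.Agent.Chev
open scoped MatrixGroups

universe u

variable {K : Type u} [Field K] [Fintype K] {φ : K →+* K} {hφ : ∀ t, (φ ^ 2) t = t} {q : ℕ}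

/-- The kernel of a stem extension is cyclic of order dividing gcd(3, q + 1). -/
theorem e6_upper (hqφ : ∀ (j : ℕ) (t : K), (φ ^ j) t = t ^ q ^ j) (hq2 : 2 < q)
    (hK : Fintype.card K = q ^ 2) (hpp : IsPrimePow q) (Γ : Type u) [Group Γ] [Finite Γ]
    (σ : Γ →* ↥(twistE6 K φ hφ).G1) (hσ : Cfsg.IsStemExtension σ) :
    ∃ z ∈ σ.ker, σ.ker ≤ Subgroup.zpowers z ∧ z ^ Nat.gcd 3 (q + 1) = 1 := by
  classical
  obtain ⟨hs, hc, hd⟩ := hσ
  obtain ⟨p, n, hp, hn, hq⟩ := hpp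
  rw [← Nat.prime_iff] at hp
  haveI := Fact.mk hp
  haveI : CharP K p := charP_of_card_eq_prime_pow (f := n * 2) (by rw [hK, ← hq, pow_mul])
  have hcop := e6_coprime φ hφ (σ := σ) ⟨hs, hc⟩ hqφ hq2 hK hn.ne' hq.symm hd
  have C : CoTwist (twistE6 K φ hφ) p σ := ⟨⟨hs, hc, hcop⟩, inferInstance, hp⟩
  let f : ↥(twistE6 K φ hφ).cfix →* GL chevE6.Idx K := torusHom.comp (twistE6 K φ hφ).cfix.subtype
  let g : (∀ a : Fin (twistE6 K φ hφ).m, (↥((twistE6 K φ hφ).Fa a))ˣ) →* GL chevE6.Idx K := f.comp (CoTwist.hAll (twistE6 K φ hφ))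
  have hfk : Nat.card ↥f.ker = Nat.gcd 3 (q + 1) := by
    rw [← e6_card_ker φ hφ hqφ (le_of_lt hq2) hK]
    refine Nat.card_congr (Equiv.subtypeEquivRight fun c => ?_)
    refine ⟨fun h i => congrFun ((mem_torusHom_ker facts_chevE6 _).1 h) i, fun h => ?_⟩
    exact (mem_torusHom_ker facts_chevE6 (c : Fin chevE6.rank → Kˣ)).2 (funext h)
  have hgk : Nat.card ↥g.ker ∣ Nat.gcd 3 (q + 1) := by
    rw [← hfk]
    refine Subgroup.card_dvd_of_injective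
      ({ toFun := fun w => ⟨CoTwist.hAll (twistE6 K φ hφ) (w : ∀ a : Fin (twistE6 K φ hφ).m, (↥((twistE6 K φ hφ).Fa a))ˣ), w.2⟩
         map_one' := Subtype.ext (map_one _)
         map_mul' := fun _ _ => Subtype.ext (map_mul _ _ _) } : ↥g.ker →* ↥f.ker) fun x y e => ?_
    exact Subtype.ext (CoTwist.hAll_injective (T := twistE6 K φ hφ) (congrArg Subtype.val e))
  haveI : Fact (Nat.Prime 3) := ⟨Nat.prime_three⟩
  haveI : IsCyclic ↥g.ker :=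
    isCyclic_of_card_dvd_prime (p := 3) (hgk.trans (Nat.gcd_dvd_left _ _))
  obtain ⟨w0, hw0⟩ := IsCyclic.exists_generator (α := ↥g.ker)
  refine ⟨C.tau (w0 : ∀ a : Fin (twistE6 K φ hφ).m, (↥((twistE6 K φ hφ).Fa a))ˣ),
    MonoidHom.mem_ker.2 (Subtype.ext ((C.im_tau _).trans w0.2)), fun z hz => ?_, ?_⟩
  · obtain ⟨w, hw, rfl⟩ := C.eq_tau_of_commutator hz (hd hz)
    rw [C.im_tau] at hw
    obtain ⟨j, hj⟩ := hw0 ⟨w, hw⟩
    exact ⟨j, by
      show C.tau (w0 : ∀ a : Fin (twistE6 K φ hφ).m, (↥((twistE6 K φ hφ).Fa a))ˣ) ^ j = C.tau w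
      rw [← map_zpow, ← SubgroupClass.coe_zpow, show w0 ^ j = ⟨w, hw⟩ from hj]⟩
  · rw [← map_pow, ← SubmonoidClass.coe_pow,
      orderOf_dvd_iff_pow_eq_one.1 ((orderOf_dvd_natCard w0).trans hgk), OneMemClass.coe_one,
      map_one]

/-- The Schur multiplier of ²E₆(q). -/
theorem multiplier_e6 {q : ℕ} (hq : IsPrimePow q) (hK : Fintype.card K = q ^ 2) (h2 : q ≠ 2) :
    Cfsg.HasCyclicSchurMultiplier ↥(twistedE6 K q) (Nat.gcd 3 (q + 1)) := by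
  obtain ⟨φ, hφ, hq2, hqφ, e⟩ := exists_twistE6 hq hK
  rw [← e]
  have hq3 : 2 < q := by omega
  have hup := e6_upper (φ := φ) (hφ := hφ) hqφ hq3 hK hq
  rcases (Nat.dvd_prime Nat.prime_three).1 (Nat.gcd_dvd_left 3 (q + 1)) with hg | hg
  · rw [hg]
    refine ProjExt.Stem.hasCyclicSchurMultiplier_one fun Γ _ _ σ hσ => ?_
    obtain ⟨z, -, hle, hz⟩ := hup Γ σ hσ
    rw [hg, pow_one] at hz
    rw [eq_bot_iff]
    exact hle.trans (by rw [hz, Subgroup.zpowers_one_eq_bot])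
  · obtain ⟨Γ₀, i1, i2, σ₀, h₀, ⟨eq⟩⟩ :=
      exists_cover_three φ hφ hqφ hq2 hK hg hq
    rw [hg]
    refine ProjExt.Stem.hasCyclicSchurMultiplier_of σ₀ h₀ eq fun Γ _ _ σ hσ => ?_
    obtain ⟨z, hz, hle, hzn⟩ := hup Γ σ hσ
    exact ⟨z, hz, hle, by rw [← hg]; exact hzn⟩

end Cfsg.Agent.Chev.TwMult
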