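import Cfsg.Agent.Chev.TwistMult.E6Data
import Cfsg.Agent.Chev.Twist.E6Stmts

/-!
The kernel of a stem extension of ²E₆(q), q ≠ 2, has order prime to the characteristic.
-/

set_option autoImplicit false
set_option maxRecDepth 100000
set_option maxHeartbeats 2000000

namespace Cfsg.Agent.Chev.TwMult

open Cfsg.Lie Cfsg.Agent.Chev Cfsg.Agent.Overgroup.Twisted
open Cfsg.Agent.Chev.CoTwist (im)
open scoped MatrixGroups commutatorElement

universe u

variable {K : Type u} [Field K] (φ : K →+* K) (hφ : ∀ t, (φ ^ 2) t = t)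

local notation "T" => twistE6 K φ hφ

include hφ in
theorem e6_hφ2 : ∀ t, φ (φ t) = t := fun t => by
  have := hφ t
  rwa [pow_two, RingHom.mul_def, RingHom.comp_apply] at this

theorem e6_rootFactsT : RootFacts chevE6 e6Mu' (T).ρ (T).ε (T).k := e6_rootFacts

variable {Γ : Type u} [Group Γ] {σ : Γ →* ↥(twistE6 K φ hφ).G1} (E : CExt σ)
include E

theorem e6_self (r : Fin chevE6.nroots) (hr : r ∈ e6All) : ComY σ r r := by
  have R := e6_rootFactsT φ hφ
  obtain ⟨h1, h2, h3⟩ := e6_move r hr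
  refine comY_self_word T R E (e6Move r).2 h2 h3 ?_
  rcases h1 with h | h <;> rw [h]
  · exact comY_self_of_chk T R E rfl e6_dec66
  · exact comY_self_of_chk T R E rfl e6_dec71

/-- The torus parameters of a level. -/
theorem e6_lvlFacts {v : Kˣ} (hv : (v : K) * φ v ≠ 1) {L : Lvl chevE6} {nη nθ : List ℤ}
    (h : LvlChk chevE6 e6_flip_π e6_flip_ρ 2 e6Cands L nη nθ)
    (hsub : ∀ r ∈ L.top :: L.qs, r ∈ e6All) :
    LvlFacts T σ L (powC (v * Units.map φ.toMonoidHom v) nη)
      (powC (v * Units.map φ.toMonoidHom v) nθ) := by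
  have R := e6_rootFactsT φ hφ
  set u := v * Units.map φ.toMonoidHom v
  have hu1 : (u : K) ≠ 1 := hv
  have huf : (T).φ (u : K) = u := by
    show φ ((v : K) * φ v) = (v : K) * φ v
    rw [map_mul, e6_hφ2 φ hφ, mul_comm]
  have hπ : ∀ i, (T).π ((T).π i) = i := e6_flip_invol
  have hsep : ∀ {r s : Fin chevE6.nroots}, sepChk e6_flip_π e6_flip_ρ e6Cands r s = true →
      Sep T r s := fun h => sep_of_chk T hπ (e6_hφ2 φ hφ) hv h
  have hrp : ∀ r ∈ L.qs ++ L.ls, half chevE6 ≤ (r : ℕ) := fun r hr => by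
    rcases List.mem_append.1 hr with hr | hr
    exacts [(h.pos r hr).1, (h.ls_pos r hr).1]
  refine
    { inv := h.inv, de := h.de, ed := h.ed, top_fixed := h.top_fixed, top_only := h.top_only
      top_grade := h.top_grade, top_pos := h.top_pos
      cover := fun r hr hm => ?_
      pos := h.pos
      cη_mem := powC_mem T huf h.cη_inv
      cη_move := fun r hr => by rw [chi_powC u (h.cη_move r hr), zpow_one]; exact hu1
      cθ_mem := powC_mem T huf h.cθ_inv
      cθ_move := by rw [chi_powC u h.cθ_move, zpow_one]; exact hu1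
      sep := fun r hr s hs => ?_
      self := fun r hr => e6_self φ hφ E r (hsub r hr)
      top_com := fun r hr => ?_
      ls_pos := h.ls_pos
      ls_fix := fun l hl => by rw [chi_powC u (h.ls_fix l hl), zpow_zero, Units.val_one] }
  · obtain ⟨s, hs, rfl | rfl⟩ := h.cover r hr hm
    exacts [⟨r, hs, 0, rfl⟩, ⟨s, hs, 1, rfl⟩]
  · rcases h.sep r hr s hs with e | e | e
    exacts [Or.inl e, Or.inr (Or.inl (hsep e)), Or.inr (Or.inr (hsep e))]
  · obtain ⟨hc, hs⟩ := h.top_com r hr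
    exact comY_of_sep' T R E h.top_pos (hrp r hr) (hs.imp hsep hsep) hc

variable [Fintype K] [Finite Γ] {q : ℕ} (hqφ : ∀ (j : ℕ) (t : K), (φ ^ j) t = t ^ q ^ j)
  (hq2 : 2 < q) (hK : Fintype.card K = q ^ 2)
include hqφ hq2 hK

omit E [Finite Γ] in
theorem exists_norm_ne_one : ∃ v : Kˣ, (v : K) * φ v ≠ 1 := by
  classical
  by_contra hno
  push Not at hno
  have hle : Nat.card Kˣ ≤ Nat.card ↥(powMonoidHom (q + 1) : Kˣ →* Kˣ).ker :=
    Nat.card_le_card_of_injective (fun v => ⟨v, by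
      rw [MonoidHom.mem_ker, powMonoidHom_apply]
      refine Units.ext ?_
      rw [Units.val_pow_eq_pow_val, pow_succ', Units.val_one, ← e6_hq φ hqφ]
      exact hno v⟩) fun a b e => congrArg Subtype.val e
  rw [IsCyclic.card_powMonoidHom_ker] at hle
  have h2 := hle.trans (Nat.le_of_dvd (by omega) (Nat.gcd_dvd_right _ _))
  rw [Nat.card_units, Nat.card_eq_fintype_card (α := K), hK] at h2
  have : 3 * q ≤ q ^ 2 := by rw [pow_two]; exact Nat.mul_le_mul_right _ hq2
  omega

/-- A kernel element of the derived group is killed by the index of the positive unipotent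
subgroup. -/
theorem e6_pow_index {z : Γ} (hz : z ∈ σ.ker) (hzd : z ∈ commutator Γ) :
    z ^ ((T).U1.subgroupOf (T).G1).index = 1 := by
  classical
  have R := e6_rootFactsT φ hφ
  have hg := e6_gradeFacts
  have hC := e6_checks
  obtain ⟨v, hv⟩ := exists_norm_ne_one φ hqφ hq2 hK
  set u := v * Units.map φ.toMonoidHom v
  have H1 := e6_lvlFacts φ hφ E hv e6_lvl1 (by decide +kernel)
  have H2 := e6_lvlFacts φ hφ E hv e6_lvl2 (by decide +kernel)
  have H3 := e6_lvlFacts φ hφ E hv e6_lvl3 (by decide +kernel)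
  have H4 := e6_lvlFacts φ hφ E hv e6_lvl4 (by decide +kernel)
  set V1 := lvlLift σ e6L1 (powC u [1, 2, 2, 3, 2, 1]) (powC u e6N1)
  set V2 := lvlLift σ e6L2 (powC u [1, 0, 1, 1, 1, 1]) (powC u e6N2)
  set V3 := lvlLift σ e6L3 (powC u [-1, 0, 0, 0, 0, -1]) (powC u e6N2)
  set V4 := lvlLift σ e6L4 (powC u [0, 0, 0, 0, 0, 0]) (powC u e6N2)
  -- the image of a level lies in the span of its root groups
  have himV : ∀ {L : Lvl chevE6} {c d : Fin chevE6.rank → Kˣ}, LvlFacts T σ L c d →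
      ∀ (S : List (Fin chevE6.nroots)), (∀ r ∈ L.top :: L.qs, r ∈ S) →
      ∀ g ∈ lvlLift σ L c d,
        im σ g ∈ Subgroup.closure {x | ∃ l ∈ S, ∃ t, OPar T l t ∧ x = Y T l t} := by
    intro L c d hL S hS g hgV
    have h : im σ g ∈ Ug T L.nu L.d := lvlLift_le R E hC hL hgV
    rw [Ug_eq_closure T hC R hg hL.inv] at h
    refine (Subgroup.closure_le _).2 ?_ h
    rintro _ ⟨r, t, hr, hm, ht, rfl⟩
    obtain ⟨s, hs, i, rfl⟩ := hL.cover r hr hm
    obtain ⟨t', ht', e⟩ := Y_orbit_rep R s (hL.root_mem hs).1 i t ht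
    exact Subgroup.subset_closure ⟨s, hS s hs, t', ht', e⟩
  -- later levels normalise earlier ones
  have hn : ∀ {L M : Lvl chevE6} {c d c' d' : Fin chevE6.rank → Kˣ}, LvlFacts T σ L c d →
      LvlFacts T σ M c' d' → (∀ r ∈ M.top :: M.qs, r ∈ L.ls) →
      lvlLift σ M c' d' ≤ Subgroup.normalizer (lvlLift σ L c d : Set Γ) :=
    fun hL hM hS g hgV => mem_normalizer_lvlLift R E hg hC hL (himV hM _ hS g hgV)
  have n34 : V4 ≤ Subgroup.normalizer (V3 : Set Γ) := hn H3 H4 (by decide +kernel)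
  have n23 : V3 ≤ Subgroup.normalizer (V2 : Set Γ) := hn H2 H3 (by decide +kernel)
  have n24 : V4 ≤ Subgroup.normalizer (V2 : Set Γ) := hn H2 H4 (by decide +kernel)
  have n12 : V2 ≤ Subgroup.normalizer (V1 : Set Γ) := hn H1 H2 (by decide +kernel)
  have n13 : V3 ≤ Subgroup.normalizer (V1 : Set Γ) := hn H1 H3 (by decide +kernel)
  have n14 : V4 ≤ Subgroup.normalizer (V1 : Set Γ) := hn H1 H4 (by decide +kernel)
  set P := V1 ⊔ (V2 ⊔ (V3 ⊔ V4))
  have hcard : Nat.card ↥P ≤ Nat.card ↥(T).U1 := by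
    have hpar : ∀ r : Fin chevE6.nroots,
        Nat.card {t : K // OPar T r t} = q ^ olen e6_flip_ρ 2 r := by
      intro r
      have hd : olen e6_flip_ρ 2 r ∣ 2 := by
        rw [olen]; split <;> simp
      rw [← card_fixed (le_of_lt hq2) hK hd]
      refine Nat.card_congr (Equiv.subtypeEquivRight fun t => ?_)
      show (φ ^ olen e6_flip_ρ 2 r) t = t ↔ _
      rw [hqφ]
    have hps : ∀ (l : List (Fin chevE6.nroots)) (f : Fin chevE6.nroots → ℕ),
        q ^ (l.map f).sum = (l.map fun x => q ^ f x).prod := by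
      intro l f
      induction l with
      | nil => simp
      | cons x l ih => simp [pow_add, ih]
    have c1 := card_lvlLift R E hg hC H1
    have c2 := card_lvlLift R E hg hC H2
    have c3 := card_lvlLift R E hg hC H3
    have c4 := card_lvlLift R E hg hC H4
    refine (card_sup_le (sup_le n12 (sup_le n13 n14))).trans ?_
    refine (Nat.mul_le_mul c1 ((card_sup_le (sup_le n23 n24)).trans
      (Nat.mul_le_mul c2 ((card_sup_le n34).trans (Nat.mul_le_mul c3 c4))))).trans (le_of_eq ?_)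
    rw [(T).card_U1 fun a => e6_card_par φ hφ hqφ (le_of_lt hq2) hK a,
      show half chevE6 = 36 by decide +kernel, ← e6_all_olen, hps]
    simp only [e6All, List.map_append, List.prod_append, hpar, mul_assoc]
  refine pow_index_eq_one E P ?_ ?_ hcard hz hzd
  · have hU : (T).U1 = Ug T e6Mu' 1 := (inf_eq_left.2 fun g hgU =>
      posUnipotent_le_LV (T).hF hg hC hgU.1).symm
    rw [hU, Ug_eq_closure T hC R hg (fun r => R.grade r), Subgroup.closure_le]
    rintro _ ⟨r, t, hr, -, ht, rfl⟩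
    obtain ⟨s, hs, he⟩ := e6_all_cover r hr
    have hcov : ∀ {L : Lvl chevE6} {c d : Fin chevE6.rank → Kˣ}, LvlFacts T σ L c d →
        s ∈ L.top :: L.qs → lvlLift σ L c d ≤ P → Y T r t ∈ P.map (im σ) := by
      intro L c d hL hsL hP
      refine Subgroup.map_mono hP (Ug_le_map R E hg hC hL ?_)
      obtain ⟨hp, hm⟩ := hL.root_mem hsL
      have hm' : (L.d : ℤ) ≤ gradeR chevE6 L.nu (r : ℕ) := by
        rcases he with rfl | rfl
        · exact hm
        · exact le_of_le_of_eq hm (hL.inv s).symm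
      exact YSet_subset T hC R hg hL.inv ⟨r, t, hr, hm', ht, rfl⟩
    simp only [e6All, List.mem_append] at hs
    rcases hs with ((hs | hs) | hs) | hs
    · exact hcov H1 hs le_sup_left
    · exact hcov H2 hs (le_sup_left.trans le_sup_right)
    · exact hcov H3 hs ((le_sup_left.trans le_sup_right).trans le_sup_right)
    · exact hcov H4 hs ((le_sup_right.trans le_sup_right).trans le_sup_right)
  · rw [Subgroup.map_le_iff_le_comap]
    have hle : ∀ {L : Lvl chevE6} {c d : Fin chevE6.rank → Kˣ}, LvlFacts T σ L c d →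
        lvlLift σ L c d ≤ ((T).U1).comap (im σ) := fun hL g hgV =>
      (lvlLift_le R E hC hL hgV).1
    exact sup_le (hle H1) (sup_le (hle H2) (sup_le (hle H3) (hle H4)))

/-- The kernel has order prime to the characteristic. -/
theorem e6_coprime {p : ℕ} [hp : Fact p.Prime] {n : ℕ} (hn : n ≠ 0) (hq : q = p ^ n)
    (hker : σ.ker ≤ commutator Γ) : (Nat.card σ.ker).Coprime p := by
  classical
  rw [Nat.coprime_comm, hp.out.coprime_iff_not_dvd]
  intro h
  obtain ⟨⟨z, hz⟩, ho⟩ := exists_prime_orderOf_dvd_card' p h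
  rw [Subgroup.orderOf_mk] at ho
  have h1 := orderOf_dvd_of_pow_eq_one (e6_pow_index φ hφ E hqφ hq2 hK hz (hker hz))
  rw [ho] at h1
  have hG := e6_card_G1 φ hφ hqφ (le_of_lt hq2) hK
  have h2 := Subgroup.card_mul_index ((T).U1.subgroupOf (T).G1)
  rw [Nat.card_congr (Subgroup.subgroupOfEquivOfLe (T).U1_le_G1).toEquiv,
    (T).card_U1 fun a => e6_card_par φ hφ hqφ (le_of_lt hq2) hK a,
    show half chevE6 = 36 by decide +kernel] at h2
  set N := ((T).U1.subgroupOf (T).G1).index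
  rw [← h2] at hG
  have hG' : Nat.gcd 3 (q + 1) * N =
      (q ^ 2 - 1) * (q ^ 5 + 1) * (q ^ 6 - 1) * (q ^ 8 - 1) * (q ^ 9 + 1) * (q ^ 12 - 1) := by
    refine Nat.eq_of_mul_eq_mul_left (pow_pos (show 0 < q by omega) 36) ?_
    rw [← mul_assoc, mul_comm (q ^ 36), mul_assoc, hG]
    ring
  have hd : ((Nat.gcd 3 (q + 1) * N : ℕ) : ZMod p) = 0 := by
    rw [ZMod.natCast_eq_zero_iff]; exact Dvd.dvd.mul_left h1 _
  rw [hG'] at hd
  have hq0 : (q : ZMod p) = 0 := by rw [hq, Nat.cast_pow, ZMod.natCast_self, zero_pow hn]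
  have hge : ∀ k, 1 ≤ q ^ k := fun k => Nat.one_le_pow _ _ (by omega)
  simp [Nat.cast_sub (hge 2), Nat.cast_sub (hge 6), Nat.cast_sub (hge 8), Nat.cast_sub (hge 12),
    hq0] at hd

end Cfsg.Agent.Chev.TwMult
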