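import Cfsg.Agent.Chev.TwistMult.Coprime
import Cfsg.Agent.Chev.Twist.Common
import Cfsg.Agent.Chev.Twist.Group
import Cfsg.Agent.Chev.UnipotentCount
import Mathlib.GroupTheory.NoncommPiCoprod
import Mathlib.Algebra.Field.Subfield.Basic

/-!
Lifts of rank one subgroups and of the torus of a twisted group in a central extension with kernel
prime to the characteristic.
-/

set_option autoImplicit false

namespace Cfsg.Agent.Chev

open Cfsg.Lie Matrix
open scoped MatrixGroups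

universe u v

namespace CoExt

variable {F : Type u} [Field F]

/-- The upper unitriangular element. -/
abbrev up (t : F) : SL(2, F) := SL2Data.upper t

/-- The lower unitriangular element. -/
def lo (t : F) : SL(2, F) := ⟨!![1, 0; t, 1], by simp [det_fin_two]⟩

/-- The diagonal element. -/
noncomputable def dgE (u : Fˣ) : SL(2, F) :=
  ⟨!![(u : F), 0; 0, (u : F)⁻¹], by simp [det_fin_two]⟩

/-- The diagonal torus. -/
noncomputable def dg : Fˣ →* SL(2, F) :=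
  MonoidHom.mk' dgE fun u v => Subtype.ext (by
    show (dgE (u * v)).1 = (dgE u).1 * (dgE v).1
    ext i j; fin_cases i <;> fin_cases j <;>
      simp [dgE, Matrix.mul_apply, Fin.sum_univ_two, mul_comm])

theorem dg_val (u : Fˣ) : (dg u).1 = !![(u : F), 0; 0, (u : F)⁻¹] := rfl

/-- The monomial element of a scalar. -/
def nn2 (u : Fˣ) : SL(2, F) := up (u : F) * lo (-(u : F)⁻¹) * up (u : F)

theorem nn2_eq (u : Fˣ) : nn2 u = dg u * SL2Data.weyl := by
  apply Subtype.ext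
  show (up (u : F)).1 * (lo (-(u : F)⁻¹)).1 * (up (u : F)).1 = (dg u).1 * (SL2Data.weyl (F := F)).1
  ext i j
  fin_cases i <;> fin_cases j <;>
    simp [up, lo, dg_val, SL2Data.upper, SL2Data.weyl, Matrix.mul_apply, Fin.sum_univ_two]

theorem weyl_eq : (SL2Data.weyl : SL(2, F)) = nn2 1 := by rw [nn2_eq, map_one, one_mul]

theorem dg_eq (u : Fˣ) : dg u = nn2 u * (nn2 (1 : Fˣ))⁻¹ := by
  rw [← weyl_eq, nn2_eq, mul_inv_cancel_right]

theorem weyl_sq : (SL2Data.weyl : SL(2, F)) * SL2Data.weyl = dg (-1) := by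
  apply Subtype.ext
  show (SL2Data.weyl (F := F)).1 * (SL2Data.weyl (F := F)).1 = (dg (-1 : Fˣ)).1
  ext i j
  fin_cases i <;> fin_cases j <;>
    simp [dg_val, SL2Data.weyl, Matrix.mul_apply, Fin.sum_univ_two]

theorem weyl_up (t : F) : SL2Data.weyl * up t = lo (-t) * SL2Data.weyl := by
  apply Subtype.ext
  show (SL2Data.weyl (F := F)).1 * (up t).1 = (lo (-t)).1 * (SL2Data.weyl (F := F)).1
  ext i j
  fin_cases i <;> fin_cases j <;>
    simp [up, lo, SL2Data.upper, SL2Data.weyl, Matrix.mul_apply, Fin.sum_univ_two]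

theorem rank_one (u : Fˣ) : SL2Data.weyl * up (u : F) =
    up (-(u : F)⁻¹) * dg u⁻¹ * SL2Data.weyl * up (-(u : F)⁻¹) * SL2Data.weyl := by
  rw [weyl_up]
  congr 1
  apply Subtype.ext
  show (lo (-(u : F))).1 = (up (-(u : F)⁻¹)).1 * (dg u⁻¹).1 * (SL2Data.weyl (F := F)).1 *
    (up (-(u : F)⁻¹)).1
  ext i j
  fin_cases i <;> fin_cases j <;>
    simp [up, lo, dg_val, SL2Data.upper, SL2Data.weyl, Matrix.mul_apply, Fin.sum_univ_two]

theorem up_pow (p : ℕ) [CharP F p] (t : F) : up t ^ p = 1 := by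
  have h : ∀ n : ℕ, up t ^ n = up ((n : F) * t) := by
    intro n
    induction n with
    | zero =>
      rw [pow_zero]
      ext i j; fin_cases i <;> fin_cases j <;> simp [up, SL2Data.upper]
    | succ n ih =>
      rw [pow_succ, ih]
      apply Subtype.ext
      change (up ((n : F) * t)).1 * (up t).1 = _
      ext i j
      fin_cases i <;> fin_cases j <;>
        simp [up, SL2Data.upper, Matrix.mul_apply, Fin.sum_univ_two] <;> ring
  rw [h, CharP.cast_eq_zero, zero_mul]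
  ext i j; fin_cases i <;> fin_cases j <;> simp [up, SL2Data.upper]

theorem lo_pow (p : ℕ) [CharP F p] (t : F) : lo t ^ p = 1 := by
  have e : lo t = SL2Data.weyl * up (-t) * (SL2Data.weyl : SL(2, F))⁻¹ := by
    rw [weyl_up, neg_neg, mul_inv_cancel_right]
  rw [e, conj_pow, up_pow p, mul_one, mul_inv_cancel]

theorem eq_up_dg (g : SL(2, F)) (hc : g.1 1 0 = 0) (ha : g.1 0 0 ≠ 0) :
    g = up (g.1 0 0 * g.1 0 1) * dg (Units.mk0 (g.1 0 0) ha) := by
  have hd : g.1 0 0 * g.1 1 1 - g.1 0 1 * g.1 1 0 = 1 := by rw [← det_fin_two]; exact g.2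
  have hd' : g.1 1 1 = (g.1 0 0)⁻¹ :=
    eq_inv_of_mul_eq_one_right (by rw [hc] at hd; linear_combination hd)
  apply Subtype.ext
  show g.1 = (up (g.1 0 0 * g.1 0 1)).1 * (dg (Units.mk0 (g.1 0 0) ha)).1
  ext i j
  fin_cases i <;> fin_cases j <;>
    simp [up, dg_val, SL2Data.upper, Matrix.mul_apply, Fin.sum_univ_two, hc, hd'] <;>
    field_simp

theorem eq_cell (g : SL(2, F)) (hc : g.1 1 0 ≠ 0) (hu : -(g.1 1 0)⁻¹ ≠ 0) :
    g = up (g.1 0 0 / g.1 1 0) * (dg (Units.mk0 (-(g.1 1 0)⁻¹) hu) * SL2Data.weyl) *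
      up (g.1 1 1 / g.1 1 0) := by
  have hd : g.1 0 0 * g.1 1 1 - g.1 0 1 * g.1 1 0 = 1 := by rw [← det_fin_two]; exact g.2
  apply Subtype.ext
  show g.1 = (up (g.1 0 0 / g.1 1 0)).1 * ((dg (Units.mk0 (-(g.1 1 0)⁻¹) hu)).1 *
    (SL2Data.weyl (F := F)).1) * (up (g.1 1 1 / g.1 1 0)).1
  ext i j
  fin_cases i <;> fin_cases j <;>
    simp [up, dg_val, SL2Data.upper, SL2Data.weyl, Matrix.mul_apply, Fin.sum_univ_two, inv_neg] <;>
    field_simp <;> first
      | ring1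
      | linear_combination hd
      | linear_combination -hd
      | linear_combination (-1 : F) * hd
      | linear_combination (1 : F) * hd

end CoExt

namespace Twist

variable {D : ChevalleyDatum} {F : Type u} [Field F] (T : Twist D F)

/-- The field of an orbit. -/
abbrev Fa (a : Fin T.m) : Subfield F := RingHom.eqLocusField (T.φ ^ T.len a) (RingHom.id F)

theorem par_Fa {a : Fin T.m} (t : ↥(T.Fa a)) : T.Par a (t : F) := t.2

/-- A scalar of an orbit as a scalar of the ambient field. -/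
def incl (a : Fin T.m) : (↥(T.Fa a))ˣ →* Fˣ := Units.map (T.Fa a).subtype.toMonoidHom

theorem incl_val (a : Fin T.m) (u : (↥(T.Fa a))ˣ) :
    (T.incl a u : F) = ((u : ↥(T.Fa a)) : F) := rfl

theorem par_incl (a : Fin T.m) (u : (↥(T.Fa a))ˣ) : T.Par a (T.incl a u : F) :=
  T.par_Fa (u : ↥(T.Fa a))

theorem hv_mul (a : Fin T.m) (u v : Fˣ) : T.hv a (u * v) = T.hv a u * T.hv a v := by
  funext i
  rw [Pi.mul_apply]
  by_cases h : ∃ j < T.len a, T.node a j = i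
  · obtain ⟨j, hj, rfl⟩ := h
    rw [T.hv_node a _ hj, T.hv_node a _ hj, T.hv_node a _ hj, map_mul]
  · push Not at h
    rw [T.hv_other _ h, T.hv_other _ h, T.hv_other _ h, mul_one]

/-- The torus of an orbit. -/
noncomputable def hF1 (a : Fin T.m) : (↥(T.Fa a))ˣ →* ↥T.cfix :=
  MonoidHom.mk' (fun u => ⟨T.hv a (T.incl a u), T.hv_mem (T.par_incl a u)⟩)
    fun u v => Subtype.ext ((congrArg (T.hv a) (map_mul (T.incl a) u v)).trans (T.hv_mul a _ _))

theorem hF1_val (a : Fin T.m) (u : (↥(T.Fa a))ˣ) :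
    (T.hF1 a u : Fin D.rank → Fˣ) = T.hv a (T.incl a u) := rfl

theorem chiU_rt_false (c : Fin D.rank → Fˣ) (a : Fin T.m) :
    chiU c (T.rt false a 0) = (chiU c (T.rt true a 0))⁻¹ :=
  chiU_neg T.hF c (T.rt true a 0).2

theorem y_mem_false {a : Fin T.m} {t : F} (ht : T.Par a t) : T.y false a t ∈ T.G1 :=
  T.y_mem_G1 ht false

/-- The rank one relations of an orbit. -/
noncomputable def sl2 (a : Fin T.m) : SL2Data ↥(T.Fa a) ↥T.G1 where
  X t := ⟨T.y true a (t : F), T.y_mem_G1 (T.par_Fa t) true⟩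
  Y t := ⟨T.y false a (t : F), T.y_mem_false (T.par_Fa t)⟩
  H := MonoidHom.mk' (fun u => ⟨torusHom (T.hF1 a u : Fin D.rank → Fˣ),
      T.T1_le_G1 ⟨_, (T.hF1 a u).2, rfl⟩⟩)
    fun u v => Subtype.ext (by rw [map_mul]; exact map_mul torusHom _ _)
  X_add s t := Subtype.ext (by rw [Subgroup.coe_mul]; exact T.y_mul true a _ _)
  Y_add s t := Subtype.ext (by rw [Subgroup.coe_mul]; exact T.y_mul false a _ _)
  H_X u t := Subtype.ext (by
    show torusHom (T.hv a (T.incl a u)) * T.y true a (t : F) =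
      T.y true a (((u : ↥(T.Fa a)) : F) ^ 2 * (t : F)) * torusHom (T.hv a (T.incl a u))
    rw [← mul_inv_eq_iff_eq_mul, T.torus_conj_y (T.hv_mem (T.par_incl a u)), T.chiU_hv]
    rfl)
  H_def u := Subtype.ext (by
    have h1 : T.nn a (T.incl a u : F) = T.y true a ((u : ↥(T.Fa a)) : F) *
        T.y false a (-((u : ↥(T.Fa a)) : F)⁻¹) * T.y true a ((u : ↥(T.Fa a)) : F) := rfl
    have h2 : T.nn a (-1) = T.y true a (-1 : F) * T.y false a 1 * T.y true a (-1 : F) := by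
      rw [nn, inv_neg, inv_one, neg_neg]
    show torusHom (T.hv a (T.incl a u)) = T.y true a ((u : ↥(T.Fa a)) : F) *
        T.y false a (-((u : ↥(T.Fa a)) : F)⁻¹) * T.y true a ((u : ↥(T.Fa a)) : F) *
        (T.y true a (-1 : F) * T.y false a 1 * T.y true a (-1 : F))
    rw [← h1, ← h2, T.nn_neg, T.nn_one, T.nn_torus, mul_inv_cancel_right])
  W_X t := Subtype.ext (by
    show T.y true a (1 : F) * T.y false a (-1) * T.y true a 1 * T.y true a (t : F) =
      T.y false a (-(t : F)) * (T.y true a (1 : F) * T.y false a (-1) * T.y true a 1)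
    have h : T.y true a (1 : F) * T.y false a (-1) * T.y true a 1 = T.nA a := by
      rw [← T.nn_one, nn, inv_one]
    rw [h, ← mul_inv_eq_iff_eq_mul]
    exact T.nA_conj_y a _)

theorem sl2_up (a : Fin T.m) (t : ↥(T.Fa a)) :
    ((T.sl2 a).hom (CoExt.up t) : GL D.Idx F) = T.y true a (t : F) :=
  congrArg Subtype.val ((T.sl2 a).hom_upper _ t rfl)

theorem sl2_lo (a : Fin T.m) (t : ↥(T.Fa a)) :
    ((T.sl2 a).hom (CoExt.lo t) : GL D.Idx F) = T.y false a (t : F) :=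
  congrArg Subtype.val ((T.sl2 a).hom_lower _ t rfl)

theorem sl2_nn (a : Fin T.m) (u : (↥(T.Fa a))ˣ) :
    ((T.sl2 a).hom (CoExt.nn2 u) : GL D.Idx F) = T.nn a (T.incl a u : F) := by
  rw [CoExt.nn2, map_mul, map_mul, Subgroup.coe_mul, Subgroup.coe_mul, T.sl2_up, T.sl2_lo]
  rfl

theorem sl2_weyl (a : Fin T.m) :
    ((T.sl2 a).hom SL2Data.weyl : GL D.Idx F) = T.nA a := by
  rw [CoExt.weyl_eq, T.sl2_nn, map_one, Units.val_one, T.nn_one]

theorem sl2_dg (a : Fin T.m) (u : (↥(T.Fa a))ˣ) :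
    ((T.sl2 a).hom (CoExt.dg u) : GL D.Idx F) = torusHom (T.hv a (T.incl a u)) := by
  rw [CoExt.dg_eq, map_mul, map_inv, Subgroup.coe_mul, InvMemClass.coe_inv, T.sl2_nn, T.sl2_nn,
    map_one, T.nn_torus, Units.val_one, T.nn_one, mul_inv_cancel_right]

/-- An element of the kernel of a rank one map is diagonal. -/
theorem sl2_ker {a : Fin T.m} {g : SL(2, ↥(T.Fa a))} (hg : (T.sl2 a).hom g = 1) :
    ∃ u, g = CoExt.dg u := by
  have hd : g.1 0 0 * g.1 1 1 - g.1 0 1 * g.1 1 0 = 1 := by rw [← det_fin_two]; exact g.2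
  by_cases hc : g.1 1 0 = 0
  · have ha : g.1 0 0 ≠ 0 := by rintro h; rw [h, hc] at hd; simp at hd
    have e : g = CoExt.up (g.1 0 0 * g.1 0 1) * CoExt.dg (Units.mk0 _ ha) :=
      CoExt.eq_up_dg g hc ha
    have h1 := congrArg Subtype.val hg
    rw [e, map_mul, Subgroup.coe_mul, T.sl2_up, T.sl2_dg, Subgroup.coe_one] at h1
    have hy : T.y true a ((g.1 0 0 * g.1 0 1 : ↥(T.Fa a)) : F) = 1 :=
      Subgroup.mem_bot.1 ((posUnipotent_inf_diagonal T.hF).le
        ⟨(T.y_mem_U1 (T.par_Fa _)).1, by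
          rw [eq_inv_of_mul_eq_one_left h1]
          exact Subgroup.inv_mem _ (torusHom_mem T.hF _)⟩)
    have h0 : g.1 0 0 * g.1 0 1 = 0 := Subtype.ext (T.y_injective (hy.trans (T.y_zero true a).symm))
    refine ⟨Units.mk0 _ ha, e.trans ?_⟩
    rw [h0, show CoExt.up (0 : ↥(T.Fa a)) = 1 by
      ext i j; fin_cases i <;> fin_cases j <;> simp [CoExt.up, SL2Data.upper], one_mul]
  · exfalso
    set c := g.1 1 0
    have hu : -c⁻¹ ≠ 0 := neg_ne_zero.2 (inv_ne_zero hc)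
    have e : g = CoExt.up (g.1 0 0 / c) * (CoExt.dg (Units.mk0 _ hu) * SL2Data.weyl) *
        CoExt.up (g.1 1 1 / c) := CoExt.eq_cell g hc hu
    have h1 := congrArg Subtype.val hg
    rw [e] at h1
    simp only [map_mul, Subgroup.coe_mul, T.sl2_up, T.sl2_dg, T.sl2_weyl, Subgroup.coe_one] at h1
    set Y1 := T.y true a ((g.1 0 0 / c : ↥(T.Fa a)) : F)
    set Y2 := T.y true a ((g.1 1 1 / c : ↥(T.Fa a)) : F)
    set hh := torusHom (D := D) (T.hv a (T.incl a (Units.mk0 _ hu)))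
    have hn : T.nA a ∈ D.borelSubgroup F := by
      rw [show T.nA a = hh⁻¹ * Y1⁻¹ * (Y1 * (hh * T.nA a) * Y2) * Y2⁻¹ by group, h1, mul_one]
      exact Subgroup.mul_mem _ (Subgroup.mul_mem _
        (Subgroup.inv_mem _ (Subgroup.mem_sup_right (torusHom_mem T.hF _)))
        (Subgroup.inv_mem _ (Subgroup.mem_sup_left (T.y_mem_U1 (T.par_Fa _)).1)))
        (Subgroup.inv_mem _ (Subgroup.mem_sup_left (T.y_mem_U1 (T.par_Fa _)).1))
    have hdg := (borel_inf_monomial T.hF (F := F)).le ⟨hn, T.N1_le_monomial (T.nA_mem_N1 a)⟩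
    have h2 := isMon_unique T.hF (T.isMon_nA a) (T.T1_isMon (T.N1_diagonal (T.nA_mem_N1 a) hdg))
    have h3 := congrArg Fin.val (Equiv.congr_fun h2 (sRoot T.hF (T.node a 0)))
    rw [T.wA_node, Equiv.Perm.one_apply] at h3
    have h4 := T.hF.simple_pos _ (T.node a 0).2
    have h5 := (neg_lt_half_iff T.hF (sRoot T.hF (T.node a 0)).2).2 h4
    exact absurd h4 (not_le.2 (h3 ▸ h5 : (sRoot T.hF (T.node a 0) : ℕ) < half D))

end Twist

/-- A central extension of a twisted group with kernel prime to the characteristic. -/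
structure CoTwist {D : ChevalleyDatum} {F : Type u} [Field F] (T : Twist D F) (p : ℕ)
    {Γ : Type v} [Group Γ] (σ : Γ →* ↥T.G1) : Prop where
  ok : CoExt.Ok p σ
  char : CharP F p
  prime : p.Prime

namespace CoTwist

open CoExt

variable {D : ChevalleyDatum} {F : Type u} [Field F] [Fintype F] {T : Twist D F} {p : ℕ}
  {Γ : Type v} [Group Γ] {σ : Γ →* ↥T.G1}

/-- The map into the matrices. -/
def im (σ : Γ →* ↥T.G1) : Γ →* GL D.Idx F := T.G1.subtype.comp σ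

open scoped _root_.Classical in
/-- The lift of a `p`-element. -/
noncomputable def L (p : ℕ) (σ : Γ →* ↥T.G1) (g : GL D.Idx F) : Γ :=
  if h : g ∈ T.G1 then CoExt.lft p σ ⟨g, h⟩ else 1

theorem L_def {g : GL D.Idx F} (h : g ∈ T.G1) : L p σ g = CoExt.lft p σ ⟨g, h⟩ := dif_pos h

variable [Finite Γ] (C : CoTwist T p σ)
include C

omit [Finite Γ] in
theorem isPE_U1 {g : GL D.Idx F} (hg : g ∈ T.U1) :
    CoExt.PE p (⟨g, T.U1_le_G1 hg⟩ : ↥T.G1) := by
  haveI := C.char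
  haveI := Fact.mk C.prime
  obtain ⟨k, hk⟩ := isPE_posUnipotent T.hF p hg.1
  exact ⟨k, Subtype.ext hk⟩

theorem im_L {g : GL D.Idx F} (hg : g ∈ T.U1) : im σ (L p σ g) = g := by
  rw [L_def (T.U1_le_G1 hg)]
  exact congrArg Subtype.val (C.ok.σ_lft (C.isPE_U1 hg)).1

omit [Finite Γ] in
theorem L_one : L p σ 1 = 1 := by
  rw [L_def (Subgroup.one_mem _)]; exact C.ok.lft_one

theorem L_mul {g g' : GL D.Idx F} (hg : g ∈ T.U1) (hg' : g' ∈ T.U1) :
    L p σ (g * g') = L p σ g * L p σ g' := by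
  haveI := C.char
  haveI := Fact.mk C.prime
  rw [L_def (T.U1_le_G1 (mul_mem hg hg')), L_def (T.U1_le_G1 hg), L_def (T.U1_le_G1 hg')]
  exact C.ok.lft_mul (H := T.U1.subgroupOf T.G1) (a := ⟨g, T.U1_le_G1 hg⟩)
    (b := ⟨g', T.U1_le_G1 hg'⟩)
    (IsPGroup.of_equiv (((isPGroup_posUnipotent T.hF p).to_le inf_le_left))
      (Subgroup.subgroupOfEquivOfLe T.U1_le_G1).symm) hg hg'

theorem L_inv {g : GL D.Idx F} (hg : g ∈ T.U1) : L p σ g⁻¹ = (L p σ g)⁻¹ := by
  refine (inv_eq_of_mul_eq_one_right ?_).symm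
  rw [← C.L_mul hg (inv_mem hg), mul_inv_cancel, C.L_one]

theorem L_conj (γ : Γ) {g : GL D.Idx F} (hg : g ∈ T.U1) :
    γ * L p σ g * γ⁻¹ = L p σ (im σ γ * g * (im σ γ)⁻¹) := by
  have hG : im σ γ * g * (im σ γ)⁻¹ ∈ T.G1 :=
    mul_mem (mul_mem (σ γ).2 (T.U1_le_G1 hg)) (inv_mem (σ γ).2)
  rw [L_def (T.U1_le_G1 hg), L_def hG, C.ok.lft_conj γ (C.isPE_U1 hg)]
  rfl

omit [Finite Γ] [Fintype F] in
theorem ringChar_Fa (a : Fin T.m) : ringChar ↥(T.Fa a) = p := by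
  haveI := C.char
  haveI := RingHom.charP (T.Fa a).subtype Subtype.val_injective p
  exact ringChar.eq _ p

theorem exists_Φ (a : Fin T.m) :
    ∃ Φ : SL(2, ↥(T.Fa a)) →* Γ, σ.comp Φ = (T.sl2 a).hom := by
  classical
  haveI : Fintype ↥(T.Fa a) := Fintype.ofFinite _
  exact Ok.exists_sl2_lift (C.ringChar_Fa a ▸ C.ok) _

/-- The lift of a rank one group. -/
noncomputable def Φ (a : Fin T.m) : SL(2, ↥(T.Fa a)) →* Γ := (C.exists_Φ a).choose

theorem im_Φ (a : Fin T.m) (g : SL(2, ↥(T.Fa a))) :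
    im σ (C.Φ a g) = ((T.sl2 a).hom g : GL D.Idx F) :=
  congrArg Subtype.val (DFunLike.congr_fun (C.exists_Φ a).choose_spec g)

theorem Φ_lift (a : Fin T.m) {g : SL(2, ↥(T.Fa a))} (hg : g ^ p = 1) :
    C.Φ a g = L p σ (im σ (C.Φ a g)) := by
  exact ((L_def (p := p) (σ := σ) (g := im σ (C.Φ a g)) (σ (C.Φ a g)).2).trans
    (C.ok.lft_eq rfl ⟨1, by rw [pow_one, ← map_pow, hg, map_one]⟩)).symm

theorem Φ_up (a : Fin T.m) (t : ↥(T.Fa a)) : C.Φ a (up t) = L p σ (T.y true a (t : F)) := by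
  haveI := C.char
  haveI := RingHom.charP (T.Fa a).subtype Subtype.val_injective p
  rw [C.Φ_lift a (up_pow p t), C.im_Φ, T.sl2_up]

theorem Φ_lo (a : Fin T.m) (t : ↥(T.Fa a)) : C.Φ a (lo t) = L p σ (T.y false a (t : F)) := by
  haveI := C.char
  haveI := RingHom.charP (T.Fa a).subtype Subtype.val_injective p
  rw [C.Φ_lift a (lo_pow p t), C.im_Φ, T.sl2_lo]

theorem Φ_conj (a : Fin T.m) {γ : Γ} {g g' : SL(2, ↥(T.Fa a))} (hg : g ^ p = 1) (hg' : g' ^ p = 1)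
    (e : im σ γ * ((T.sl2 a).hom g : GL D.Idx F) * (im σ γ)⁻¹ = ((T.sl2 a).hom g' : GL D.Idx F)) :
    γ * C.Φ a g * γ⁻¹ = C.Φ a g' := by
  refine C.ok.eq_of (Subtype.ext ?_) (PE.conj (⟨1, by rw [pow_one, ← map_pow, hg, map_one]⟩ :
    PE p (C.Φ a g)) γ) ⟨1, by rw [pow_one, ← map_pow, hg', map_one]⟩
  show im σ (γ * C.Φ a g * γ⁻¹) = im σ (C.Φ a g')
  rw [map_mul, map_mul, map_inv, C.im_Φ, C.im_Φ, e]

/-- The lift of a fundamental element. -/
noncomputable def sL (a : Fin T.m) : Γ := C.Φ a SL2Data.weyl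

theorem im_sL (a : Fin T.m) : im σ (C.sL a) = T.nA a := by rw [sL, C.im_Φ, T.sl2_weyl]

/-- The lift of the torus of an orbit. -/
noncomputable def tA (a : Fin T.m) : (↥(T.Fa a))ˣ →* Γ := (C.Φ a).comp dg

theorem im_tA (a : Fin T.m) (u : (↥(T.Fa a))ˣ) :
    im σ (C.tA a u) = torusHom (T.hv a (T.incl a u)) := by
  rw [tA, MonoidHom.comp_apply, C.im_Φ, T.sl2_dg]

/-- An element over the torus rescales the fundamental elements. -/
theorem conj_nn {γ : Γ} (hγ : im σ γ ∈ T.T1) (a : Fin T.m) :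
    ∃ x : (↥(T.Fa a))ˣ, ∀ u, γ * C.Φ a (nn2 u) * γ⁻¹ = C.Φ a (nn2 (x * u)) := by
  haveI := C.char
  haveI := RingHom.charP (T.Fa a).subtype Subtype.val_injective p
  obtain ⟨c, hc, e⟩ := hγ
  set χ : ↥(T.Fa a) := ⟨(chiU c (T.rt true a 0) : F), T.par_chiU hc true a⟩
  have hχ : χ ≠ 0 := fun h => Units.ne_zero _ (congrArg Subtype.val h)
  refine ⟨Units.mk0 χ hχ, fun u => ?_⟩
  have hu : ∀ t : ↥(T.Fa a), γ * C.Φ a (up t) * γ⁻¹ = C.Φ a (up (χ * t)) := fun t =>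
    C.Φ_conj a (up_pow p t) (up_pow p _) (by
      rw [T.sl2_up, T.sl2_up, ← e, T.torus_conj_y hc]; rfl)
  have hl : ∀ t : ↥(T.Fa a), γ * C.Φ a (lo t) * γ⁻¹ = C.Φ a (lo (χ⁻¹ * t)) := fun t =>
    C.Φ_conj a (lo_pow p t) (lo_pow p _) (by
      rw [T.sl2_lo, T.sl2_lo, ← e, T.torus_conj_y hc, T.chiU_rt_false, Units.val_inv_eq_inv_val]
      rfl)
  simp only [nn2, map_mul]
  rw [_root_.conj_mul.symm, _root_.conj_mul.symm, hu, hl, Units.val_mul, Units.val_mk0]
  congr 3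
  rw [mul_inv, mul_neg]

theorem conj_tA {γ : Γ} (hγ : im σ γ ∈ T.T1) (a : Fin T.m) (u : (↥(T.Fa a))ˣ) :
    γ * C.tA a u * γ⁻¹ = C.tA a u := by
  obtain ⟨x, hx⟩ := C.conj_nn hγ a
  have e : ∀ v, C.tA a v = C.Φ a (nn2 v) * (C.Φ a (nn2 1))⁻¹ := fun v => by
    rw [tA, MonoidHom.comp_apply, dg_eq, map_mul, map_inv]
  have e' : ∀ v, C.Φ a (nn2 v) = C.tA a v * C.sL a := fun v => by
    rw [nn2_eq, map_mul]; rfl
  calc γ * C.tA a u * γ⁻¹
      = (γ * C.Φ a (nn2 u) * γ⁻¹) * (γ * C.Φ a (nn2 1) * γ⁻¹)⁻¹ := by rw [e]; group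
    _ = C.tA a (x * u) * (C.tA a x)⁻¹ := by rw [hx, hx, mul_one, e', e']; group
    _ = _ := by rw [← map_inv, ← map_mul, mul_comm x, mul_inv_cancel_right]

theorem conj_sL {γ : Γ} (hγ : im σ γ ∈ T.T1) (a : Fin T.m) :
    ∃ x, γ * C.sL a * γ⁻¹ = C.tA a x * C.sL a := by
  obtain ⟨x, hx⟩ := C.conj_nn hγ a
  refine ⟨x, ?_⟩
  have := hx 1
  rwa [mul_one, ← weyl_eq, nn2_eq x, map_mul] at this

theorem tA_commute (a b : Fin T.m) (u : (↥(T.Fa a))ˣ) (v : (↥(T.Fa b))ˣ) :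
    Commute (C.tA a u) (C.tA b v) := by
  have h := C.conj_tA (γ := C.tA a u) (by
    rw [C.im_tA]; exact ⟨_, T.hv_mem (T.par_incl a u), rfl⟩) b v
  exact mul_inv_eq_iff_eq_mul.1 h

/-- The lift of the torus. -/
noncomputable def tau : (∀ a : Fin T.m, (↥(T.Fa a))ˣ) →* Γ :=
  MonoidHom.noncommPiCoprod C.tA fun a b _ u v => C.tA_commute a b u v

/-- The parameters of the torus. -/
noncomputable def hAll (T : Twist D F) : (∀ a : Fin T.m, (↥(T.Fa a))ˣ) →* ↥T.cfix :=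
  MonoidHom.noncommPiCoprod T.hF1 fun _ _ _ u v => Commute.all _ _

theorem im_tau (w : ∀ a : Fin T.m, (↥(T.Fa a))ˣ) :
    im σ (C.tau w) = torusHom ((hAll T w : ↥T.cfix) : Fin D.rank → Fˣ) := by
  refine DFunLike.congr_fun (MonoidHom.pi_ext fun a u => ?_ :
    (im σ).comp C.tau = torusHom.comp (T.cfix.subtype.comp (hAll T))) w
  simp only [MonoidHom.comp_apply, tau, hAll]
  erw [MonoidHom.noncommPiCoprod_mulSingle, MonoidHom.noncommPiCoprod_mulSingle, C.im_tA]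
  rfl

theorem im_tau_mem (w : ∀ a : Fin T.m, (↥(T.Fa a))ˣ) : im σ (C.tau w) ∈ T.T1 := by
  rw [C.im_tau]; exact ⟨_, (hAll T w).2, rfl⟩

omit [Fintype F] [Finite Γ] C in
theorem hAll_injective : Function.Injective (hAll T) := by
  classical
  intro w w' e
  have hc : ∀ (x : ∀ a : Fin T.m, (↥(T.Fa a))ˣ) (b : Fin T.m),
      ((hAll T x : ↥T.cfix) : Fin D.rank → Fˣ) (T.node b 0) =
        Units.map (T.φ ^ 0).toMonoidHom (T.incl b (x b)) := by
    intro x b
    have e : hAll T x = ∏ a, T.hF1 a (x a) := by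
      conv_lhs => rw [← Finset.univ_prod_mulSingle x, map_prod]
      exact Finset.prod_congr rfl fun a _ => MonoidHom.noncommPiCoprod_mulSingle ..
    rw [e, SubmonoidClass.coe_finsetProd, Finset.prod_apply, Finset.prod_eq_single b, T.hF1_val,
      T.hv_node b _ (T.hO.len_pos b)]
    · intro a _ hab
      rw [T.hF1_val]
      exact T.hv_other _ fun j hj e => hab (T.node_inj hj (T.hO.len_pos b) e).1
    · exact fun h' => absurd (Finset.mem_univ _) h'
  funext b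
  have h3 := hc w b
  rw [e, hc w' b] at h3
  exact Units.ext (Subtype.ext (congrArg Units.val h3).symm)

theorem tau_injective (hinj : ∀ c ∈ T.cfix, (torusHom c : GL D.Idx F) = 1 → c = 1)
    {w : ∀ a : Fin T.m, (↥(T.Fa a))ˣ} (h : im σ (C.tau w) = 1) : w = 1 := by
  rw [C.im_tau] at h
  refine hAll_injective (T := T) (Subtype.ext ?_)
  rw [map_one]
  exact hinj _ (hAll T w).2 h

theorem tA_mem (a : Fin T.m) (u : (↥(T.Fa a))ˣ) : C.tA a u ∈ C.tau.range := by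
  classical
  exact ⟨Pi.mulSingle a u, MonoidHom.noncommPiCoprod_mulSingle ..⟩

end CoTwist

end Cfsg.Agent.Chev
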