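import Cfsg.Agent.Overgroup.Twisted.Orbit

/-!
The fixed unipotent elements raising a second grading are generated by fixed orbit products.
-/

set_option autoImplicit false
set_option linter.unusedSectionVars false

namespace Cfsg.Agent.Chev.TwMult

open Cfsg.Lie Cfsg.Agent.Chev Cfsg.Agent.Overgroup.Twisted
open scoped MatrixGroups

universe u

variable {D : ChevalleyDatum} {F : Type u} [Field F] (T : Twist D F)

/-- A grading invariant under the symmetry. -/
def GradeInv (nu : List (List ℤ)) : Prop :=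
  ∀ r : Fin D.nroots, gradeR D nu (T.ρ r : ℕ) = gradeR D nu (r : ℕ)

theorem GradeInv.iterate {nu : List (List ℤ)} (h : GradeInv T nu) (r : Fin D.nroots) :
    ∀ i : ℕ, gradeR D nu (T.ρ^[i] r : ℕ) = gradeR D nu (r : ℕ)
  | 0 => rfl
  | i + 1 => by rw [Function.iterate_succ_apply', h, GradeInv.iterate h r i]

/-- The fixed unipotent elements raising the grade by `m`. -/
def Ug (nu : List (List ℤ)) (m : ℕ) : Subgroup (GL D.Idx F) := T.U1 ⊓ LV nu m

/-- The fixed orbit products of grade at least `m`. -/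
def YSet (nu : List (List ℤ)) (m : ℕ) : Set (GL D.Idx F) :=
  {x | ∃ (r : Fin D.nroots) (t : F), half D ≤ (r : ℕ) ∧ (m : ℤ) ≤ gradeR D nu r ∧ OPar T r t ∧
    x = Y T r t}

variable {C : Cert} (hC : Checks D C)
include hC

theorem xG_mem_grade {nu : List (List ℤ)} {r : Fin D.nroots} {m : ℕ}
    (hm : (m : ℤ) ≤ gradeR D nu r) (t : F) : xG T.hF r t ∈ LV nu m := by
  have key : ∀ v : F, ∀ a b, gradeI D nu a < gradeI D nu b + m →
      (D.x F r v - 1) a b = 0 := by
    intro v a b hab
    rw [Matrix.sub_apply, sub_eq_zero, Matrix.one_apply]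
    by_contra hne
    obtain ⟨k, hk, e⟩ := entry_grade hC nu ∅ r.2 v hne
    have hG : ∀ c : D.Idx, gradeJ nu ∅ c = gradeI D nu c := fun c => by
      rcases c with c | c <;> simp [gradeJ, gradeI, gradeR]
    rw [hG, hG, hG,
      show gradeI D nu (Sum.inr ⟨(r : ℕ), r.2⟩ : D.Idx) = gradeR D nu r from rfl] at e
    have : (k : ℤ) * gradeR D nu r ≥ gradeR D nu r := le_mul_of_one_le_left
      (by omega) (by exact_mod_cast hk)
    omega
  refine ⟨?_, ?_⟩
  · rw [xG_val]; exact key t
  · rw [xG_inv, xG_val]; exact key (-t)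

theorem Y_mem_grade {nu : List (List ℤ)} (hnu : GradeInv T nu) {r : Fin D.nroots} {m : ℕ}
    (hm : (m : ℤ) ≤ gradeR D nu r) (t : F) : Y T r t ∈ LV nu m :=
  Subgroup.list_prod_mem _ fun x hx => by
    obtain ⟨i, -, rfl⟩ := List.mem_map.1 hx
    exact xG_mem_grade T hC (by rw [hnu.iterate T r i]; exact hm) _

omit hC in
theorem co_of_grade {nu : List (List ℤ)} {v : Fin D.nroots} {m : ℕ}
    (hv : gradeR D nu v < (m : ℤ)) {g : GL D.Idx F} (hg : g ∈ LV nu m) : co T.hF v g = 0 := by
  have := hg.1 (Sum.inl (nd T.hF v (F := F))) (Sum.inr (negF T.hF v)) (by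
    show (0 : ℤ) < gradeR D nu (D.neg v) + m
    rw [gradeR_neg T.hF v.2]
    omega)
  rw [Matrix.sub_apply, Matrix.one_apply_ne (by simp), sub_zero] at this
  rw [co, this, zero_div]

variable {mu : List (List ℤ)} (R : RootFacts D mu T.ρ T.ε T.k) {B : ℕ} (hg : GradeFacts D mu B)
include R hg

theorem YSet_subset {nu : List (List ℤ)} (hnu : GradeInv T nu) {m : ℕ} :
    YSet T nu m ⊆ (Ug T nu m : Set (GL D.Idx F)) := by
  rintro _ ⟨r, t, hr, hm, ht, rfl⟩
  exact ⟨Y_mem_U1 T R hr ht, Y_mem_grade T hC hnu hm t⟩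

/-- Clearing the coordinates of one layer. -/
theorem clear_layer {nu : List (List ℤ)} (hnu : GradeInv T nu) {m k : ℕ}
    (ih : ∀ g ∈ Ug T nu m, g ∈ LV mu (k + 1) → g ∈ Subgroup.closure (YSet T nu m)) :
    ∀ (l : List (Fin D.nroots)), ∀ g ∈ Ug T nu m, g ∈ LV mu k →
      (∀ v : Fin D.nroots, half D ≤ (v : ℕ) → lv D mu v = k → v ∉ l → co T.hF v g = 0) →
      g ∈ Subgroup.closure (YSet T nu m) := by
  intro l
  induction l with
  | nil =>
    exact fun g hgu hgk h => ih g hgu (mem_LV_succ T.hF hg hC hgu.1.1 hgk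
      fun r hr he => h r hr he (by simp))
  | cons r l il =>
    intro g hgu hgk h
    by_cases hc : half D ≤ (r : ℕ) ∧ lv D mu r = k ∧ co T.hF r g ≠ 0
    · obtain ⟨hr, hlv, hne⟩ := hc
      set c := co T.hF r g with hcdef
      have hm : (m : ℤ) ≤ gradeR D nu r :=
        le_of_not_gt fun hlt => hne (co_of_grade T hlt hgu.2)
      have hpar : OPar T r c := opar_co T R hg hC hgu.1.1 hgk hgu.1.2 hr hlv
      have hY : Y T r c ∈ YSet T nu m := ⟨r, c, hr, hm, hpar, rfl⟩
      have hYu := YSet_subset T hC R hg hnu hY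
      have hYk : Y T r c ∈ LV mu k := hlv ▸ Y_mem_LV T R hg hC hr c
      rw [show g = Y T r c * ((Y T r c)⁻¹ * g) by group]
      refine mul_mem (Subgroup.subset_closure hY) (il _ (mul_mem (inv_mem hYu) hgu)
        (mul_mem (inv_mem hYk) hgk) fun v hv he hvl => ?_)
      subst he
      rw [co_mul T.hF hg hv (inv_mem hYk) hgk, co_inv T.hF hg hv hYk, neg_add_eq_zero]
      by_cases ho : ∃ i, v = T.ρ^[i] r
      · obtain ⟨i, rfl⟩ := ho
        rw [co_fx_iterate T R hg hC hYu.1.1 hYk hYu.1.2 hr hlv,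
          co_fx_iterate T R hg hC hgu.1.1 hgk hgu.1.2 hr hlv, co_Y_self T R hg hC hr, hcdef]
      · push Not at ho
        rw [co_Y_other T R hg hC hr hv hlv.symm ho, eq_comm]
        exact h v hv rfl (by
          rw [List.mem_cons, not_or]
          exact ⟨fun e => ho 0 e, hvl⟩)
    · refine il g hgu hgk fun v hv he hvl => ?_
      by_cases e : v = r
      · subst e
        by_contra hne
        exact hc ⟨hv, he, hne⟩
      · exact h v hv he (by rw [List.mem_cons, not_or]; exact ⟨e, hvl⟩)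

/-- The fixed unipotent elements raising the grade are generated by fixed orbit products. -/
theorem Ug_eq_closure {nu : List (List ℤ)} (hnu : GradeInv T nu) (m : ℕ) :
    Ug T nu m = Subgroup.closure (YSet T nu m) := by
  refine le_antisymm (fun g hgu => ?_) ((Subgroup.closure_le _).2 (YSet_subset T hC R hg hnu))
  suffices H : ∀ n k, 2 * B + 1 ≤ k + n → ∀ g ∈ Ug T nu m, g ∈ LV mu k →
      g ∈ Subgroup.closure (YSet T nu m) from
    H (2 * B + 1) 1 (by omega) g hgu (posUnipotent_le_LV T.hF hg hC hgu.1.1)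
  intro n
  induction n with
  | zero =>
    intro k hk g _ hgk
    rw [LV_eq_one hg (m := k) (by omega) hgk]
    exact one_mem _
  | succ n ih =>
    intro k hk g hgu hgk
    exact clear_layer T hC R hg hnu (ih (k + 1) (by omega)) (List.finRange D.nroots) g hgu hgk
      fun v _ _ hv => absurd (List.mem_finRange v) hv

end Cfsg.Agent.Chev.TwMult
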