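import Cfsg.Agent.Chev.TwistMult.RootLift
import Mathlib.GroupTheory.Transfer

/-!
Lifts of the radical of a graded level of a twisted group, and the transfer bound from a lifted
positive unipotent subgroup.
-/

set_option autoImplicit false
set_option maxHeartbeats 1000000
set_option linter.unusedSectionVars false

namespace Cfsg.Agent.Chev.TwMult

open Cfsg.Lie Cfsg.Agent.Chev Cfsg.Agent.Overgroup.Twisted
open Cfsg.Agent.Chev.CoTwist (im)
open scoped MatrixGroups commutatorElement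

universe u v

variable {D : ChevalleyDatum} {F : Type u} [Field F] (T : Twist D F) {Γ : Type v} [Group Γ]
  (σ : Γ →* ↥T.G1)

/-- A torus element moving `r` and fixing `s`. -/
def Sep (r s : Fin D.nroots) : Prop :=
  ∃ c ∈ T.cfix, chi (F := F) c r ≠ 1 ∧ chi (F := F) c s = 1

/-- The data of a level. -/
structure Lvl (D : ChevalleyDatum) where
  /-- the grading -/
  nu : List (List ℤ)
  /-- the grade of the radical -/
  d : ℕ
  /-- the grade of the centre -/
  e : ℕ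
  /-- representatives of the orbits off the centre -/
  qs : List (Fin D.nroots)
  /-- the central root -/
  top : Fin D.nroots
  /-- the roots of the later levels -/
  ls : List (Fin D.nroots)

/-- What is required of a level. -/
structure LvlFacts (L : Lvl D) (cη cθ : Fin D.rank → Fˣ) : Prop where
  inv : GradeInv T L.nu
  de : L.e ≤ 2 * L.d
  ed : L.d ≤ L.e
  top_fixed : T.ρ L.top = L.top
  top_only : ∀ r : Fin D.nroots, half D ≤ (r : ℕ) → (L.e : ℤ) ≤ gradeR D L.nu r → r = L.top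
  top_grade : (L.e : ℤ) ≤ gradeR D L.nu L.top
  top_pos : half D ≤ (L.top : ℕ)
  cover : ∀ r : Fin D.nroots, half D ≤ (r : ℕ) → (L.d : ℤ) ≤ gradeR D L.nu r →
    ∃ s ∈ L.top :: L.qs, ∃ i : ℕ, r = T.ρ^[i] s
  pos : ∀ r ∈ L.qs, half D ≤ (r : ℕ) ∧ (L.d : ℤ) ≤ gradeR D L.nu r
  cη_mem : cη ∈ T.cfix
  cη_move : ∀ r ∈ L.qs, chi cη r ≠ 1
  cθ_mem : cθ ∈ T.cfix
  cθ_move : chi cθ L.top ≠ 1
  sep : ∀ r ∈ L.qs, ∀ s ∈ L.qs, r = s ∨ Sep T r s ∨ Sep T s r
  self : ∀ r ∈ L.top :: L.qs, ComY σ r r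
  top_com : ∀ r ∈ L.qs ++ L.ls, ComY σ L.top r
  ls_pos : ∀ l ∈ L.ls, half D ≤ (l : ℕ) ∧ 0 ≤ gradeR D L.nu l
  ls_fix : ∀ l ∈ L.ls, chi cη l = 1

variable {T σ}

theorem LvlFacts.root_mem {L : Lvl D} {cη cθ : Fin D.rank → Fˣ} (hL : LvlFacts T σ L cη cθ)
    {r : Fin D.nroots} (hr : r ∈ L.top :: L.qs) :
    half D ≤ (r : ℕ) ∧ (L.d : ℤ) ≤ gradeR D L.nu r := by
  rcases List.mem_cons.1 hr with rfl | hr
  · exact ⟨hL.top_pos, le_trans (by exact_mod_cast hL.ed) hL.top_grade⟩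
  · exact hL.pos r hr

section group

theorem le_normalizer_of_conj {G : Type*} [Group G] [Finite G] {H P : Subgroup G}
    (h : ∀ g ∈ P, ∀ x ∈ H, g * x * g⁻¹ ∈ H) : P ≤ Subgroup.normalizer (H : Set G) := by
  intro g hg
  rw [Subgroup.mem_normalizer_iff]
  refine fun x => ⟨h g hg x, fun hx => ?_⟩
  have := h g⁻¹ (inv_mem hg) _ hx
  simpa [mul_assoc] using this

theorem card_sup_le {G : Type*} [Group G] [Finite G] {H P : Subgroup G}
    (h : P ≤ Subgroup.normalizer (H : Set G)) :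
    Nat.card ↥(H ⊔ P) ≤ Nat.card ↥H * Nat.card ↥P := by
  rw [← Nat.card_prod]
  refine Nat.card_le_card_of_surjective
    (fun x : ↥H × ↥P => (⟨(x.1 : G) * x.2, Subgroup.mul_mem_sup x.1.2 x.2.2⟩ : ↥(H ⊔ P))) ?_
  rintro ⟨g, hg⟩
  rw [← SetLike.mem_coe, Subgroup.coe_mul_of_right_le_normalizer_left _ _ h] at hg
  obtain ⟨a, ha, b, hb, e⟩ := hg
  exact ⟨(⟨a, ha⟩, ⟨b, hb⟩), Subtype.ext e⟩

end group

variable {mu : List (List ℤ)} (R : RootFacts D mu T.ρ T.ε T.k) (E : CExt σ)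
include R

theorem Y_orbit_rep (s : Fin D.nroots) (hs : half D ≤ (s : ℕ)) : ∀ (i : ℕ) (t : F),
    OPar T (T.ρ^[i] s) t → ∃ t', OPar T s t' ∧ Y T (T.ρ^[i] s) t = Y T s t' := by
  intro i
  induction i with
  | zero => exact fun t ht => ⟨t, ht, rfl⟩
  | succ i ih =>
    intro t ht
    set r := T.ρ^[i] s with hr
    rw [Function.iterate_succ_apply'] at ht ⊢
    set L := olen T.ρ T.k r
    have hL : 0 < L := olen_pos R r
    have hl : olen T.ρ T.k (T.ρ r) = L := olen_iterate 1 r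
    unfold OPar at ht
    rw [hl] at ht
    set t' := (T.φ ^ (L - 1)) ((T.ε r : F) * t) with ht'
    have hεt : (T.φ ^ L) ((T.ε r : F) * t) = (T.ε r : F) * t := by
      rw [map_mul, map_intCast, ht]
    have h1 : T.φ t' = (T.ε r : F) * t := by
      rw [ht', ← RingHom.comp_apply, ← RingHom.mul_def, ← pow_succ', show L - 1 + 1 = L by omega]
      exact hεt
    have hp : OPar T r t' := by
      show (T.φ ^ L) ((T.φ ^ (L - 1)) ((T.ε r : F) * t)) = t'
      rw [← RingHom.comp_apply, ← RingHom.mul_def, ← pow_add, show L + (L - 1) = L - 1 + L by omega,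
        pow_add, RingHom.mul_def, RingHom.comp_apply, hεt]
    have h2 := Y_shift T R ((pos_iterate T s i).2 hs) hp
    rw [h1, ← mul_assoc, T.hG.cast_sq, one_mul] at h2
    obtain ⟨t'', hp'', e⟩ := ih t' hp
    exact ⟨t'', hp'', h2.trans e⟩

variable {B : ℕ} (hg : GradeFacts D mu B) {C : Cert} (hC : Checks D C)
  {L : Lvl D} {cη cθ : Fin D.rank → Fˣ} (hL : LvlFacts T σ L cη cθ)
include hg hC hL

omit hg hC in
theorem top_yFacts : YFacts T L.top := yFacts_of_pos R hL.top_pos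

theorem exists_top {g : GL D.Idx F} (hgu : g ∈ Ug T L.nu L.e) :
    ∃ x, OPar T L.top x ∧ g = Y T L.top x := by
  have hy := top_yFacts R hL
  rw [Ug_eq_closure T hC R hg hL.inv] at hgu
  induction hgu using Subgroup.closure_induction with
  | mem x hx =>
    obtain ⟨r, t, hr, hm, ht, rfl⟩ := hx
    obtain rfl := hL.top_only r hr hm
    exact ⟨t, ht, rfl⟩
  | one => exact ⟨0, map_zero _, hy.zero.symm⟩
  | mul x y _ _ hx hy' =>
    obtain ⟨a, ha, rfl⟩ := hx
    obtain ⟨b, hb, rfl⟩ := hy'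
    exact ⟨a + b, by unfold OPar at ha hb ⊢; rw [map_add, ha, hb], hy.add a b⟩
  | inv x _ hx =>
    obtain ⟨a, ha, rfl⟩ := hx
    refine ⟨-a, by unfold OPar at ha ⊢; rw [map_neg, ha], inv_eq_of_mul_eq_one_right ?_⟩
    rw [hy.add, add_neg_cancel, hy.zero]

omit hg in
theorem Y_mem_Ug {r : Fin D.nroots} (hr : r ∈ L.top :: L.qs) {t : F} (ht : OPar T r t) :
    Y T r t ∈ Ug T L.nu L.d := by
  obtain ⟨h1, h2⟩ := hL.root_mem hr
  exact ⟨Y_mem_U1 T R h1 ht, Y_mem_grade T hC hL.inv h2 t⟩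

omit R hg hC hL in
/-- The preimage of the radical. -/
def radPre (σ : Γ →* ↥T.G1) (L : Lvl D) : Subgroup Γ := (Ug T L.nu L.d).comap (im σ)

omit R hg hC hL in
/-- The lift of the centre. -/
def topLift (σ : Γ →* ↥T.G1) (L : Lvl D) (cθ : Fin D.rank → Fˣ) : Subgroup Γ :=
  Subgroup.closure {g | ∃ x, OPar T L.top x ∧ g = Lc σ cθ L.top x}

omit R hg hC hL in
/-- The complement in the preimage of the radical. -/
def lvlLift (σ : Γ →* ↥T.G1) (L : Lvl D) (cη cθ : Fin D.rank → Fˣ) : Subgroup Γ :=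
  topLift σ L cθ ⊔ Subgroup.closure {g | ∃ r ∈ L.qs, ∃ t, OPar T r t ∧ g = Lc σ cη r t}

include E

theorem radPre_le {H : Subgroup Γ} (hZ : σ.ker ≤ H)
    (h : ∀ r ∈ L.top :: L.qs, ∀ t, OPar T r t → sec σ (Y T r t) ∈ H) : radPre σ L ≤ H := by
  intro γ hγ
  have h' : im σ γ ∈ H.map (im σ) := by
    have hγ' : im σ γ ∈ Subgroup.closure (YSet T L.nu L.d) := by
      rw [← Ug_eq_closure T hC R hg hL.inv]; exact hγ
    refine (Subgroup.closure_le _).2 ?_ hγ'
    rintro _ ⟨r, t, hr, hm, ht, rfl⟩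
    obtain ⟨s, hs, i, rfl⟩ := hL.cover r hr hm
    obtain ⟨t', ht', e⟩ := Y_orbit_rep R s (hL.root_mem hs).1 i t ht
    exact ⟨sec σ (Y T s t'), h s hs t' ht',
      (E.im_sec ((yFacts_of_pos R (hL.root_mem hs).1).mem _ ht')).trans e.symm⟩
  obtain ⟨δ, hδ, e⟩ := Subgroup.mem_map.1 h'
  have hz : δ⁻¹ * γ ∈ σ.ker := MonoidHom.mem_ker.2 (by
    rw [map_mul, map_inv, show σ γ = σ δ from Subtype.ext e.symm, inv_mul_cancel])
  simpa using mul_mem hδ (hZ hz)

omit hg hC in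
theorem mem_topLift {g : Γ} :
    g ∈ topLift σ L cθ ↔ ∃ x, OPar T L.top x ∧ g = Lc σ cθ L.top x := by
  have hy := top_yFacts R hL
  have hs := hL.self _ List.mem_cons_self
  refine ⟨fun h => ?_, fun h => Subgroup.subset_closure h⟩
  induction h using Subgroup.closure_induction with
  | mem x hx => exact hx
  | one => exact ⟨0, map_zero _, (E.Lc_zero R hy).symm⟩
  | mul x y _ _ hx hy' =>
    obtain ⟨a, ha, rfl⟩ := hx
    obtain ⟨b, hb, rfl⟩ := hy'
    exact ⟨a + b, by unfold OPar at ha hb ⊢; rw [map_add, ha, hb],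
      (E.Lc_add R hy hs hL.cθ_mem hL.cθ_move ha hb).symm⟩
  | inv x _ hx =>
    obtain ⟨a, ha, rfl⟩ := hx
    have hn : OPar T L.top (-a) := by unfold OPar at ha ⊢; rw [map_neg, ha]
    refine ⟨-a, hn, inv_eq_of_mul_eq_one_right ?_⟩
    rw [← E.Lc_add R hy hs hL.cθ_mem hL.cθ_move ha hn, add_neg_cancel, E.Lc_zero R hy]

omit hg hC in
theorem im_topLift {g : Γ} (h : g ∈ topLift σ L cθ) :
    ∃ x, OPar T L.top x ∧ im σ g = Y T L.top x := by
  obtain ⟨x, hx, rfl⟩ := (mem_topLift R E hL).1 h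
  exact ⟨x, hx, E.im_Lc R (top_yFacts R hL) hL.cθ_mem hL.cθ_move hx⟩

omit hg in
theorem topLift_le : topLift σ L cθ ≤ radPre σ L := fun g hg' => by
  obtain ⟨x, hx, e⟩ := im_topLift R E hL hg'
  show im σ g ∈ Ug T L.nu L.d
  rw [e]
  exact Y_mem_Ug R hC hL List.mem_cons_self hx

theorem top_central {g γ : Γ} (hr : g ∈ topLift σ L cθ) (hγ : γ ∈ radPre σ L) : Commute g γ := by
  obtain ⟨x, hx, e⟩ := im_topLift R E hL hr
  suffices H : radPre σ L ≤ Subgroup.centralizer {g} from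
    (Subgroup.mem_centralizer_singleton_iff.1 (H hγ)).symm
  refine radPre_le R E hg hC hL (fun z hz => Subgroup.mem_centralizer_singleton_iff.2
    (Subgroup.mem_center_iff.1 (E.cen hz) g).symm) fun r hr' t ht => ?_
  rw [Subgroup.mem_centralizer_singleton_iff]
  refine (Commute.eq ?_).symm
  have hi := E.im_sec ((yFacts_of_pos R (hL.root_mem hr').1).mem _ ht)
  rcases List.mem_cons.1 hr' with rfl | hr''
  · exact hL.self _ List.mem_cons_self x t hx ht _ _ e hi
  · exact hL.top_com r (List.mem_append_left _ hr'') x t hx ht _ _ e hi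

theorem derived_le {x y : Γ} (hx : x ∈ radPre σ L) (hy : y ∈ radPre σ L) :
    ⁅x, y⁆ ∈ topLift σ L cθ := by
  have hcomm : ∀ r ∈ L.top :: L.qs, ∀ s ∈ L.top :: L.qs, ∀ t t', OPar T r t → OPar T s t' →
      ∀ a b, im σ a = Y T r t → im σ b = Y T s t' → ⁅a, b⁆ ∈ topLift σ L cθ := by
    intro r hr s hs t t' ht ht' a b ha hb
    have one_of : Commute a b → ⁅a, b⁆ ∈ topLift σ L cθ := fun h => by
      rw [commutatorElement_eq_one_iff_commute.2 h]; exact one_mem _
    rcases List.mem_cons.1 hr with rfl | hr'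
    · rcases List.mem_cons.1 hs with rfl | hs'
      · exact one_of (hL.self _ hr t t' ht ht' a b ha hb)
      · exact one_of (hL.top_com s (List.mem_append_left _ hs') t t' ht ht' a b ha hb)
    rcases List.mem_cons.1 hs with rfl | hs'
    · exact one_of ((hL.top_com r (List.mem_append_left _ hr') t' t ht' ht b a hb ha).symm)
    have hin : ∀ {p p' : Fin D.nroots}, p ∈ L.qs → p' ∈ L.qs → ∀ u u', OPar T p u → OPar T p' u' →
        ∃ x, OPar T L.top x ∧ ⁅Y T p u, Y T p' u'⁆ = Y T L.top x := by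
      intro p p' hp hp' u u' hu hu'
      have h1 := Y_mem_Ug R hC hL (List.mem_cons_of_mem _ hp) hu
      have h2 := Y_mem_Ug R hC hL (List.mem_cons_of_mem _ hp') hu'
      refine exists_top R hg hC hL ⟨?_, ?_⟩
      · rw [commutatorElement_def]
        exact T.U1.mul_mem (T.U1.mul_mem (T.U1.mul_mem h1.1 h2.1) (T.U1.inv_mem h1.1))
          (T.U1.inv_mem h2.1)
      · refine LV_anti (k := L.e) (l := L.d + L.d) (by have := hL.de; omega) ?_
        rw [commutatorElement_def]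
        exact comm_mem_LV h1.2 h2.2
    have hsep : ∀ {p p' : Fin D.nroots}, p ∈ L.qs → p' ∈ L.qs → Sep T p p' → ∀ {u u' : F},
        OPar T p u → OPar T p' u' → ∀ {a' b' : Γ}, im σ a' = Y T p u → im σ b' = Y T p' u' →
        ⁅a', b'⁆ ∈ topLift σ L cθ := by
      intro p p' hp hp' ⟨c, hc, h1, h0⟩ u u' hu hu' a' b' ha' hb'
      obtain ⟨x, hx, e⟩ := E.br_sep R (yFacts_of_pos R (hL.pos p hp).1) (top_yFacts R hL)
        (hL.self _ List.mem_cons_self) hL.cθ_mem hL.cθ_move hc h1 h0 (hin hp hp')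
        (hL.top_com p (List.mem_append_left _ hp)) hu hu' ha' hb'
      exact (mem_topLift R E hL).2 ⟨x, hx, e⟩
    rcases hL.sep r hr' s hs' with rfl | h | h
    · exact one_of (hL.self _ hr t t' ht ht' a b ha hb)
    · exact hsep hr' hs' h ht ht' ha hb
    · rw [← commutatorElement_inv]
      exact inv_mem (hsep hs' hr' h ht' ht hb ha)
  -- the elements with all commutators in the lift of the centre
  have hR := fun {g} (h : g ∈ topLift σ L cθ) => topLift_le R E hC hL h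
  let H : Γ → Subgroup Γ := fun a =>
    { carrier := {y | y ∈ radPre σ L ∧ ⁅a, y⁆ ∈ topLift σ L cθ}
      one_mem' := ⟨one_mem _, by rw [commutatorElement_one_right]; exact one_mem _⟩
      mul_mem' := by
        rintro p q ⟨hp, hp'⟩ ⟨hq, hq'⟩
        refine ⟨mul_mem hp hq, ?_⟩
        rw [commElem_mul_right, ← (top_central R E hg hC hL hq' hp).eq, mul_inv_cancel_right]
        exact mul_mem hp' hq'
      inv_mem' := by
        rintro p ⟨hp, hp'⟩
        refine ⟨inv_mem hp, ?_⟩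
        rw [show ⁅a, p⁻¹⁆ = p⁻¹ * ⁅a, p⁆⁻¹ * p by simp only [commutatorElement_def]; group,
          mul_assoc, (top_central R E hg hC hL (inv_mem hp') hp).eq, inv_mul_cancel_left]
        exact inv_mem hp' }
  have hker : ∀ a, ∀ z ∈ σ.ker, ⁅a, z⁆ ∈ topLift σ L cθ := fun a z hz => by
    rw [E.br_of_one (congrArg Subtype.val (MonoidHom.mem_ker.1 hz))]; exact one_mem _
  have hkerW : σ.ker ≤ radPre σ L := fun z hz => by
    show im σ z ∈ Ug T L.nu L.d
    rw [show im σ z = 1 from congrArg Subtype.val (MonoidHom.mem_ker.1 hz)]; exact one_mem _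
  have hsec : ∀ r ∈ L.top :: L.qs, ∀ t, OPar T r t → sec σ (Y T r t) ∈ radPre σ L ∧
      im σ (sec σ (Y T r t)) = Y T r t := fun r hr t ht => by
    have := E.im_sec ((yFacts_of_pos R (hL.root_mem hr).1).mem _ ht)
    exact ⟨show im σ _ ∈ Ug T L.nu L.d by rw [this]; exact Y_mem_Ug R hC hL hr ht, this⟩
  have step1 : ∀ r ∈ L.top :: L.qs, ∀ t, OPar T r t → radPre σ L ≤ H (sec σ (Y T r t)) :=
    fun r hr t ht => radPre_le R E hg hC hL (fun z hz => ⟨hkerW hz, hker _ z hz⟩)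
      fun s hs t' ht' => ⟨(hsec s hs t' ht').1,
        hcomm r hr s hs t t' ht ht' _ _ (hsec r hr t ht).2 (hsec s hs t' ht').2⟩
  refine (radPre_le R E hg hC hL (H := H x) (fun z hz => ⟨hkerW hz, hker _ z hz⟩)
    (fun s hs t' ht' => ⟨(hsec s hs t' ht').1, ?_⟩) hy).2
  rw [← commutatorElement_inv]
  exact inv_mem (step1 s hs t' ht' hx).2

omit hg in
theorem lvlLift_le : lvlLift σ L cη cθ ≤ radPre σ L := by
  refine sup_le (topLift_le R E hC hL) ((Subgroup.closure_le _).2 ?_)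
  rintro _ ⟨r, hr, t, ht, rfl⟩
  show im σ _ ∈ Ug T L.nu L.d
  rw [E.im_Lc R (yFacts_of_pos R (hL.pos r hr).1) hL.cη_mem (hL.cη_move r hr) ht]
  exact Y_mem_Ug R hC hL (List.mem_cons_of_mem _ hr) ht

theorem br_eta_mem {η y : Γ} (hη : im σ η = torusHom cη) (hy : y ∈ radPre σ L) :
    ⁅η, y⁆ ∈ lvlLift σ L cη cθ := by
  have hV := lvlLift_le R E hC hL
  have hRV : topLift σ L cθ ≤ lvlLift σ L cη cθ := le_sup_left
  have hconj : ∀ a ∈ radPre σ L, ∀ v ∈ lvlLift σ L cη cθ,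
      a * v * a⁻¹ ∈ lvlLift σ L cη cθ := fun a ha v hv => by
    rw [show a * v * a⁻¹ = ⁅a, v⁆ * v by simp only [commutatorElement_def]; group]
    exact mul_mem (hRV (derived_le R E hg hC hL ha (hV hv))) hv
  let H : Subgroup Γ :=
    { carrier := {p | p ∈ radPre σ L ∧ ⁅η, p⁆ ∈ lvlLift σ L cη cθ}
      one_mem' := ⟨one_mem _, by rw [commutatorElement_one_right]; exact one_mem _⟩
      mul_mem' := by
        rintro p q ⟨hp, hp'⟩ ⟨hq, hq'⟩
        refine ⟨mul_mem hp hq, ?_⟩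
        rw [commElem_mul_right]
        exact mul_mem hp' (hconj p hp _ hq')
      inv_mem' := by
        rintro p ⟨hp, hp'⟩
        refine ⟨inv_mem hp, ?_⟩
        rw [show ⁅η, p⁻¹⁆ = p⁻¹ * ⁅η, p⁆⁻¹ * p⁻¹⁻¹ by simp only [commutatorElement_def]; group]
        exact hconj _ (inv_mem hp) _ (inv_mem hp') }
  refine (radPre_le R E hg hC hL (H := H) (fun z hz => ?_) (fun r hr t ht => ?_) hy).2
  · have h1 : im σ z = 1 := congrArg Subtype.val (MonoidHom.mem_ker.1 hz)
    refine ⟨show im σ z ∈ Ug T L.nu L.d by rw [h1]; exact one_mem _, ?_⟩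
    rw [E.br_of_one h1]; exact one_mem _
  · have hi := E.im_sec ((yFacts_of_pos R (hL.root_mem hr).1).mem _ ht)
    refine ⟨show im σ _ ∈ Ug T L.nu L.d by rw [hi]; exact Y_mem_Ug R hC hL hr ht, ?_⟩
    have hm : ∀ r, OPar T r t → OPar T r ((chi cη r - 1) * t) := fun r ht => by
      have := opar_chi R hL.cη_mem r
      unfold OPar at this ht ⊢
      rw [map_mul, map_sub, map_one, this, ht]
    rcases List.mem_cons.1 hr with rfl | hr'
    · rw [E.br_torus R (top_yFacts R hL) (hL.self _ hr) hL.cθ_mem hL.cθ_move hL.cη_mem hη ht hi]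
      exact hRV (Subgroup.subset_closure ⟨_, hm _ ht, rfl⟩)
    · rw [E.br_torus R (yFacts_of_pos R (hL.pos r hr').1) (hL.self _ hr) hL.cη_mem
        (hL.cη_move r hr') hL.cη_mem hη ht hi]
      exact Subgroup.mem_sup_right (Subgroup.subset_closure ⟨r, hr', _, hm _ ht, rfl⟩)

/-- Elements over later root groups conjugate the lifted radical into itself. -/
theorem conj_lvlLift {l : Fin D.nroots} (hl : l ∈ L.ls) {t : F} (ht : OPar T l t) {γ : Γ}
    (hγ : im σ γ = Y T l t) {v : Γ} (hv : v ∈ lvlLift σ L cη cθ) :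
    γ * v * γ⁻¹ ∈ lvlLift σ L cη cθ := by
  obtain ⟨hlp, hlg⟩ := hL.ls_pos l hl
  have hh := T.T1_le_G1 ⟨cη, hL.cη_mem, rfl⟩
  refine (?_ : lvlLift σ L cη cθ ≤ (lvlLift σ L cη cθ).comap (MulAut.conj γ).toMonoidHom) hv
  refine sup_le (fun g hg' => ?_) ((Subgroup.closure_le _).2 ?_)
  · show γ * g * γ⁻¹ ∈ lvlLift σ L cη cθ
    obtain ⟨x, hx, e⟩ := im_topLift R E hL hg'
    rw [(hL.top_com l (List.mem_append_right _ hl) x t hx ht g γ e hγ).symm.eq,
      mul_inv_cancel_right]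
    exact Subgroup.mem_sup_left hg'
  · rintro _ ⟨r, hr, s, hs, rfl⟩
    show γ * Lc σ cη r s * γ⁻¹ ∈ lvlLift σ L cη cθ
    have hd : γ * sec σ (torusHom cη) * γ⁻¹ ∈ {η | im σ η = torusHom cη} := by
      show im σ _ = _
      rw [map_mul, map_mul, map_inv, hγ, E.im_sec hh]
      have h1 := torus_conj_Y R hL.cη_mem l t
      rw [hL.ls_fix l hl, one_mul, mul_inv_eq_iff_eq_mul] at h1
      rw [← h1, mul_inv_cancel_right]
    rw [Lc, commElem_conj]
    refine br_eta_mem R E hg hC hL hd ?_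
    have hp := opar_div R hL.cη_mem (c := cη) hs
    obtain ⟨hrp, hrg⟩ := hL.pos r hr
    show im σ _ ∈ Ug T L.nu L.d
    rw [map_mul, map_mul, map_inv, hγ, E.im_sec ((yFacts_of_pos R hrp).mem _ hp)]
    set g := Y T r (s / (chi cη r - 1))
    have h1 := Y_mem_Ug R hC hL (List.mem_cons_of_mem _ hr) hp
    have hlU := Y_mem_U1 T R hlp ht
    refine ⟨T.U1.mul_mem (T.U1.mul_mem hlU h1.1) (T.U1.inv_mem hlU), ?_⟩
    rw [show Y T l t * g * (Y T l t)⁻¹ = Y T l t * g * (Y T l t)⁻¹ * g⁻¹ * g by group]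
    exact mul_mem (LV_anti (k := L.d) (l := 0 + L.d) (by omega) (comm_mem_LV
      (Y_mem_grade T hC hL.inv (m := 0) (by exact_mod_cast hlg) t) h1.2)) h1.2

variable [Finite Γ]

theorem mem_normalizer_lvlLift {γ : Γ}
    (hγ : im σ γ ∈ Subgroup.closure {x | ∃ l ∈ L.ls, ∃ t, OPar T l t ∧ x = Y T l t}) :
    γ ∈ Subgroup.normalizer (lvlLift σ L cη cθ : Set Γ) := by
  set N := Subgroup.normalizer (lvlLift σ L cη cθ : Set Γ)
  obtain ⟨δ, hδ, e⟩ : ∃ δ ∈ N, im σ δ = im σ γ := by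
    refine Subgroup.mem_map.1 ((Subgroup.closure_le _).2 ?_ hγ)
    rintro _ ⟨l, hl, t, ht, rfl⟩
    have hy := yFacts_of_pos R (hL.ls_pos l hl).1
    refine ⟨sec σ (Y T l t), ?_, E.im_sec (hy.mem t ht)⟩
    have hi := E.im_sec (hy.mem t ht)
    show sec σ (Y T l t) ∈ N
    rw [Subgroup.mem_normalizer_iff]
    refine fun v => ⟨fun h => conj_lvlLift R E hg hC hL hl ht hi h, fun h => ?_⟩
    have hn : OPar T l (-t) := by unfold OPar at ht ⊢; rw [map_neg, ht]
    have hi' : im σ (sec σ (Y T l t))⁻¹ = Y T l (-t) := by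
      rw [map_inv, hi]
      refine inv_eq_of_mul_eq_one_right ?_
      rw [hy.add, add_neg_cancel, hy.zero]
    have := conj_lvlLift R E hg hC hL hl hn hi' h
    simpa [mul_assoc] using this
  rw [show γ = δ * (δ⁻¹ * γ) by group]
  refine mul_mem hδ (Subgroup.center_le_normalizer _ (E.cen_mem ?_))
  rw [map_mul, map_inv, e, inv_mul_cancel]

omit [Finite Γ] in
theorem Ug_le_map : Ug T L.nu L.d ≤ (lvlLift σ L cη cθ).map (im σ) := by
  rw [Ug_eq_closure T hC R hg hL.inv, Subgroup.closure_le]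
  rintro _ ⟨r, t, hr, hm, ht, rfl⟩
  obtain ⟨s, hs, i, rfl⟩ := hL.cover r hr hm
  obtain ⟨t', ht', e⟩ := Y_orbit_rep R s (hL.root_mem hs).1 i t ht
  rw [e]
  rcases List.mem_cons.1 hs with rfl | hs'
  · exact ⟨Lc σ cθ L.top t', Subgroup.mem_sup_left (Subgroup.subset_closure ⟨t', ht', rfl⟩),
      E.im_Lc R (top_yFacts R hL) hL.cθ_mem hL.cθ_move ht'⟩
  · exact ⟨Lc σ cη s t',
      Subgroup.mem_sup_right (Subgroup.subset_closure ⟨s, hs', t', ht', rfl⟩),
      E.im_Lc R (yFacts_of_pos R (hL.pos s hs').1) hL.cη_mem (hL.cη_move s hs') ht'⟩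

variable [Fintype F]

theorem card_lvlLift :
    Nat.card ↥(lvlLift σ L cη cθ) ≤
      ((L.top :: L.qs).map fun r => Nat.card {t : F // OPar T r t}).prod := by
  have hR0 : Nat.card ↥(topLift σ L cθ) ≤ Nat.card {t : F // OPar T L.top t} := by
    refine Nat.card_le_card_of_surjective
      (fun t => (⟨Lc σ cθ L.top (t : F), (mem_topLift R E hL).2 ⟨_, t.2, rfl⟩⟩ :
        ↥(topLift σ L cθ))) ?_
    rintro ⟨g, hg'⟩
    obtain ⟨x, hx, rfl⟩ := (mem_topLift R E hL).1 hg'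
    exact ⟨⟨x, hx⟩, rfl⟩
  have key : ∀ l : List (Fin D.nroots), (∀ r ∈ l, r ∈ L.qs) →
      ∃ H : Subgroup Γ, topLift σ L cθ ≤ H ∧ H ≤ lvlLift σ L cη cθ ∧
        (∀ r ∈ l, ∀ t, OPar T r t → Lc σ cη r t ∈ H) ∧
        Nat.card ↥H ≤ ((L.top :: l).map fun r => Nat.card {t : F // OPar T r t}).prod := by
    intro l
    induction l with
    | nil => exact fun _ => ⟨_, le_rfl, le_sup_left, by simp, by simpa using hR0⟩
    | cons r l ih =>
      intro hsub
      obtain ⟨H, hRH, hHV, hmem, hcard⟩ := ih fun s hs => hsub s (List.mem_cons_of_mem _ hs)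
      have hr := hsub r List.mem_cons_self
      have hy := yFacts_of_pos R (hL.pos r hr).1
      have hs := hL.self r (List.mem_cons_of_mem _ hr)
      have hW := lvlLift_le R E hC hL
      let P : Subgroup Γ :=
        { carrier := {g | ∃ t, OPar T r t ∧ g = Lc σ cη r t}
          one_mem' := ⟨0, map_zero _, (E.Lc_zero R hy).symm⟩
          mul_mem' := by
            rintro _ _ ⟨a, ha, rfl⟩ ⟨b, hb, rfl⟩
            exact ⟨a + b, by unfold OPar at ha hb ⊢; rw [map_add, ha, hb],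
              (E.Lc_add R hy hs hL.cη_mem (hL.cη_move r hr) ha hb).symm⟩
          inv_mem' := by
            rintro _ ⟨a, ha, rfl⟩
            have hn : OPar T r (-a) := by unfold OPar at ha ⊢; rw [map_neg, ha]
            refine ⟨-a, hn, inv_eq_of_mul_eq_one_right ?_⟩
            rw [← E.Lc_add R hy hs hL.cη_mem (hL.cη_move r hr) ha hn, add_neg_cancel,
              E.Lc_zero R hy] }
      have hPV : P ≤ lvlLift σ L cη cθ := by
        rintro _ ⟨t, ht, rfl⟩
        exact Subgroup.mem_sup_right (Subgroup.subset_closure ⟨r, hr, t, ht, rfl⟩)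
      have hn : P ≤ Subgroup.normalizer (H : Set Γ) := le_normalizer_of_conj fun g hg' x hx => by
        rw [show g * x * g⁻¹ = ⁅g, x⁆ * x by simp only [commutatorElement_def]; group]
        exact mul_mem (hRH (derived_le R E hg hC hL (hW (hPV hg')) (hW (hHV hx)))) hx
      refine ⟨H ⊔ P, hRH.trans le_sup_left, sup_le hHV hPV, fun s hs' t ht => ?_, ?_⟩
      · rcases List.mem_cons.1 hs' with rfl | hs'
        · exact Subgroup.mem_sup_right ⟨t, ht, rfl⟩
        · exact Subgroup.mem_sup_left (hmem s hs' t ht)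
      · refine (card_sup_le hn).trans ?_
        have hP : Nat.card ↥P ≤ Nat.card {t : F // OPar T r t} := by
          refine Nat.card_le_card_of_surjective
            (fun t => (⟨Lc σ cη r (t : F), ⟨_, t.2, rfl⟩⟩ : ↥P)) ?_
          rintro ⟨_, t, ht, rfl⟩
          exact ⟨⟨t, ht⟩, rfl⟩
        refine (Nat.mul_le_mul hcard hP).trans (le_of_eq ?_)
        simp only [List.map_cons, List.prod_cons]
        ring
  obtain ⟨H, hRH, -, hmem, hcard⟩ := key L.qs fun r hr => hr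
  refine le_trans (Subgroup.card_le_of_le ?_) hcard
  refine sup_le hRH ((Subgroup.closure_le _).2 ?_)
  rintro _ ⟨r, hr, t, ht, rfl⟩
  exact hmem r hr t ht

omit R hg hC hL in
/-- A kernel element of the derived group is killed by the index of a lifted positive unipotent
subgroup. -/
theorem pow_index_eq_one (P : Subgroup Γ) (hsurj : T.U1 ≤ P.map (im σ))
    (hle : P.map (im σ) ≤ T.U1) (hcard : Nat.card ↥P ≤ Nat.card ↥T.U1) {z : Γ} (hz : z ∈ σ.ker)
    (hzd : z ∈ commutator Γ) : z ^ (T.U1.subgroupOf T.G1).index = 1 := by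
  classical
  rw [← Subgroup.index_comap_of_surjective _ E.surj]
  set W := (T.U1.subgroupOf T.G1).comap σ with hW
  let f : ↥P → ↥T.U1 := fun x => ⟨im σ (x : Γ), hle ⟨_, x.2, rfl⟩⟩
  have hf : Function.Surjective f := fun ⟨g, hg⟩ => by
    obtain ⟨x, hx, ex⟩ := hsurj hg
    exact ⟨⟨x, hx⟩, Subtype.ext ex⟩
  have hb : Function.Bijective f := (Nat.bijective_iff_surjective_and_card f).2 ⟨hf,
    le_antisymm hcard (Nat.card_le_card_of_surjective f hf)⟩
  have hdec : ∀ w : ↥W, ∃ x : ↥P, im σ (x : Γ) = im σ (w : Γ) := fun w => by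
    obtain ⟨x, hx⟩ := hf ⟨im σ (w : Γ), w.2⟩
    exact ⟨x, congrArg (fun y : ↥T.U1 => (y : GL D.Idx F)) hx⟩
  choose v hv using hdec
  have huniq : ∀ (w : ↥W) (x : ↥P), im σ (x : Γ) = im σ (w : Γ) → v w = x := fun w x e =>
    hb.1 (Subtype.ext ((hv w).trans e.symm))
  have hs : ∀ a b : ↥W, v (a * b) = v a * v b := fun a b => huniq _ _ (by
    rw [Subgroup.coe_mul, Subgroup.coe_mul, map_mul, map_mul, hv, hv])
  letI : CommGroup ↥σ.ker := { (inferInstance : Group ↥σ.ker) with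
    mul_comm := fun x y => Subtype.ext (Subgroup.mem_center_iff.1 (E.cen y.2) x) }
  have hθ : ∀ w : ↥W, (w : Γ) * ((v w : ↥P) : Γ)⁻¹ ∈ σ.ker := fun w => by
    refine MonoidHom.mem_ker.2 ?_
    rw [map_mul, map_inv, mul_inv_eq_one]
    exact Subtype.ext (hv w).symm
  let θ : ↥W →* ↥σ.ker := MonoidHom.mk' (fun w => ⟨_, hθ w⟩) fun a b => Subtype.ext (by
    show ((a * b : ↥W) : Γ) * ((v (a * b) : ↥P) : Γ)⁻¹ =
      (a : Γ) * ((v a : ↥P) : Γ)⁻¹ * ((b : Γ) * ((v b : ↥P) : Γ)⁻¹)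
    rw [hs, Subgroup.coe_mul, Subgroup.coe_mul, _root_.mul_inv_rev,
      show (a : Γ) * (b : Γ) * (((v b : ↥P) : Γ)⁻¹ * ((v a : ↥P) : Γ)⁻¹) =
        (a : Γ) * ((b : Γ) * ((v b : ↥P) : Γ)⁻¹) * ((v a : ↥P) : Γ)⁻¹ by group,
      mul_assoc (a : Γ), ← Subgroup.mem_center_iff.1 (E.cen (hθ b)) _, mul_assoc])
  have hzW : z ∈ W := by
    show σ z ∈ T.U1.subgroupOf T.G1
    rw [MonoidHom.mem_ker.1 hz]
    exact one_mem _
  have h := MonoidHom.transfer_eq_pow θ z fun k g₀ _ => by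
    rw [mul_assoc, ← (Subgroup.mem_center_iff.1 (pow_mem (E.cen hz) k) g₀), inv_mul_cancel_left]
  rw [Abelianization.commutator_subset_ker _ hzd] at h
  have h' := congrArg Subtype.val h.symm
  change z ^ W.index * ((v _ : ↥P) : Γ)⁻¹ = 1 at h'
  rw [huniq _ 1 (by
      show im σ (1 : Γ) = im σ (z ^ W.index)
      rw [map_pow, show im σ z = 1 from congrArg Subtype.val (MonoidHom.mem_ker.1 hz), one_pow,
        map_one]), Subgroup.coe_one, inv_one, mul_one] at h'
  exact h'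

end Cfsg.Agent.Chev.TwMult
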