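import Cfsg.Agent.Chev.TwistMult.Peel
import Cfsg.Agent.Chev.TwistMult.Lifts
import Cfsg.Agent.DMult.Lift

/-!
Canonical lifts of fixed root groups in a central extension of a twisted group, made with
commutators with torus elements.
-/

set_option autoImplicit false
set_option maxHeartbeats 1000000
set_option linter.unusedSectionVars false

namespace Cfsg.Agent.Chev.TwMult

open Cfsg.Lie Cfsg.Agent.Chev Cfsg.Agent.Overgroup.Twisted
open Cfsg.Agent.Chev.CoTwist (im)
open scoped MatrixGroups commutatorElement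

universe u v

variable {D : ChevalleyDatum} {F : Type u} [Field F] (T : Twist D F)

theorem commElem_conj {G : Type*} [Group G] (g a b : G) :
    g * ⁅a, b⁆ * g⁻¹ = ⁅g * a * g⁻¹, g * b * g⁻¹⁆ := by
  simp only [commutatorElement_def]; group

theorem commElem_mul_left {G : Type*} [Group G] (a b c : G) :
    ⁅a * b, c⁆ = a * ⁅b, c⁆ * a⁻¹ * ⁅a, c⁆ := by
  simp only [commutatorElement_def]; group

theorem commElem_mul_right {G : Type*} [Group G] (a b c : G) :
    ⁅a, b * c⁆ = ⁅a, b⁆ * (b * ⁅a, c⁆ * b⁻¹) := by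
  simp only [commutatorElement_def]; group

/-- The scalar by which torus parameters act on a root. -/
noncomputable def chi (c : Fin D.rank → Fˣ) (r : Fin D.nroots) : F := (chiU c (r : ℕ) : F)

theorem chi_ne_zero (c : Fin D.rank → Fˣ) (r : Fin D.nroots) : chi c r ≠ 0 := Units.ne_zero _

theorem chi_rho {c : Fin D.rank → Fˣ} (hc : c ∈ T.cfix) (r : Fin D.nroots) :
    chi c (T.ρ r) = T.φ (chi c r) := by
  have e : chiU (fun i => Units.map T.φ.toMonoidHom (c (T.π.symm i))) (T.ρ r : ℕ) =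
      chiU (fun i => Units.map T.φ.toMonoidHom (c i)) (r : ℕ) :=
    T.chiU_perm (fun i => Units.map T.φ.toMonoidHom (c i)) r
  have h2 : (fun i => Units.map T.φ.toMonoidHom (c (T.π.symm i))) = c := T.mem_cfix.1 hc
  rw [h2] at e
  have h3 : chiU (fun i => Units.map T.φ.toMonoidHom (c i)) (r : ℕ) =
      Units.map T.φ.toMonoidHom (chiU c (r : ℕ)) := by
    rw [chiU, chiU, map_prod]
    exact Finset.prod_congr rfl fun i _ => (map_zpow _ _ _).symm
  rw [chi, chi, e, h3]
  rfl

/-- The product over an orbit of root elements in a twisted group. -/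
structure YFacts (r : Fin D.nroots) : Prop where
  add : ∀ s t : F, Y T r s * Y T r t = Y T r (s + t)
  mem : ∀ t : F, OPar T r t → Y T r t ∈ T.G1

variable {T}

theorem YFacts.zero {r : Fin D.nroots} (h : YFacts T r) : Y T r 0 = 1 := by
  have := h.add 0 0
  rwa [add_zero, mul_eq_left] at this

variable {mu : List (List ℤ)} (R : RootFacts D mu T.ρ T.ε T.k)
include R

theorem opar_chi {c : Fin D.rank → Fˣ} (hc : c ∈ T.cfix) (r : Fin D.nroots) :
    OPar T r (chi c r) := by
  have h : ∀ i, chi c (T.ρ^[i] r) = (T.φ ^ i) (chi c r) := fun i => by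
    induction i with
    | zero => rfl
    | succ i ih =>
      rw [Function.iterate_succ_apply', chi_rho T hc, ih, pow_succ']
      rfl
  rw [OPar, ← h, R.period r]

theorem yFacts_of_pos {r : Fin D.nroots} (hr : half D ≤ (r : ℕ)) : YFacts T r where
  add s t := by
    rw [Y, Y, Y, ← prod_map_mul_of_commute List.nodup_range fun i _ j _ _ =>
      commute_orbit T R hr i j _ _]
    refine congrArg List.prod (List.map_congr_left fun i _ => ?_)
    rw [xG_mul, map_add, mul_add]
  mem t ht := T.U1_le_G1 (Y_mem_U1 T R hr ht)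

theorem torus_conj_Y {c : Fin D.rank → Fˣ} (hc : c ∈ T.cfix) (r : Fin D.nroots) (t : F) :
    torusHom c * Y T r t * (torusHom c)⁻¹ = Y T r (chi c r * t) :=
  conj_Y T R (T.T1_le_fx ⟨c, hc, rfl⟩) rfl (fun v => by
    rw [torusHom_conj T.hF c r.2, mul_inv_cancel_right]; rfl) t

omit R
variable {Γ : Type v} [Group Γ] (σ : Γ →* ↥T.G1)

/-- A central extension. -/
structure CExt : Prop where
  surj : Function.Surjective σ
  cen : σ.ker ≤ Subgroup.center Γ

open scoped _root_.Classical in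
/-- Some lift of an element. -/
noncomputable def sec (g : GL D.Idx F) : Γ :=
  if h : ∃ a, im σ a = g then h.choose else 1

/-- Lifts commute. -/
def Com (g g' : GL D.Idx F) : Prop := ∀ a b, im σ a = g → im σ b = g' → Commute a b

/-- All lifts of two orbit groups commute. -/
def ComY (r s : Fin D.nroots) : Prop :=
  ∀ t t', OPar T r t → OPar T s t' → Com σ (Y T r t) (Y T s t')

/-- The canonical lift of an orbit group, from torus parameters. -/
noncomputable def Lc (c : Fin D.rank → Fˣ) (r : Fin D.nroots) (t : F) : Γ :=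
  ⁅sec σ (torusHom c), sec σ (Y T r (t / (chi c r - 1)))⁆

variable {σ} (E : CExt σ)
include E

theorem CExt.im_sec {g : GL D.Idx F} (hg : g ∈ T.G1) : im σ (sec σ g) = g := by
  have h : ∃ a, im σ a = g := ⟨_, congrArg Subtype.val (E.surj ⟨g, hg⟩).choose_spec⟩
  rw [sec, dif_pos h]
  exact h.choose_spec

theorem CExt.br_congr {a a' b b' : Γ} (ha : im σ a = im σ a') (hb : im σ b = im σ b') :
    ⁅a, b⁆ = ⁅a', b'⁆ :=
  DMult.br_indep E.cen (Subtype.ext ha) (Subtype.ext hb)

theorem CExt.cen_mem {γ : Γ} (h : im σ γ = 1) : γ ∈ Subgroup.center Γ :=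
  E.cen (MonoidHom.mem_ker.2 (Subtype.ext h))

theorem CExt.br_of_one {γ δ : Γ} (h : im σ δ = 1) : ⁅γ, δ⁆ = 1 :=
  commutatorElement_eq_one_iff_commute.2 (Subgroup.mem_center_iff.1 (E.cen_mem h) γ)

theorem CExt.fixes {z a b : Γ} (ha : Commute (im σ z) (im σ a)) (hb : Commute (im σ z) (im σ b)) :
    Commute z ⁅a, b⁆ := by
  have h := commElem_conj z a b
  rw [E.br_congr (a := z * a * z⁻¹) (a' := a) (b := z * b * z⁻¹) (b' := b)
    (by rw [map_mul, map_mul, map_inv, ha.eq, mul_inv_cancel_right])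
    (by rw [map_mul, map_mul, map_inv, hb.eq, mul_inv_cancel_right])] at h
  exact mul_inv_eq_iff_eq_mul.1 h

/-- Lifts commute with lifts of commutators of elements they commute with. -/
theorem CExt.com_br {g x y : GL D.Idx F} (hx : x ∈ T.G1) (hy : y ∈ T.G1) (h1 : Commute g x)
    (h2 : Commute g y) : Com σ g ⁅x, y⁆ := by
  intro a b ha hb
  have hbr : im σ ⁅sec σ x, sec σ y⁆ = ⁅x, y⁆ := by
    rw [map_commutatorElement, E.im_sec hx, E.im_sec hy]
  have hz : ⁅sec σ x, sec σ y⁆⁻¹ * b ∈ Subgroup.center Γ := E.cen_mem (by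
    rw [map_mul, map_inv, hbr, hb, inv_mul_cancel])
  rw [show b = ⁅sec σ x, sec σ y⁆ * (⁅sec σ x, sec σ y⁆⁻¹ * b) by group]
  exact (E.fixes (by rw [ha, E.im_sec hx]; exact h1) (by rw [ha, E.im_sec hy]; exact h2)).mul_right
    (Subgroup.mem_center_iff.1 hz a)

theorem CExt.com_conj {n x y : GL D.Idx F} (hn : n ∈ T.G1) (h : Com σ x y) :
    Com σ (n * x * n⁻¹) (n * y * n⁻¹) := by
  intro a b ha hb
  set γ := sec σ n
  have hγ : im σ γ = n := E.im_sec hn
  have key := h (γ⁻¹ * a * γ) (γ⁻¹ * b * γ)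
    (by rw [map_mul, map_mul, map_inv, hγ, ha]; group)
    (by rw [map_mul, map_mul, map_inv, hγ, hb]; group)
  have := congrArg (fun z => γ * z * γ⁻¹) key.eq
  simp only [← mul_assoc, mul_inv_cancel, one_mul, mul_inv_cancel_right] at this
  exact this

omit E in
theorem ComY.symm {r s : Fin D.nroots} (h : ComY σ r s) : ComY σ s r :=
  fun t t' ht ht' a b ha hb => (h t' t ht' ht b a hb ha).symm

/-- The self commutation of an orbit group from a decomposition. -/
theorem CExt.comY_self_of_dec {r a b : Fin D.nroots} (ha : YFacts T a) (hb : YFacts T b)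
    (hdec : ∀ t, OPar T r t → ∃ s s', OPar T a s ∧ OPar T b s' ∧ ⁅Y T a s, Y T b s'⁆ = Y T r t)
    (hca : ∀ t s, Commute (Y T r t) (Y T a s)) (hcb : ∀ t s, Commute (Y T r t) (Y T b s)) :
    ComY σ r r := by
  intro t t' _ ht'
  obtain ⟨s, s', hs, hs', e⟩ := hdec t' ht'
  rw [← e]
  exact E.com_br (ha.mem s hs) (hb.mem s' hs') (hca _ _) (hcb _ _)

include R

theorem CExt.comY_self_conj {r r' : Fin D.nroots} {n : GL D.Idx F} (hn : n ∈ T.G1) {d : F}
    (hl : olen T.ρ T.k r' = olen T.ρ T.k r)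
    (he : ∀ t : F, n * xG T.hF r t * n⁻¹ = xG T.hF r' (d * t)) (hd : d = 1 ∨ d = -1)
    (h : ComY σ r r) : ComY σ r' r' := by
  intro t t' ht ht'
  have hdd : d * d = 1 := by rcases hd with rfl | rfl <;> simp
  have hop : ∀ {t : F}, OPar T r' t → OPar T r (d * t) := fun {t} ht => by
    have hφd : (T.φ ^ olen T.ρ T.k r) d = d := by rcases hd with rfl | rfl <;> simp
    unfold OPar at ht ⊢
    rw [hl] at ht
    rw [map_mul, hφd, ht]
  have hY : ∀ t : F, n * Y T r (d * t) * n⁻¹ = Y T r' t := fun t => by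
    rw [conj_Y T R (T.G1_le_fx hn) hl he, ← mul_assoc, hdd, one_mul]
  rw [← hY t, ← hY t']
  exact E.com_conj hn (h _ _ (hop ht) (hop ht'))

variable {c : Fin D.rank → Fˣ} {r : Fin D.nroots}

omit E in
theorem opar_div (hc : c ∈ T.cfix) {t : F} (ht : OPar T r t) : OPar T r (t / (chi c r - 1)) := by
  have h := opar_chi R hc r
  unfold OPar at h ht ⊢
  rw [map_div₀, map_sub, map_one, h, ht]

theorem CExt.im_Lc (hy : YFacts T r) (hc : c ∈ T.cfix) (h1 : chi c r ≠ 1) {t : F}
    (ht : OPar T r t) : im σ (Lc σ c r t) = Y T r t := by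
  have hh : torusHom c ∈ T.G1 := T.T1_le_G1 ⟨c, hc, rfl⟩
  have hp := opar_div R hc ht
  rw [Lc, map_commutatorElement, E.im_sec hh, E.im_sec (hy.mem _ hp), commutatorElement_def,
    torus_conj_Y R hc, mul_inv_eq_iff_eq_mul, hy.add]
  congr 1
  field_simp [sub_ne_zero.2 h1]
  ring

theorem CExt.Lc_add (hy : YFacts T r) (hs : ComY σ r r) (hc : c ∈ T.cfix) (h1 : chi c r ≠ 1)
    {s t : F} (hs' : OPar T r s) (ht : OPar T r t) :
    Lc σ c r (s + t) = Lc σ c r s * Lc σ c r t := by
  have hp := opar_div R hc hs'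
  have hq := opar_div R hc ht
  have hadd : OPar T r (s / (chi c r - 1) + t / (chi c r - 1)) := by
    unfold OPar at hp hq ⊢
    rw [map_add, hp, hq]
  have e : Lc σ c r (s + t) = ⁅sec σ (torusHom c),
      sec σ (Y T r (s / (chi c r - 1))) * sec σ (Y T r (t / (chi c r - 1)))⁆ :=
    E.br_congr rfl (by
      rw [add_div, map_mul, E.im_sec (hy.mem _ hadd), E.im_sec (hy.mem _ hp),
        E.im_sec (hy.mem _ hq), hy.add])
  have hcm : Commute (sec σ (Y T r (s / (chi c r - 1)))) (Lc σ c r t) :=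
    hs _ t hp ht _ _ (E.im_sec (hy.mem _ hp)) (E.im_Lc R hy hc h1 ht)
  rw [e, commElem_mul_right, ← Lc, ← Lc, hcm.eq, mul_inv_cancel_right]

theorem CExt.Lc_zero (hy : YFacts T r) : Lc σ c r 0 = 1 := by
  rw [Lc]
  refine E.br_of_one ?_
  rw [zero_div, E.im_sec (hy.zero ▸ one_mem _), hy.zero]

theorem CExt.torus_conj_Lc (hy : YFacts T r) (hc : c ∈ T.cfix) {d : Fin D.rank → Fˣ}
    (hd : d ∈ T.cfix) {η : Γ} (hη : im σ η = torusHom d) {t : F} (ht : OPar T r t) :
    η * Lc σ c r t * η⁻¹ = Lc σ c r (chi d r * t) := by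
  have hh : torusHom c ∈ T.G1 := T.T1_le_G1 ⟨c, hc, rfl⟩
  have hp := opar_div R hc ht
  have hop : OPar T r (chi d r * t) := by
    have h := opar_chi R hd r
    unfold OPar at h ht ⊢
    rw [map_mul, h, ht]
  rw [Lc, Lc, commElem_conj]
  refine E.br_congr ?_ ?_
  · rw [map_mul, map_mul, map_inv, hη, E.im_sec hh, ← map_mul, mul_comm d, map_mul,
      mul_inv_cancel_right]
  · rw [map_mul, map_mul, map_inv, hη, E.im_sec (hy.mem _ hp), torus_conj_Y R hd,
      E.im_sec (hy.mem _ (opar_div R hc hop)), mul_div_assoc]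

/-- Every commutator of a torus lift with a lift of the orbit group is a canonical lift. -/
theorem CExt.br_torus (hy : YFacts T r) (hs : ComY σ r r) (hc : c ∈ T.cfix) (h1 : chi c r ≠ 1)
    {d : Fin D.rank → Fˣ} (hd : d ∈ T.cfix) {η γ : Γ} (hη : im σ η = torusHom d) {t : F}
    (ht : OPar T r t) (hγ : im σ γ = Y T r t) :
    ⁅η, γ⁆ = Lc σ c r ((chi d r - 1) * t) := by
  have hchi := opar_chi R hd r
  have hct : OPar T r (chi d r * t) := by unfold OPar at ht hchi ⊢; rw [map_mul, hchi, ht]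
  have hm : OPar T r ((chi d r - 1) * t) := by
    unfold OPar at ht hchi ⊢; rw [map_mul, map_sub, map_one, hchi, ht]
  rw [E.br_congr (a := η) (a' := η) (b := γ) (b' := Lc σ c r t) rfl
    (by rw [hγ, E.im_Lc R hy hc h1 ht]), commutatorElement_def,
    E.torus_conj_Lc R hy hc hd hη ht, mul_inv_eq_iff_eq_mul, ← E.Lc_add R hy hs hc h1 hm ht]
  congr 1
  ring

omit R in
theorem CExt.br_add {a a' b : Γ} (h : Commute a ⁅a', b⁆) :
    ⁅a * a', b⁆ = ⁅a', b⁆ * ⁅a, b⁆ := by
  rw [commElem_mul_left, h.eq, mul_inv_cancel_right]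

/-- Commuting orbit groups separated by the torus have commuting lifts. -/
theorem CExt.comY_of_sep {s : Fin D.nroots} (hr : YFacts T r)
    (hc : c ∈ T.cfix) (h1 : chi c r ≠ 1) (h0 : chi c s = 1)
    (hcomm : ∀ t t', Commute (Y T r t) (Y T s t')) : ComY σ r s := by
  intro t t' ht ht' a b ha hb
  set η := sec σ (torusHom c)
  have hη : im σ η = torusHom c := E.im_sec (T.T1_le_G1 ⟨c, hc, rfl⟩)
  set x := t / (chi c r - 1)
  have hx : OPar T r x := opar_div R hc ht
  set A := sec σ (Y T r x)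
  have hA : im σ A = Y T r x := E.im_sec (hr.mem _ hx)
  have hAb : im σ ⁅A, b⁆ = 1 := by
    rw [map_commutatorElement, hA, hb]
    exact commutatorElement_eq_one_iff_commute.2 (hcomm _ _)
  have hab : im σ ⁅a, b⁆ = 1 := by
    rw [map_commutatorElement, ha, hb]
    exact commutatorElement_eq_one_iff_commute.2 (hcomm _ _)
  have e1 : η * ⁅A, b⁆ * η⁻¹ = ⁅a * A, b⁆ := by
    rw [commElem_conj]
    refine E.br_congr ?_ ?_
    · rw [map_mul, map_mul, map_inv, hη, hA, torus_conj_Y R hc, map_mul, ha, hA, hr.add]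
      congr 1
      simp only [x]
      field_simp [sub_ne_zero.2 h1]
      ring
    · rw [map_mul, map_mul, map_inv, hη, hb, torus_conj_Y R hc, h0, one_mul]
  have hcen := fun g => Subgroup.mem_center_iff.1 (E.cen_mem hAb) g
  rw [(hcen η), mul_inv_cancel_right, E.br_add (hcen a), left_eq_mul] at e1
  exact commutatorElement_eq_one_iff_commute.1 e1

/-- A commutator of lifts of separated orbit groups falling into a central orbit group is a
canonical lift. -/
theorem CExt.br_sep {s z : Fin D.nroots} {cz : Fin D.rank → Fˣ} (hr : YFacts T r)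
    (hz : YFacts T z) (hzz : ComY σ z z) (hcz : cz ∈ T.cfix) (hz1 : chi cz z ≠ 1)
    (hc : c ∈ T.cfix) (h1 : chi c r ≠ 1) (h0 : chi c s = 1)
    (hcom : ∀ t t', OPar T r t → OPar T s t' → ∃ x, OPar T z x ∧ ⁅Y T r t, Y T s t'⁆ = Y T z x)
    (hzr : ComY σ z r) {a b : Γ} {t t' : F} (ht : OPar T r t) (ht' : OPar T s t')
    (ha : im σ a = Y T r t) (hb : im σ b = Y T s t') :
    ∃ x, OPar T z x ∧ ⁅a, b⁆ = Lc σ cz z x := by
  set η := sec σ (torusHom c)
  have hη : im σ η = torusHom c := E.im_sec (T.T1_le_G1 ⟨c, hc, rfl⟩)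
  set x := t / (chi c r - 1)
  have hx : OPar T r x := opar_div R hc ht
  set A := sec σ (Y T r x)
  have hA : im σ A = Y T r x := E.im_sec (hr.mem _ hx)
  obtain ⟨w, hw, ew⟩ := hcom x t' hx ht'
  have hAb : im σ ⁅A, b⁆ = Y T z w := by rw [map_commutatorElement, hA, hb, ew]
  have e1 : η * ⁅A, b⁆ * η⁻¹ = ⁅a * A, b⁆ := by
    rw [commElem_conj]
    refine E.br_congr ?_ ?_
    · rw [map_mul, map_mul, map_inv, hη, hA, torus_conj_Y R hc, map_mul, ha, hA, hr.add]
      congr 1
      simp only [x]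
      field_simp [sub_ne_zero.2 h1]
      ring
    · rw [map_mul, map_mul, map_inv, hη, hb, torus_conj_Y R hc, h0, one_mul]
  have hcA : Commute a ⁅A, b⁆ := (hzr w t hw ht _ _ hAb ha).symm
  have e2 := E.br_torus R hz hzz hcz hz1 hc hη hw hAb
  obtain ⟨w', hw', ew'⟩ := hcom t t' ht ht'
  have hab : im σ ⁅a, b⁆ = Y T z w' := by rw [map_commutatorElement, ha, hb, ew']
  have hswap : Commute ⁅A, b⁆ ⁅a, b⁆ := hzz w w' hw hw' _ _ hAb hab
  rw [E.br_add hcA, hswap.eq] at e1
  refine ⟨(chi c z - 1) * w, ?_, ?_⟩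
  · have := opar_chi R hc z
    unfold OPar at this hw ⊢
    rw [map_mul, map_sub, map_one, this, hw]
  · rw [← e2, commutatorElement_def η, e1, mul_inv_cancel_right]

end Cfsg.Agent.Chev.TwMult
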